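import Mathlib

/-!
# The Coxeter presentation of the symmetric group

`Cfsg.Agent.H346.CoxA.exists_hom` : elements `s i` (`i < n`) of a group with the Coxeter relations of type `A_n` are the
images of the adjacent transpositions under a homomorphism from `Equiv.Perm (Fin (n + 1))`.
-/

set_option autoImplicit false

namespace Cfsg.Agent.H346.CoxA

open Equiv

/-- The Coxeter relations of type `A_n`. -/
structure Rel {Γ : Type*} [Group Γ] (n : ℕ) (s : ℕ → Γ) : Prop where
  sq : ∀ i, i < n → s i * s i = 1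
  braid : ∀ i, i + 1 < n → s i * s (i + 1) * s i = s (i + 1) * s i * s (i + 1)
  comm : ∀ i j, i + 1 < j → j < n → s i * s j = s j * s i

namespace Rel

variable {Γ : Type*} [Group Γ] {n : ℕ} {s : ℕ → Γ}

theorem shift (h : Rel (n + 1) s) : Rel n (fun i => s (i + 1)) where
  sq i hi := h.sq (i + 1) (by omega)
  braid i hi := h.braid (i + 1) (by omega)
  comm i j hij hj := h.comm (i + 1) (j + 1) (by omega) (by omega)

/-- `s 0 * s 1 * ⋯ * s (k - 1)` -/
def r (s : ℕ → Γ) : ℕ → Γ
  | 0 => 1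
  | k + 1 => r s k * s k

theorem r_comm (h : Rel n s) : ∀ k i, k < i → i < n → r s k * s i = s i * r s k := by
  intro k
  induction k with
  | zero => intro i _ _; simp [r]
  | succ k ih =>
    intro i hk hi
    rw [r, mul_assoc, h.comm k i hk hi, ← mul_assoc, ih i (by omega) hi, mul_assoc]

theorem r_shift (h : Rel n s) : ∀ k i, i + 1 < k → k ≤ n → r s k * s i = s (i + 1) * r s k := by
  intro k
  induction k using Nat.strong_induction_on with
  | _ k ih =>
  intro i hik hk
  obtain ⟨l, rfl⟩ : ∃ l, k = l + 2 := ⟨k - 2, by omega⟩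
  rcases Nat.lt_or_ge i l with hil | hil
  · -- `s (l + 1)` commutes with `s i`
    rw [r, mul_assoc, ← h.comm i (l + 1) (by omega) (by omega), ← mul_assoc,
      ih (l + 1) (by omega) i (by omega) (by omega), mul_assoc]
  · have : i = l := by omega
    subst this
    have h1 := h.braid i (by omega)
    have h2 := h.r_comm i (i + 1) (by omega) (by omega)
    calc r s (i + 2) * s i = r s i * (s i * s (i + 1) * s i) := by rw [r, r]; group
      _ = (r s i * s (i + 1)) * s i * s (i + 1) := by rw [h1]; group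
      _ = s (i + 1) * r s (i + 2) := by rw [h2, r, r]; group

/-- the generated subgroup -/
def H (n : ℕ) (s : ℕ → Γ) : Subgroup Γ := Subgroup.closure {g | ∃ i, i < n ∧ g = s i}

theorem mem_H {i : ℕ} (hi : i < n) : s i ∈ H n s := Subgroup.subset_closure ⟨i, hi, rfl⟩

theorem H_le (h : Rel (n + 1) s) : ∀ g ∈ H (n + 1) s,
    ∃ a ∈ H n (fun i => s (i + 1)), ∃ k, k ≤ n + 1 ∧ g = a * r s k := by
  intro g hg
  have hinv : ∀ i, i < n + 1 → (s i)⁻¹ = s i := fun i hi => inv_eq_of_mul_eq_one_left (h.sq i hi)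
  have step : ∀ g, (∃ a ∈ H n (fun i => s (i + 1)), ∃ k, k ≤ n + 1 ∧ g = a * r s k) → ∀ i, i < n + 1 →
      ∃ a ∈ H n (fun i => s (i + 1)), ∃ k, k ≤ n + 1 ∧ g * s i = a * r s k := by
    rintro _ ⟨a, ha, k, hk, rfl⟩ i hi
    rcases Nat.lt_trichotomy i k with hik | hik | hik
    · rcases Nat.lt_or_ge (i + 1) k with h1 | h1
      · refine ⟨a * s (i + 1), mul_mem ha (mem_H (s := fun i => s (i + 1)) (i := i) (by omega)), k, hk, ?_⟩
        rw [mul_assoc, h.r_shift k i h1 hk, mul_assoc]
      · have : k = i + 1 := by omega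
        subst this
        refine ⟨a, ha, i, by omega, ?_⟩
        rw [r, mul_assoc, mul_assoc, h.sq i hi, mul_one]
    · subst hik
      exact ⟨a, ha, i + 1, by omega, by rw [r, mul_assoc]⟩
    · refine ⟨a * s i, mul_mem ha ?_, k, hk, ?_⟩
      · obtain ⟨j, rfl⟩ : ∃ j, i = j + 1 := ⟨i - 1, by omega⟩
        exact mem_H (s := fun i => s (i + 1)) (i := j) (by omega)
      · rw [mul_assoc, h.r_comm k i hik hi, mul_assoc]
  refine Subgroup.closure_induction_right (p := fun g _ => ∃ a ∈ H n (fun i => s (i + 1)), ∃ k, k ≤ n + 1 ∧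
    g = a * r s k) ?_ ?_ ?_ hg
  · exact ⟨1, one_mem _, 0, by omega, by simp [r]⟩
  · rintro x _ _ ⟨i, hi, rfl⟩ ih
    exact step x ih i hi
  · rintro x _ _ ⟨i, hi, rfl⟩ ih
    rw [hinv i hi]
    exact step x ih i hi

theorem card_H : ∀ (n : ℕ) (s : ℕ → Γ), Rel n s → Finite (H n s) ∧ Nat.card (H n s) ≤ (n + 1).factorial := by
  intro n
  induction n with
  | zero =>
    intro s _
    have h1 : H 0 s = ⊥ := by
      rw [H, Subgroup.closure_eq_bot_iff]
      rintro g ⟨i, hi, _⟩
      exact absurd hi (Nat.not_lt_zero _)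
    rw [h1]
    exact ⟨inferInstance, by simp⟩
  | succ n ih =>
    intro s h
    obtain ⟨hf, hc⟩ := ih _ h.shift
    let φ : ↥(H n (fun i => s (i + 1))) × Fin (n + 2) → Γ := fun x => x.1 * r s x.2
    have hsub : ∀ g : H (n + 1) s, ∃ x, φ x = g := by
      rintro ⟨g, hg⟩
      obtain ⟨a, ha, k, hk, rfl⟩ := h.H_le g hg
      exact ⟨(⟨a, ha⟩, ⟨k, by omega⟩), rfl⟩
    choose ψ hψ using hsub
    have hψi : Function.Injective ψ := by
      intro g g' hg
      apply Subtype.ext
      rw [← hψ g, ← hψ g', hg]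
    have : Finite (↥(H n (fun i => s (i + 1))) × Fin (n + 2)) := inferInstance
    refine ⟨Finite.of_injective ψ hψi, ?_⟩
    calc Nat.card (H (n + 1) s) ≤ Nat.card (↥(H n (fun i => s (i + 1))) × Fin (n + 2)) :=
          Nat.card_le_card_of_injective ψ hψi
      _ = Nat.card ↥(H n (fun i => s (i + 1))) * (n + 2) := by rw [Nat.card_prod, Nat.card_fin]
      _ ≤ (n + 1).factorial * (n + 2) := Nat.mul_le_mul_right _ hc
      _ = (n + 1 + 1).factorial := by rw [Nat.factorial_succ (n + 1), mul_comm]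

end Rel

/-- **The Coxeter presentation of the symmetric group.** -/
theorem exists_hom {G : Type*} [Group G] (n : ℕ) (s : ℕ → G) (h : Rel n s) :
    ∃ f : Perm (Fin (n + 1)) →* G, ∀ i : Fin n, f (swap i.castSucc i.succ) = s i := by
  classical
  -- the elements `(swap i (i+1), s i)`
  let σ : ℕ → Perm (Fin (n + 1)) := fun i => if hi : i < n then swap (Fin.castSucc ⟨i, hi⟩) (Fin.succ ⟨i, hi⟩) else 1
  have σ_eq : ∀ (i : ℕ) (hi : i < n), σ i = swap ⟨i, by omega⟩ ⟨i + 1, by omega⟩ := fun i hi => dif_pos hi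
  let τ : ℕ → Perm (Fin (n + 1)) × G := fun i => (σ i, s i)
  have hτ : Rel n τ := by
    refine ⟨fun i hi => ?_, fun i hi => ?_, fun i j hij hj => ?_⟩
    · refine Prod.ext ?_ (h.sq i hi)
      change σ i * σ i = 1
      rw [σ_eq i hi, swap_mul_self]
    · refine Prod.ext ?_ (h.braid i hi)
      change σ i * σ (i + 1) * σ i = σ (i + 1) * σ i * σ (i + 1)
      rw [σ_eq i (by omega), σ_eq (i + 1) hi]
      have e1 := swap_mul_swap_mul_swap (x := (⟨i + 1 + 1, by omega⟩ : Fin (n + 1))) (y := ⟨i + 1, by omega⟩)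
        (z := ⟨i, by omega⟩) (by simp [Fin.ext_iff]) (by simp [Fin.ext_iff]; omega)
      have e2 := swap_mul_swap_mul_swap (x := (⟨i, by omega⟩ : Fin (n + 1))) (y := ⟨i + 1, by omega⟩)
        (z := ⟨i + 1 + 1, by omega⟩) (by simp [Fin.ext_iff]) (by simp [Fin.ext_iff]; omega)
      rw [swap_comm (⟨i + 1, by omega⟩ : Fin (n + 1)) ⟨i, by omega⟩,
        swap_comm (⟨i + 1 + 1, by omega⟩ : Fin (n + 1)) ⟨i + 1, by omega⟩] at e1
      rw [e1, e2, swap_comm]
    · refine Prod.ext ?_ (h.comm i j hij hj)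
      change σ i * σ j = σ j * σ i
      rw [σ_eq i (by omega), σ_eq j hj]
      refine (Perm.Disjoint.commute ?_).eq
      rw [Perm.disjoint_iff_disjoint_support, Perm.support_swap (by simp [Fin.ext_iff]),
        Perm.support_swap (by simp [Fin.ext_iff])]
      rw [Finset.disjoint_left]
      intro x hx
      simp only [Finset.mem_insert, Finset.mem_singleton] at hx ⊢
      rcases hx with rfl | rfl <;> simp [Fin.ext_iff] <;> omega
  obtain ⟨hfin, hcard⟩ := Rel.card_H n τ hτ
  let Γ := Rel.H n τ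
  let π : Γ →* Perm (Fin (n + 1)) := (MonoidHom.fst _ _).comp Γ.subtype
  have hπ : Function.Surjective π := by
    intro g
    have hg : g ∈ Submonoid.closure (Set.range fun i : Fin n => swap i.castSucc i.succ) := by
      rw [Perm.mclosure_swap_castSucc_succ]; trivial
    have hle : Submonoid.closure (Set.range fun i : Fin n => swap i.castSucc i.succ) ≤ MonoidHom.mrange π := by
      rw [Submonoid.closure_le]
      rintro _ ⟨i, rfl⟩
      exact ⟨⟨τ i, Rel.mem_H i.2⟩, σ_eq i i.2⟩
    exact hle hg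
  have hπb : Function.Bijective π := by
    have hc : Nat.card Γ ≤ Nat.card (Perm (Fin (n + 1))) := by
      rw [Nat.card_perm, Nat.card_fin]
      exact hcard
    exact (Nat.bijective_iff_surjective_and_card π).2 ⟨hπ, le_antisymm hc (Nat.card_le_card_of_surjective π hπ)⟩
  let e : Γ ≃* Perm (Fin (n + 1)) := MulEquiv.ofBijective π hπb
  refine ⟨((MonoidHom.snd _ _).comp Γ.subtype).comp e.symm.toMonoidHom, fun i => ?_⟩
  have h1 : e ⟨τ i, Rel.mem_H i.2⟩ = swap i.castSucc i.succ := σ_eq i i.2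
  change (Γ.subtype (e.symm (swap i.castSucc i.succ))).2 = s i
  rw [← h1, e.symm_apply_apply]
  rfl

end Cfsg.Agent.H346.CoxA
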