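import Mathlib
import Cfsg.Agent.Lib.Cores

/-!
# Groups `3² : GL(2,3)` inside a group

`Aff A P`: `P ≤ A` elementary abelian of order 9, normal and self-centralizing in `A` of order 432; then `A` permutes the
bases of `P` transitively.
-/

set_option autoImplicit false
set_option linter.unusedSectionVars false

namespace Cfsg.Agent.H346.Am

open Subgroup

/-- `P` elementary abelian of order 9, normal and self-centralizing in `A` of order 432 -/
structure Aff {G : Type*} [Group G] (A P : Subgroup G) : Prop where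
  le : P ≤ A
  norm : ∀ a ∈ A, ∀ x ∈ P, a * x * a⁻¹ ∈ P
  comm : ∀ x ∈ P, ∀ y ∈ P, x * y = y * x
  exp : ∀ x ∈ P, x ^ 3 = 1
  cardP : Nat.card ↥P = 9
  cent : ∀ a ∈ A, (∀ x ∈ P, a * x = x * a) → a ∈ P
  cardA : Nat.card ↥A = 432

section
variable {G : Type*} [Group G] [Finite G]

theorem card_zpowers3 {x : G} (hx : x ^ 3 = 1) (hx1 : x ≠ 1) : Nat.card ↥(zpowers x) = 3 := by
  rw [Nat.card_zpowers]
  exact orderOf_eq_prime hx hx1

/-- a group of order 9 is generated by `x ≠ 1` and `y ∉ ⟨x⟩` -/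
theorem sup_eq {P : Subgroup G} (hcard : Nat.card ↥P = 9) {x y : G} (hx : x ∈ P) (hx3 : x ^ 3 = 1) (hx1 : x ≠ 1)
    (hy : y ∈ P) (hyx : y ∉ zpowers x) : zpowers x ⊔ zpowers y = P := by
  have hle : zpowers x ⊔ zpowers y ≤ P := sup_le (zpowers_le.2 hx) (zpowers_le.2 hy)
  apply Subgroup.eq_of_le_of_card_ge hle
  rw [hcard]
  have h1 : Nat.card ↥(zpowers x) ∣ Nat.card ↥(zpowers x ⊔ zpowers y) := card_dvd_of_le le_sup_left
  have h2 : Nat.card ↥(zpowers x ⊔ zpowers y) ∣ 9 := hcard ▸ card_dvd_of_le hle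
  rw [card_zpowers3 hx3 hx1] at h1
  have h3 : Nat.card ↥(zpowers x ⊔ zpowers y) ≠ 3 := by
    intro h3
    have h4 : zpowers x = zpowers x ⊔ zpowers y :=
      Subgroup.eq_of_le_of_card_ge le_sup_left (by rw [h3, card_zpowers3 hx3 hx1])
    apply hyx
    rw [h4]
    exact mem_sup_right (mem_zpowers y)
  have h5 : Nat.card ↥(zpowers x ⊔ zpowers y) ≤ 9 := Nat.le_of_dvd (by norm_num) h2
  interval_cases h6 : Nat.card ↥(zpowers x ⊔ zpowers y) <;> omega

/-- an element commuting with two generators commutes with everything -/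
theorem comm_of_gen {P : Subgroup G} (hcard : Nat.card ↥P = 9) {x y : G} (hx : x ∈ P) (hx3 : x ^ 3 = 1) (hx1 : x ≠ 1)
    (hy : y ∈ P) (hyx : y ∉ zpowers x) {a : G} (h1 : a * x = x * a) (h2 : a * y = y * a) :
    ∀ w ∈ P, a * w = w * a := by
  intro w hw
  have h3 : zpowers x ⊔ zpowers y ≤ centralizer ({a} : Set G) := by
    refine sup_le (zpowers_le.2 ?_) (zpowers_le.2 ?_)
    · exact mem_centralizer_singleton_iff.2 h1.symm
    · exact mem_centralizer_singleton_iff.2 h2.symm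
  rw [sup_eq hcard hx hx3 hx1 hy hyx] at h3
  exact (mem_centralizer_singleton_iff.1 (h3 hw)).symm

/-- pairs, with the action by conjugation -/
structure Pr (G : Type*) where
  fst : G
  snd : G

/-- the set of bases of a group of order 9 -/
def bases (P : Subgroup G) : Set (Pr G) := {p | p.1 ∈ P ∧ p.2 ∈ P ∧ p.1 ≠ 1 ∧ p.2 ∉ zpowers p.1}

theorem card_compl (P : Subgroup G) (hcard : Nat.card ↥P = 9) {x : G} (hx : x ∈ P) (hx3 : x ^ 3 = 1) (hx1 : x ≠ 1) :
    ((P : Set G) \ (zpowers x : Set G)).ncard = 6 := by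
  rw [Set.ncard_sdiff (SetLike.coe_subset_coe.2 (zpowers_le.2 hx)) (Set.toFinite _)]
  have h1 : ((P : Subgroup G) : Set G).ncard = 9 := by rw [← Nat.card_coe_set_eq]; exact hcard
  have h2 : ((zpowers x : Subgroup G) : Set G).ncard = 3 := by rw [← Nat.card_coe_set_eq]; exact card_zpowers3 hx3 hx1
  rw [h1, h2]

theorem ncard_bases {P : Subgroup G} (hcard : Nat.card ↥P = 9) (hexp : ∀ x ∈ P, x ^ 3 = 1) :
    (bases P).ncard = 48 := by
  classical
  have : Fintype G := Fintype.ofFinite G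
  have : DecidableEq (Pr G) := Classical.decEq _
  have e1 : (bases P) = ((Finset.univ.filter (fun x : G => x ∈ P ∧ x ≠ 1)).biUnion fun x =>
      (((P : Set G) \ (zpowers x : Set G)).toFinset.map ⟨fun y => Pr.mk x y, fun a b h => (Pr.mk.inj h).2⟩) :
      Finset (Pr G)) := by
    ext ⟨x, y⟩
    simp only [bases, Set.mem_ofPred_eq, Finset.coe_biUnion, Finset.mem_coe, Finset.mem_filter, Finset.mem_univ,
      true_and, Finset.coe_map, Set.coe_toFinset, Set.mem_iUnion, Set.mem_image, exists_prop]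
    constructor
    · rintro ⟨h1, h2, h3, h4⟩
      exact ⟨x, ⟨h1, h3⟩, y, ⟨h2, h4⟩, rfl⟩
    · rintro ⟨x', ⟨h1, h3⟩, y', ⟨h2, h4⟩, h5⟩
      obtain ⟨rfl, rfl⟩ := Pr.mk.inj h5
      exact ⟨h1, h2, h3, h4⟩
  rw [e1, Set.ncard_coe_finset, Finset.card_biUnion]
  · have h1 : ∀ x ∈ Finset.univ.filter (fun x : G => x ∈ P ∧ x ≠ 1),
        (((P : Set G) \ (zpowers x : Set G)).toFinset.map
          (⟨fun y => Pr.mk x y, fun a b h => (Pr.mk.inj h).2⟩ : G ↪ Pr G)).card = 6 := by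
      intro x hx
      rw [Finset.mem_filter] at hx
      rw [Finset.card_map, ← Set.ncard_eq_toFinset_card']
      exact card_compl P hcard hx.2.1 (hexp x hx.2.1) hx.2.2
    rw [Finset.sum_congr rfl h1, Finset.sum_const, smul_eq_mul]
    have h2 : (Finset.univ.filter (fun x : G => x ∈ P ∧ x ≠ 1)).card = 8 := by
      have h3 : (Finset.univ.filter (fun x : G => x ∈ P ∧ x ≠ 1)) = (P : Set G).toFinset.erase 1 := by
        ext x
        simp [and_comm]
      rw [h3, Finset.card_erase_of_mem (by simp), ← Set.ncard_eq_toFinset_card', ← Nat.card_coe_set_eq]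
      have : Nat.card ↥(P : Set G) = 9 := hcard
      rw [this]
    rw [h2]
  · intro x _ x' _ hxx
    rw [Function.onFun, Finset.disjoint_left]
    rintro ⟨a, b⟩ h1 h2
    rw [Finset.mem_map] at h1 h2
    obtain ⟨y, -, h1⟩ := h1
    obtain ⟨y', -, h2⟩ := h2
    exact hxx ((Pr.mk.inj h1).1.trans (Pr.mk.inj h2).1.symm)

/-- the action of `A` on pairs by conjugation -/
instance pairAct (A : Subgroup G) : MulAction ↥A (Pr G) where
  smul a p := ⟨a * p.1 * (a : G)⁻¹, a * p.2 * (a : G)⁻¹⟩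
  one_smul p := by
    change Pr.mk ((1 : G) * p.1 * (1 : G)⁻¹) ((1 : G) * p.2 * (1 : G)⁻¹) = p
    simp
  mul_smul a b p := by
    change Pr.mk ((a * b : G) * p.1 * (a * b : G)⁻¹) ((a * b : G) * p.2 * (a * b : G)⁻¹) =
      Pr.mk ((a : G) * (b * p.1 * (b : G)⁻¹) * (a : G)⁻¹) ((a : G) * (b * p.2 * (b : G)⁻¹) * (a : G)⁻¹)
    simp [mul_assoc]

/-- **`A` is transitive on the bases of `P`** -/
theorem Aff.exists_conj {A P : Subgroup G} (h : Aff A P) {x y x' y' : G} (hx : x ∈ P) (hx1 : x ≠ 1) (hy : y ∈ P)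
    (hyx : y ∉ zpowers x) (hx' : x' ∈ P) (hx1' : x' ≠ 1) (hy' : y' ∈ P) (hyx' : y' ∉ zpowers x') :
    ∃ a ∈ A, a * x * a⁻¹ = x' ∧ a * y * a⁻¹ = y' := by
  have hst : Nat.card ↥(MulAction.stabilizer ↥A (Pr.mk x y)) = 9 := by
    rw [← h.cardP]
    refine Nat.card_congr (Equiv.ofBijective (fun a => ⟨a.1.1, ?_⟩) ⟨?_, ?_⟩)
    · have h1 : Pr.mk ((a.1 : G) * x * (a.1 : G)⁻¹) ((a.1 : G) * y * (a.1 : G)⁻¹) = Pr.mk x y := a.2
      have h2 := (Pr.mk.inj h1).1
      have h3 := (Pr.mk.inj h1).2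
      rw [mul_inv_eq_iff_eq_mul] at h2 h3
      exact h.cent _ a.1.2 (comm_of_gen h.cardP hx (h.exp x hx) hx1 hy hyx h2 h3)
    · rintro ⟨⟨a, ha⟩, ha'⟩ ⟨⟨b, hb⟩, hb'⟩ hab
      have : a = b := congrArg Subtype.val hab
      subst this
      rfl
    · rintro ⟨w, hw⟩
      refine ⟨⟨⟨w, h.le hw⟩, ?_⟩, rfl⟩
      change Pr.mk (w * x * w⁻¹) (w * y * w⁻¹) = Pr.mk x y
      rw [h.comm w hw x hx, h.comm w hw y hy, mul_inv_cancel_right, mul_inv_cancel_right]
  have horb : (MulAction.orbit ↥A (Pr.mk x y)).ncard = 48 := by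
    have h1 := Subgroup.card_mul_index (MulAction.stabilizer ↥A (Pr.mk x y))
    rw [MulAction.index_stabilizer, hst, h.cardA] at h1
    omega
  have hsub : MulAction.orbit ↥A (Pr.mk x y) ⊆ bases P := by
    rintro _ ⟨a, rfl⟩
    change Pr.mk ((a : G) * x * (a : G)⁻¹) ((a : G) * y * (a : G)⁻¹) ∈ bases P
    refine ⟨h.norm a a.2 x hx, h.norm a a.2 y hy, ?_, ?_⟩
    · intro h1
      have h2 : (a : G) * x * (a : G)⁻¹ = 1 := h1
      apply hx1
      rwa [mul_inv_eq_one, mul_eq_left] at h2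
    · intro h1
      obtain ⟨k, hk⟩ := mem_zpowers_iff.1 h1
      have h2 : ((a : G) * x * (a : G)⁻¹) ^ k = (a : G) * y * (a : G)⁻¹ := hk
      rw [conj_zpow] at h2
      exact hyx (mem_zpowers_iff.2 ⟨k, mul_left_cancel (mul_right_cancel h2)⟩)
  have heq : MulAction.orbit ↥A (Pr.mk x y) = bases P := by
    have : Finite (Pr G) := Finite.of_injective (fun p : Pr G => (p.fst, p.snd)) (by
      rintro ⟨a, b⟩ ⟨c, d⟩ h
      obtain ⟨h1, h2⟩ := Prod.mk.inj h
      exact congrArg₂ Pr.mk h1 h2)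
    apply Set.eq_of_subset_of_ncard_le hsub _ (Set.toFinite _)
    rw [ncard_bases h.cardP h.exp, horb]
  have hmem : Pr.mk x' y' ∈ MulAction.orbit ↥A (Pr.mk x y) := by
    rw [heq]
    exact ⟨hx', hy', hx1', hyx'⟩
  obtain ⟨a, ha⟩ := hmem
  have h1 : Pr.mk ((a : G) * x * (a : G)⁻¹) ((a : G) * y * (a : G)⁻¹) = Pr.mk x' y' := ha
  exact ⟨a, a.2, (Pr.mk.inj h1).1, (Pr.mk.inj h1).2⟩

theorem exists_notMem {P : Subgroup G} (hcard : Nat.card ↥P = 9) (hexp : ∀ x ∈ P, x ^ 3 = 1) {x : G} (hx : x ∈ P) :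
    ∃ y ∈ P, y ∉ zpowers x := by
  by_contra hcon
  push Not at hcon
  have h1 : Nat.card ↥P ∣ Nat.card ↥(zpowers x) := card_dvd_of_le hcon
  rw [hcard, Nat.card_zpowers] at h1
  have h2 := orderOf_dvd_of_pow_eq_one (hexp x hx)
  have h3 := Nat.le_of_dvd (by norm_num) (h1.trans h2)
  omega

/-- `A` is transitive on the nontrivial elements of `P` -/
theorem Aff.exists_conj_one {A P : Subgroup G} (h : Aff A P) {x x' : G} (hx : x ∈ P) (hx1 : x ≠ 1)
    (hx' : x' ∈ P) (hx1' : x' ≠ 1) : ∃ a ∈ A, a * x * a⁻¹ = x' := by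
  obtain ⟨y, hy, hyx⟩ := exists_notMem h.cardP h.exp hx
  obtain ⟨y', hy', hyx'⟩ := exists_notMem h.cardP h.exp hx'
  obtain ⟨a, ha, h1, -⟩ := h.exists_conj hx hx1 hy hyx hx' hx1' hy' hyx'
  exact ⟨a, ha, h1⟩

/-- the centralizer in `A` of a nontrivial element of `P` has order 54 -/
theorem Aff.card_cent {A P : Subgroup G} (h : Aff A P) {x : G} (hx : x ∈ P) (hx1 : x ≠ 1) :
    Nat.card ↥(A ⊓ centralizer ({x} : Set G)) = 54 := by
  let _ : MulAction ↥A G :=
    { smul := fun a g => a * g * (a : G)⁻¹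
      one_smul := fun g => by
        change (1 : G) * g * (1 : G)⁻¹ = g
        simp
      mul_smul := fun a b g => by
        change (a * b : G) * g * (a * b : G)⁻¹ = (a : G) * (b * g * (b : G)⁻¹) * (a : G)⁻¹
        simp [mul_assoc] }
  have horb : MulAction.orbit ↥A x = (P : Set G) \ {1} := by
    ext y
    constructor
    · rintro ⟨a, rfl⟩
      change (a : G) * x * (a : G)⁻¹ ∈ (P : Set G) \ {1}
      refine ⟨h.norm a a.2 x hx, ?_⟩
      intro h1
      have h2 : (a : G) * x * (a : G)⁻¹ = 1 := h1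
      apply hx1
      rwa [mul_inv_eq_one, mul_eq_left] at h2
    · rintro ⟨hy, hy1⟩
      obtain ⟨a, ha, h1⟩ := h.exists_conj_one hx hx1 hy hy1
      exact ⟨⟨a, ha⟩, h1⟩
  have hc : (MulAction.orbit ↥A x).ncard = 8 := by
    rw [horb, Set.ncard_sdiff (by simp) (Set.toFinite _), Set.ncard_singleton, ← Nat.card_coe_set_eq]
    have : Nat.card ↥(P : Set G) = 9 := h.cardP
    rw [this]
  have h1 := Subgroup.card_mul_index (MulAction.stabilizer ↥A x)
  rw [MulAction.index_stabilizer, hc, h.cardA] at h1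
  have h2 : Nat.card ↥(MulAction.stabilizer ↥A x) = Nat.card ↥(A ⊓ centralizer ({x} : Set G)) := by
    refine Nat.card_congr (Equiv.ofBijective (fun a => ⟨a.1.1, a.1.2, ?_⟩) ⟨?_, ?_⟩)
    · have h1 : (a.1 : G) * x * (a.1 : G)⁻¹ = x := a.2
      rw [mul_inv_eq_iff_eq_mul] at h1
      exact mem_centralizer_singleton_iff.2 h1
    · rintro ⟨⟨a, ha⟩, ha'⟩ ⟨⟨b, hb⟩, hb'⟩ hab
      have : a = b := congrArg Subtype.val hab
      subst this
      rfl
    · rintro ⟨w, hw⟩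
      refine ⟨⟨⟨w, hw.1⟩, ?_⟩, rfl⟩
      change w * x * w⁻¹ = x
      rw [mul_inv_eq_iff_eq_mul]
      exact mem_centralizer_singleton_iff.1 hw.2
  omega

end

end Cfsg.Agent.H346.Am
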