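import Cfsg.Agent.OrdDiv.Main

/-!
# 3-parts of the orders of the known simple groups
-/

set_option autoImplicit false

namespace Cfsg.Agent.H346.AmArith

open Cfsg.Agent.OrdDiv

/-- `c` is not exactly divisible by 27 -/
def Out (c : ℕ) : Prop := ¬ (27 ∣ c ∧ ¬ 81 ∣ c)

theorem out_of {c : ℕ} (h : 81 ∣ c) : Out c := fun h1 => h1.2 h

theorem cop3 {q : ℕ} (h : ¬ 3 ∣ q) : (3 : ℕ).Coprime q := (Nat.Prime.coprime_iff_not_dvd Nat.prime_three).2 h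

theorem three_pow_dvd {q n : ℕ} (h : 3 ∣ q) (hn : 4 ≤ n) : 81 ∣ q ^ n := by
  have h1 : 3 ^ 4 ∣ q ^ 4 := pow_dvd_pow_of_dvd h 4
  exact h1.trans (pow_dvd_pow q hn)

theorem sub_mod {a b n : ℕ} (h : b ≤ a) (hm : a % n = b % n) : n ∣ a - b :=
  (Nat.modEq_iff_dvd' h).1 (by unfold Nat.ModEq; exact hm.symm)

theorem pos_of {q : ℕ} (h : ¬ 3 ∣ q) : 1 ≤ q := by
  rcases Nat.eq_zero_or_pos q with h0 | h0
  · rw [h0] at h; exact absurd (dvd_zero 3) h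
  · exact h0

theorem d2 {q : ℕ} (h : ¬ 3 ∣ q) : 3 ∣ q ^ 2 - 1 := by
  apply sub_mod (Nat.one_le_pow _ _ (pos_of h))
  rw [Nat.pow_mod]
  have : q % 3 = 1 ∨ q % 3 = 2 := by omega
  rcases this with h1 | h1 <;> rw [h1]

theorem d2k {q : ℕ} (h : ¬ 3 ∣ q) (k : ℕ) : 3 ∣ q ^ (2 * k) - 1 := by
  rw [pow_mul]
  exact (d2 h).trans (by simpa using Nat.sub_dvd_pow_sub_pow (q ^ 2) 1 k)

theorem mod9 {q : ℕ} (h : ¬ 3 ∣ q) : q % 9 = 1 ∨ q % 9 = 2 ∨ q % 9 = 4 ∨ q % 9 = 5 ∨ q % 9 = 7 ∨ q % 9 = 8 := by omega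

theorem d6 {q : ℕ} (h : ¬ 3 ∣ q) : 9 ∣ q ^ 6 - 1 := by
  apply sub_mod (Nat.one_le_pow _ _ (pos_of h))
  rw [Nat.pow_mod]
  rcases mod9 h with h1 | h1 | h1 | h1 | h1 | h1 <;> rw [h1]

theorem d6k {q : ℕ} (h : ¬ 3 ∣ q) (k : ℕ) : 9 ∣ q ^ (6 * k) - 1 := by
  rw [pow_mul]
  exact (d6 h).trans (by simpa using Nat.sub_dvd_pow_sub_pow (q ^ 6) 1 k)

theorem prB_succ (q m : ℕ) : prB q (m + 1) = prB q m * (q ^ (2 * (m + 1)) - 1) := by
  unfold prB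
  rw [List.range_succ, List.map_append, List.prod_append]
  simp

theorem prB_three (q : ℕ) : prB q 3 = (q ^ 2 - 1) * (q ^ 4 - 1) * (q ^ 6 - 1) := by
  rw [prB_succ, prB_succ, prB_succ]
  simp [prB]

theorem prB_two (q : ℕ) : prB q 2 = (q ^ 2 - 1) * (q ^ 4 - 1) := by
  rw [prB_succ, prB_succ]
  simp [prB]

theorem prB_dvd {q m : ℕ} (hm : 3 ≤ m) : prB q 3 ∣ prB q m := by
  induction m, hm using Nat.le_induction with
  | base => exact dvd_rfl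
  | succ m _ ih => rw [prB_succ q m]; exact ih.trans (Dvd.intro _ rfl)

theorem prB_81 {q m : ℕ} (h : ¬ 3 ∣ q) (hm : 3 ≤ m) : 81 ∣ prB q m := by
  refine dvd_trans ?_ (prB_dvd hm)
  rw [prB_three]
  have h1 : 3 * 3 * 9 ∣ (q ^ 2 - 1) * (q ^ 4 - 1) * (q ^ 6 - 1) :=
    mul_dvd_mul (mul_dvd_mul (d2 h) (d2k h 2)) (d6 h)
  exact h1

/-- `c` from `d c = n` with `d` prime to 3 -/
theorem dvd_of_cop {d c n k : ℕ} (hd : Nat.Coprime 3 d) (h : d * c = n) (hk : 3 ^ k ∣ n) : 3 ^ k ∣ c := by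
  rw [← h] at hk
  exact (Nat.Coprime.pow_left k hd).dvd_of_dvd_mul_left hk

theorem out_of_cop {d c n : ℕ} (hd : Nat.Coprime 3 d) (h : d * c = n) (hk : 81 ∣ n) : Out c :=
  out_of (dvd_of_cop (k := 4) hd h hk)

theorem cop_gcd2 (q : ℕ) : Nat.Coprime 3 (Nat.gcd 2 q) :=
  Nat.Coprime.coprime_dvd_right (Nat.gcd_dvd_left 2 q) (by norm_num)

theorem cop_gcd4 (q : ℕ) : Nat.Coprime 3 (Nat.gcd 4 q) :=
  Nat.Coprime.coprime_dvd_right (Nat.gcd_dvd_left 4 q) (by norm_num)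

/-- squares -/
theorem out_of_sq {d c a b : ℕ} (hd : Nat.Coprime 3 d) (hb : Nat.Coprime 3 b) (h : d * c = a ^ 2 * b) : Out c := by
  intro h1
  apply h1.2
  have h2 : 27 ∣ a ^ 2 * b := by rw [← h]; exact dvd_mul_of_dvd_right h1.1 d
  have h3 : 3 ^ 3 ∣ a ^ 2 := (Nat.Coprime.pow_left 3 hb).dvd_of_dvd_mul_right h2
  have h4 : 9 ∣ a := by
    by_contra h9
    have h30 : 3 ∣ a := Nat.prime_three.dvd_of_dvd_pow ((dvd_pow_self 3 (by norm_num)).trans h3)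
    obtain ⟨k, rfl⟩ := h30
    have h5 : 3 ∣ k ^ 2 := by
      have : 9 * 3 ∣ 9 * k ^ 2 := by
        have e : (3 * k) ^ 2 = 9 * k ^ 2 := by ring
        rw [e] at h3
        exact h3
      exact (Nat.mul_dvd_mul_iff_left (by norm_num)).1 this
    obtain ⟨j, rfl⟩ := Nat.prime_three.dvd_of_dvd_pow h5
    exact h9 ⟨j, by ring⟩
  have h5 : 81 ∣ a ^ 2 * b := by
    have : 9 ^ 2 ∣ a ^ 2 := pow_dvd_pow_of_dvd h4 2
    exact (this.trans (Dvd.intro _ rfl) : 9 ^ 2 ∣ a ^ 2 * b)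
  exact dvd_of_cop (k := 4) hd h h5

/-! ### symplectic and orthogonal groups -/

theorem out_psp {q m c : ℕ} (hm : 2 ≤ m) {d : ℕ} (hd : Nat.Coprime 3 d) (h : d * c = q ^ (m ^ 2) * prB q m) : Out c := by
  by_cases h3 : 3 ∣ q
  · refine out_of_cop hd h (Dvd.dvd.mul_right (three_pow_dvd h3 ?_) _)
    nlinarith
  rcases Nat.lt_or_ge m 3 with hm3 | hm3
  · have hm2 : m = 2 := by omega
    subst hm2
    have hq := pos_of h3
    have e1 : q ^ 4 - 1 = (q ^ 2 - 1) * (q ^ 2 + 1) := by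
      have h1 : 1 ≤ q ^ 2 := Nat.one_le_pow _ _ hq
      have h2 : 1 ≤ q ^ 4 := Nat.one_le_pow _ _ hq
      zify [h1, h2]
      ring
    refine out_of_sq (a := q ^ 2 - 1) (b := q ^ 4 * (q ^ 2 + 1)) hd ?_ ?_
    · refine Nat.Coprime.mul_right (Nat.Coprime.pow_right 4 (cop3 h3)) (cop3 ?_)
      intro h4
      have h5 := d2 h3
      have h1 : 1 ≤ q ^ 2 := Nat.one_le_pow _ _ hq
      omega
    · rw [h, prB_two, e1]
      ring
  · exact out_of_cop hd h (Dvd.dvd.mul_left (prB_81 h3 hm3) _)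

theorem out_plus {q m c x k : ℕ} (hm : 4 ≤ m) {d : ℕ} (hd : Nat.Coprime 3 d) (hk : 4 ≤ k)
    (h : d * c = q ^ k * (x * prB q (m - 1))) : Out c := by
  by_cases h3 : 3 ∣ q
  · exact out_of_cop hd h (Dvd.dvd.mul_right (three_pow_dvd h3 hk) _)
  · exact out_of_cop hd h (Dvd.dvd.mul_left (Dvd.dvd.mul_left (prB_81 h3 (by omega)) _) _)

/-! ### unitary groups -/

theorem prU_succ (q n : ℕ) : prU q (n + 1) =
    prU q n * (if Nat.beq (n % 2) 0 then q ^ (n + 1) + 1 else q ^ (n + 1) - 1) := by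
  unfold prU
  rw [List.range_succ, List.map_append, List.prod_append]
  simp

theorem prU_three (q : ℕ) : prU q 3 = (q + 1) * (q ^ 2 - 1) * (q ^ 3 + 1) := by
  rw [prU_succ, prU_succ, prU_succ]
  simp [prU]

theorem prU_four (q : ℕ) : prU q 4 = (q + 1) * (q ^ 2 - 1) * (q ^ 3 + 1) * (q ^ 4 - 1) := by
  rw [prU_succ, prU_three]
  simp

theorem prU_five (q : ℕ) : prU q 5 = (q + 1) * (q ^ 2 - 1) * (q ^ 3 + 1) * (q ^ 4 - 1) * (q ^ 5 + 1) := by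
  rw [prU_succ, prU_four]
  simp

theorem prU_six (q : ℕ) : prU q 6 = (q + 1) * (q ^ 2 - 1) * (q ^ 3 + 1) * (q ^ 4 - 1) * (q ^ 5 + 1) * (q ^ 6 - 1) := by
  rw [prU_succ, prU_five]
  simp

theorem prU_dvd {q n : ℕ} (hn : 6 ≤ n) : prU q 6 ∣ prU q n := by
  induction n, hn using Nat.le_induction with
  | base => exact dvd_rfl
  | succ n _ ih => rw [prU_succ q n]; exact ih.trans (Dvd.intro _ rfl)

theorem add_dvd_pow_add (q k : ℕ) : q + 1 ∣ q ^ (2 * k + 1) + 1 := by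
  have h : Odd (2 * k + 1) := ⟨k, rfl⟩
  have := Odd.nat_add_dvd_pow_add_pow q 1 h
  simpa using this

theorem d3' {q : ℕ} (h : q % 3 = 2) : 9 ∣ q ^ 3 + 1 := by
  have h9 : q % 9 = 2 ∨ q % 9 = 5 ∨ q % 9 = 8 := by omega
  apply Nat.dvd_of_mod_eq_zero
  rw [Nat.add_mod, Nat.pow_mod]
  rcases h9 with h1 | h1 | h1 <;> rw [h1]

theorem not3_sq {q : ℕ} (h : ¬ 3 ∣ q) : ¬ 3 ∣ q ^ 2 + 1 := by
  intro h4
  have h5 := d2 h
  have h1 : 1 ≤ q ^ 2 := Nat.one_le_pow _ _ (pos_of h)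
  omega

theorem not3_odd {q : ℕ} (h : q % 3 = 1) (k : ℕ) : ¬ 3 ∣ q ^ k + 1 := by
  intro h4
  have h5 : (q ^ k + 1) % 3 = 2 := by
    have h6 : q ^ k % 3 = 1 := by
      rw [Nat.pow_mod, h, one_pow]
      rfl
    omega
  omega

theorem out_psu {q n c : ℕ} (hn : 3 ≤ n) (hn3 : n = 3 → ¬ 3 ∣ q ∧ q % 3 = 2)
    (h : Nat.gcd n (q + 1) * (q + 1) * c = q ^ (n * (n - 1) / 2) * prU q n) (hq : 1 ≤ q) : Out c := by
  by_cases h3 : 3 ∣ q
  · have hn4 : 4 ≤ n := by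
      rcases Nat.lt_or_ge n 4 with h4 | h4
      · exact absurd h3 (hn3 (by omega)).1
      · exact h4
    have hc : Nat.Coprime 3 (Nat.gcd n (q + 1) * (q + 1)) := by
      have h1 : Nat.Coprime 3 (q + 1) := cop3 (by omega)
      exact Nat.Coprime.mul_right (Nat.Coprime.coprime_dvd_right (Nat.gcd_dvd_right _ _) h1) h1
    refine out_of_cop hc h (Dvd.dvd.mul_right (three_pow_dvd h3 ?_) _)
    have : 4 * 3 ≤ n * (n - 1) := Nat.mul_le_mul hn4 (by omega)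
    omega
  have hm : q % 3 = 1 ∨ q % 3 = 2 := by omega
  have h1q : 1 ≤ q ^ 2 := Nat.one_le_pow _ _ hq
  have h4q : 1 ≤ q ^ 4 := Nat.one_le_pow _ _ hq
  have e1 : q ^ 4 - 1 = (q ^ 2 - 1) * (q ^ 2 + 1) := by
    zify [h1q, h4q]
    ring
  have hq1 : 0 < q + 1 := by omega
  -- cancel `q + 1`
  have hcancel : ∀ y, prU q n = (q + 1) * y → Nat.gcd n (q + 1) * c = q ^ (n * (n - 1) / 2) * y := by
    intro y hy
    rw [hy] at h
    have : (q + 1) * (Nat.gcd n (q + 1) * c) = (q + 1) * (q ^ (n * (n - 1) / 2) * y) := by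
      calc (q + 1) * (Nat.gcd n (q + 1) * c) = Nat.gcd n (q + 1) * (q + 1) * c := by ring
        _ = _ := by rw [h]; ring
    exact Nat.eq_of_mul_eq_mul_left hq1 this
  rcases hm with hm | hm
  · -- `q ≡ 1 (mod 3)`
    have hg : Nat.Coprime 3 (Nat.gcd n (q + 1)) :=
      Nat.Coprime.coprime_dvd_right (Nat.gcd_dvd_right _ _) (cop3 (by omega))
    have c3 : Nat.Coprime 3 (q ^ 3 + 1) := cop3 (not3_odd hm 3)
    have c5 : Nat.Coprime 3 (q ^ 5 + 1) := cop3 (not3_odd hm 5)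
    have c2 : Nat.Coprime 3 (q ^ 2 + 1) := cop3 (not3_sq h3)
    have cq : ∀ k, Nat.Coprime 3 (q ^ k) := fun k => Nat.Coprime.pow_right k (cop3 h3)
    rcases Nat.lt_or_ge n 6 with h6 | h6
    · have hn4 : n = 4 ∨ n = 5 := by
        rcases Nat.lt_or_ge n 4 with h4 | h4
        · have := (hn3 (by omega)).2
          omega
        · omega
      rcases hn4 with rfl | rfl
      · have h2 := hcancel ((q ^ 2 - 1) * (q ^ 3 + 1) * (q ^ 4 - 1)) (by rw [prU_four]; ring)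
        refine out_of_sq (a := q ^ 2 - 1) (b := q ^ (4 * (4 - 1) / 2) * ((q ^ 3 + 1) * (q ^ 2 + 1))) hg
          (Nat.Coprime.mul_right (cq _) (Nat.Coprime.mul_right c3 c2)) ?_
        rw [h2, e1]
        ring
      · have h2 := hcancel ((q ^ 2 - 1) * (q ^ 3 + 1) * (q ^ 4 - 1) * (q ^ 5 + 1)) (by rw [prU_five]; ring)
        refine out_of_sq (a := q ^ 2 - 1) (b := q ^ (5 * (5 - 1) / 2) * ((q ^ 3 + 1) * (q ^ 2 + 1) * (q ^ 5 + 1))) hg
          (Nat.Coprime.mul_right (cq _) (Nat.Coprime.mul_right (Nat.Coprime.mul_right c3 c2) c5)) ?_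
        rw [h2, e1]
        ring
    · have hc : Nat.Coprime 3 (Nat.gcd n (q + 1) * (q + 1)) := Nat.Coprime.mul_right hg (cop3 (by omega))
      refine out_of_cop hc h (Dvd.dvd.mul_left (dvd_trans ?_ (prU_dvd h6)) _)
      rw [prU_six]
      have h5 : 3 * 3 * 9 ∣ (q ^ 2 - 1) * (q ^ 4 - 1) * (q ^ 6 - 1) :=
        mul_dvd_mul (mul_dvd_mul (d2 h3) (d2k h3 2)) (d6 h3)
      refine dvd_trans h5 ⟨(q + 1) * (q ^ 3 + 1) * (q ^ 5 + 1), by ring⟩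
  · -- `q ≡ 2 (mod 3)`
    have hq3 : 3 ∣ q + 1 := by omega
    rcases Nat.lt_or_ge n 4 with h4 | h4
    · have hn' : n = 3 := by omega
      subst hn'
      have hg : Nat.gcd 3 (q + 1) = 3 := Nat.gcd_eq_left hq3
      have h2 := hcancel ((q ^ 2 - 1) * (q ^ 3 + 1)) (by rw [prU_three]; ring)
      rw [hg] at h2
      obtain ⟨k, hk⟩ : ∃ k, q = 3 * k + 2 := ⟨q / 3, by omega⟩
      have h5 : c = (q + 1) ^ 2 * (q ^ 3 * ((3 * k + 1) * (3 * k ^ 2 + 3 * k + 1))) := by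
        have h6 : 3 * c = 3 * ((q + 1) ^ 2 * (q ^ 3 * ((3 * k + 1) * (3 * k ^ 2 + 3 * k + 1)))) := by
          rw [h2]
          have e2 : q ^ 2 - 1 = (q + 1) * (3 * k + 1) := by
            rw [hk]
            have : 1 ≤ (3 * k + 2) ^ 2 := Nat.one_le_pow _ _ (by omega)
            zify [this]
            ring
          have e3 : q ^ 3 + 1 = (q + 1) * (3 * (3 * k ^ 2 + 3 * k + 1)) := by
            rw [hk]
            ring
          rw [e2, e3, show 3 * (3 - 1) / 2 = 3 by norm_num]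
          ring
        exact Nat.eq_of_mul_eq_mul_left (by norm_num) h6
      refine out_of_sq (d := 1) (a := q + 1) (b := q ^ 3 * ((3 * k + 1) * (3 * k ^ 2 + 3 * k + 1)))
        (by norm_num) ?_ (by rw [one_mul]; exact h5)
      refine Nat.Coprime.mul_right (Nat.Coprime.pow_right 3 (cop3 h3)) (Nat.Coprime.mul_right (cop3 (by omega)) (cop3 ?_))
      have : 3 * k ^ 2 + 3 * k + 1 = 3 * (k ^ 2 + k) + 1 := by ring
      omega
    rcases Nat.lt_or_ge n 6 with h6 | h6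
    · have hn4 : n = 4 ∨ n = 5 := by omega
      have h81 : 81 ∣ (q ^ 2 - 1) * (q ^ 3 + 1) * (q ^ 4 - 1) := by
        have : 3 * 9 * 3 ∣ (q ^ 2 - 1) * (q ^ 3 + 1) * (q ^ 4 - 1) :=
          mul_dvd_mul (mul_dvd_mul (d2 h3) (d3' hm)) (d2k h3 2)
        exact this
      have hg : Nat.Coprime 3 (Nat.gcd n (q + 1)) := by
        refine Nat.Coprime.coprime_dvd_right (Nat.gcd_dvd_left _ _) ?_
        rcases hn4 with rfl | rfl <;> norm_num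
      rcases hn4 with rfl | rfl
      · have h2 := hcancel ((q ^ 2 - 1) * (q ^ 3 + 1) * (q ^ 4 - 1)) (by rw [prU_four]; ring)
        exact out_of_cop hg h2 (Dvd.dvd.mul_left h81 _)
      · have h2 := hcancel ((q ^ 2 - 1) * (q ^ 3 + 1) * (q ^ 4 - 1) * (q ^ 5 + 1)) (by rw [prU_five]; ring)
        exact out_of_cop hg h2 (Dvd.dvd.mul_left (Dvd.dvd.mul_right h81 _) _)
    · obtain ⟨y, hy⟩ := prU_dvd (q := q) h6
      have h2 := hcancel (((q ^ 2 - 1) * (q ^ 3 + 1) * (q ^ 4 - 1)) * (q ^ 5 + 1) * ((q ^ 6 - 1) * y))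
        (by rw [hy, prU_six]; ring)
      obtain ⟨w, hw⟩ := Nat.gcd_dvd_right n (q + 1)
      obtain ⟨v, hv⟩ : q + 1 ∣ q ^ 5 + 1 := add_dvd_pow_add q 2
      have h81 : 81 ∣ (q ^ 2 - 1) * (q ^ 3 + 1) * (q ^ 4 - 1) := by
        have : 3 * 9 * 3 ∣ (q ^ 2 - 1) * (q ^ 3 + 1) * (q ^ 4 - 1) :=
          mul_dvd_mul (mul_dvd_mul (d2 h3) (d3' hm)) (d2k h3 2)
        exact this
      obtain ⟨u, hu⟩ := h81
      have hg0 : 0 < Nat.gcd n (q + 1) := Nat.gcd_pos_of_pos_right _ hq1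
      have h7 : Nat.gcd n (q + 1) * c = Nat.gcd n (q + 1) *
          (81 * (q ^ (n * (n - 1) / 2) * (u * (w * v) * ((q ^ 6 - 1) * y)))) := by
        have h8 : q ^ 5 + 1 = Nat.gcd n (q + 1) * (w * v) := by
          rw [hv]
          nth_rewrite 1 [hw]
          ring
        rw [h2, hu, h8]
        ring
      have h9 := Nat.eq_of_mul_eq_mul_left hg0 h7
      exact out_of ⟨_, h9⟩

/-! ### linear groups -/

theorem glN_three (q : ℕ) : glN 3 q = (q ^ 3 - 1) * (q ^ 3 - q) * (q ^ 3 - q ^ 2) := by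
  simp [glN, List.range_succ]
  ring

theorem glN_two (q : ℕ) : glN 2 q = (q ^ 2 - 1) * (q ^ 2 - q) := by
  simp [glN, List.range_succ]

theorem glN_four (q : ℕ) : glN 4 q = (q ^ 4 - 1) * (q ^ 4 - q) * (q ^ 4 - q ^ 2) * (q ^ 4 - q ^ 3) := by
  simp [glN, List.range_succ]
  ring

theorem glN_five (q : ℕ) :
    glN 5 q = (q ^ 5 - 1) * (q ^ 5 - q) * (q ^ 5 - q ^ 2) * (q ^ 5 - q ^ 3) * (q ^ 5 - q ^ 4) := by
  simp [glN, List.range_succ]
  ring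

theorem psl_three {q : ℕ} (hq : 1 < q) {g c : ℕ} (h : g * (q - 1) * c = glN 3 q) :
    g * c = q ^ 3 * (q ^ 3 - 1) * (q ^ 2 - 1) := by
  obtain ⟨k, rfl⟩ : ∃ k, q = k + 1 := ⟨q - 1, by omega⟩
  rw [glN_three, Nat.add_sub_cancel] at h
  have e1 : (k + 1) ^ 3 - (k + 1) = (k + 1) * ((k + 1) ^ 2 - 1) := by
    rw [Nat.mul_sub_one]; congr 1; ring
  have e2 : (k + 1) ^ 3 - (k + 1) ^ 2 = (k + 1) ^ 2 * k := by
    have : (k + 1) ^ 3 = (k + 1) ^ 2 * k + (k + 1) ^ 2 := by ring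
    omega
  rw [e1, e2] at h
  have hk : 0 < k := by omega
  have : k * (g * c) = k * ((k + 1) ^ 3 * ((k + 1) ^ 3 - 1) * ((k + 1) ^ 2 - 1)) := by
    calc k * (g * c) = g * k * c := by ring
      _ = _ := by rw [h]; ring
  exact Nat.eq_of_mul_eq_mul_left hk this

theorem e41 {q : ℕ} (hq : 1 ≤ q) : q ^ 4 - 1 = (q ^ 2 - 1) * (q ^ 2 + 1) := by
  have h1q : 1 ≤ q ^ 2 := Nat.one_le_pow _ _ hq
  have h4q : 1 ≤ q ^ 4 := Nat.one_le_pow _ _ hq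
  zify [h1q, h4q]
  ring

theorem sub_eq (q a b : ℕ) : q ^ (a + b) - q ^ a = q ^ a * (q ^ b - 1) := by
  rw [Nat.mul_sub_one, pow_add]

theorem psl_four {q : ℕ} (hq : 1 < q) {g c : ℕ} (h : g * (q - 1) * c = glN 4 q) :
    g * c = q ^ 6 * ((q ^ 4 - 1) * (q ^ 3 - 1) * (q ^ 2 - 1)) := by
  have hk : 0 < q - 1 := by omega
  have e1 : q ^ 4 - q = q ^ 1 * (q ^ 3 - 1) := by
    have := sub_eq q 1 3
    simpa using this
  have e2 : q ^ 4 - q ^ 2 = q ^ 2 * (q ^ 2 - 1) := sub_eq q 2 2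
  have e3 : q ^ 4 - q ^ 3 = q ^ 3 * (q - 1) := by
    have := sub_eq q 3 1
    simpa using this
  rw [glN_four, e1, e2, e3] at h
  have : (q - 1) * (g * c) = (q - 1) * (q ^ 6 * ((q ^ 4 - 1) * (q ^ 3 - 1) * (q ^ 2 - 1))) := by
    calc (q - 1) * (g * c) = g * (q - 1) * c := by ring
      _ = _ := by rw [h]; ring
  exact Nat.eq_of_mul_eq_mul_left hk this

theorem psl_five {q : ℕ} (hq : 1 < q) {g c : ℕ} (h : g * (q - 1) * c = glN 5 q) :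
    g * c = q ^ 10 * ((q ^ 5 - 1) * (q ^ 4 - 1) * (q ^ 3 - 1) * (q ^ 2 - 1)) := by
  have hk : 0 < q - 1 := by omega
  have e1 : q ^ 5 - q = q ^ 1 * (q ^ 4 - 1) := by
    have := sub_eq q 1 4
    simpa using this
  have e2 : q ^ 5 - q ^ 2 = q ^ 2 * (q ^ 3 - 1) := sub_eq q 2 3
  have e3 : q ^ 5 - q ^ 3 = q ^ 3 * (q ^ 2 - 1) := sub_eq q 3 2
  have e4 : q ^ 5 - q ^ 4 = q ^ 4 * (q - 1) := by
    have := sub_eq q 4 1
    simpa using this
  rw [glN_five, e1, e2, e3, e4] at h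
  have : (q - 1) * (g * c) = (q - 1) * (q ^ 10 * ((q ^ 5 - 1) * (q ^ 4 - 1) * (q ^ 3 - 1) * (q ^ 2 - 1))) := by
    calc (q - 1) * (g * c) = g * (q - 1) * c := by ring
      _ = _ := by rw [h]; ring
  exact Nat.eq_of_mul_eq_mul_left hk this

theorem psl_two {q : ℕ} (hq : 1 < q) {g c : ℕ} (h : g * (q - 1) * c = glN 2 q) :
    g * c = q * (q ^ 2 - 1) := by
  have hk : 0 < q - 1 := by omega
  have e1 : q ^ 2 - q = q * (q - 1) := by
    rw [Nat.mul_sub_one, sq]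
  rw [glN_two, e1] at h
  have : (q - 1) * (g * c) = (q - 1) * (q * (q ^ 2 - 1)) := by
    calc (q - 1) * (g * c) = g * (q - 1) * c := by ring
      _ = _ := by rw [h]; ring
  exact Nat.eq_of_mul_eq_mul_left hk this

/-- `PSL_3(q)`, `q ≡ 1 (mod 3)` -/
theorem out_psl_three {q c : ℕ} (hq : q % 3 = 1) (hq1 : 1 < q) (h : Nat.gcd 3 (q - 1) * (q - 1) * c = glN 3 q) :
    Out c := by
  have h1 := psl_three hq1 h
  obtain ⟨k, hk⟩ : ∃ k, q = 3 * k + 1 := ⟨q / 3, by omega⟩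
  have hg : Nat.gcd 3 (q - 1) = 3 := Nat.gcd_eq_left (by omega)
  rw [hg] at h1
  have h3 : ¬ 3 ∣ q := by omega
  have e2 : q ^ 2 - 1 = (3 * k) * (3 * k + 2) := by
    rw [hk]
    have : 1 ≤ (3 * k + 1) ^ 2 := Nat.one_le_pow _ _ (by omega)
    zify [this]
    ring
  have e3 : q ^ 3 - 1 = (3 * k) * (3 * (3 * k ^ 2 + 3 * k + 1)) := by
    rw [hk]
    have : 1 ≤ (3 * k + 1) ^ 3 := Nat.one_le_pow _ _ (by omega)
    zify [this]
    ring
  have h2 : c = (3 * k) ^ 2 * (q ^ 3 * ((3 * k + 2) * (3 * k ^ 2 + 3 * k + 1))) := by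
    have h6 : 3 * c = 3 * ((3 * k) ^ 2 * (q ^ 3 * ((3 * k + 2) * (3 * k ^ 2 + 3 * k + 1)))) := by
      rw [h1, e2, e3]
      ring
    exact Nat.eq_of_mul_eq_mul_left (by norm_num) h6
  refine out_of_sq (d := 1) (a := 3 * k) (b := q ^ 3 * ((3 * k + 2) * (3 * k ^ 2 + 3 * k + 1)))
    (by norm_num) ?_ (by rw [one_mul]; exact h2)
  refine Nat.Coprime.mul_right (Nat.Coprime.pow_right 3 (cop3 h3)) (Nat.Coprime.mul_right (cop3 (by omega)) (cop3 ?_))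
  have : 3 * k ^ 2 + 3 * k + 1 = 3 * (k ^ 2 + k) + 1 := by ring
  omega

theorem not3_sub {q : ℕ} (h : q % 3 = 2) (k : ℕ) : ¬ 3 ∣ q ^ (2 * k + 1) - 1 := by
  intro h4
  have h5 : q ^ (2 * k + 1) % 3 = 2 := by
    rw [pow_succ, pow_mul, Nat.mul_mod, Nat.pow_mod, Nat.pow_mod q, h]
    simp
  have h1 : 1 ≤ q ^ (2 * k + 1) := Nat.one_le_pow _ _ (by omega)
  omega

/-- `PSL_4(q)`, `PSL_5(q)`, `q ≢ 1 (mod 3)` -/
theorem out_psl_45 {q c n : ℕ} (hn : n = 4 ∨ n = 5) (hq : q % 3 ≠ 1) (hq1 : 1 < q)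
    (h : Nat.gcd n (q - 1) * (q - 1) * c = glN n q) : Out c := by
  have hg : Nat.Coprime 3 (Nat.gcd n (q - 1)) := by
    refine Nat.Coprime.coprime_dvd_right (Nat.gcd_dvd_left _ _) ?_
    rcases hn with rfl | rfl <;> norm_num
  by_cases h3 : 3 ∣ q
  · rcases hn with rfl | rfl
    · exact out_of_cop hg (psl_four hq1 h) (Dvd.dvd.mul_right (three_pow_dvd h3 (by norm_num)) _)
    · exact out_of_cop hg (psl_five hq1 h) (Dvd.dvd.mul_right (three_pow_dvd h3 (by norm_num)) _)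
  have hm : q % 3 = 2 := by omega
  have c3 : Nat.Coprime 3 (q ^ 3 - 1) := cop3 (not3_sub hm 1)
  have c5 : Nat.Coprime 3 (q ^ 5 - 1) := cop3 (not3_sub hm 2)
  have c2 : Nat.Coprime 3 (q ^ 2 + 1) := cop3 (not3_sq h3)
  have cq : ∀ k, Nat.Coprime 3 (q ^ k) := fun k => Nat.Coprime.pow_right k (cop3 h3)
  rcases hn with rfl | rfl
  · refine out_of_sq (a := q ^ 2 - 1) (b := q ^ 6 * ((q ^ 3 - 1) * (q ^ 2 + 1))) hg
      (Nat.Coprime.mul_right (cq _) (Nat.Coprime.mul_right c3 c2)) ?_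
    rw [psl_four hq1 h, e41 hq1.le]
    ring
  · refine out_of_sq (a := q ^ 2 - 1) (b := q ^ 10 * ((q ^ 3 - 1) * (q ^ 2 + 1) * (q ^ 5 - 1))) hg
      (Nat.Coprime.mul_right (cq _) (Nat.Coprime.mul_right (Nat.Coprime.mul_right c3 c2) c5)) ?_
    rw [psl_five hq1 h, e41 hq1.le]
    ring

/-- `PSL_3(q)`, `9 ∣ q` -/
theorem out_psl_39 {q c : ℕ} (h9 : 9 ∣ q) (hq1 : 1 < q) (h : Nat.gcd 3 (q - 1) * (q - 1) * c = glN 3 q) :
    Out c := by
  have h1 := psl_three hq1 h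
  have hg : Nat.Coprime 3 (Nat.gcd 3 (q - 1)) :=
    Nat.Coprime.coprime_dvd_right (Nat.gcd_dvd_right _ _) (cop3 (by omega))
  refine out_of_cop hg h1 (Dvd.dvd.mul_right (Dvd.dvd.mul_right ?_ _) _)
  have h2 : 9 ^ 3 ∣ q ^ 3 := pow_dvd_pow_of_dvd h9 3
  exact dvd_trans (by norm_num) h2

/-- `PSU_3(q)`, `9 ∣ q` -/
theorem out_psu_39 {q c : ℕ} (h9 : 9 ∣ q) (h : Nat.gcd 3 (q + 1) * (q + 1) * c = q ^ (3 * (3 - 1) / 2) * prU q 3) :
    Out c := by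
  have h1 : Nat.Coprime 3 (q + 1) := cop3 (by omega)
  have hg : Nat.Coprime 3 (Nat.gcd 3 (q + 1) * (q + 1)) :=
    Nat.Coprime.mul_right (Nat.Coprime.coprime_dvd_right (Nat.gcd_dvd_right _ _) h1) h1
  refine out_of_cop hg h (Dvd.dvd.mul_right ?_ _)
  have h2 : 9 ^ 3 ∣ q ^ 3 := pow_dvd_pow_of_dvd h9 3
  exact dvd_trans (by norm_num) h2

/-- `PSL_2(q)`, `3 ∣ q` : `27 ∣ q` -/
theorem psl_two_27 {q c : ℕ} (h3 : 3 ∣ q) (hq1 : 1 < q) (h : Nat.gcd 2 (q - 1) * (q - 1) * c = glN 2 q)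
    (hc : 27 ∣ c) : 27 ∣ q := by
  have h1 := psl_two hq1 h
  have h2 : 3 ^ 3 ∣ q * (q ^ 2 - 1) := by rw [← h1]; exact dvd_mul_of_dvd_right hc _
  have h4 : Nat.Coprime 3 (q ^ 2 - 1) := by
    apply cop3
    intro h5
    have h6 : 1 ≤ q ^ 2 := Nat.one_le_pow _ _ (by omega)
    have h7 : 3 ∣ q ^ 2 := dvd_pow h3 (by norm_num)
    omega
  exact (Nat.Coprime.pow_left 3 h4).dvd_of_dvd_mul_right h2

end Cfsg.Agent.H346.AmArith
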