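import Cfsg.Agent.H346.AmPair

/-!
# Centralizers of elements of order 3 in the amalgam
-/

set_option autoImplicit false
set_option linter.unusedSectionVars false

namespace Cfsg.Agent.H346.Am

open Subgroup

/-- `|H : Z| ≡ |N_H(Z) : Z| (mod 3)` for a 3-group `Z` -/
theorem relIndex_mod {G : Type*} [Group G] [Finite G] {H Z : Subgroup G} (hZH : Z ≤ H) {n : ℕ}
    (hZ : Nat.card ↥Z = 3 ^ n) :
    Z.relIndex H % 3 = Z.relIndex (H ⊓ normalizer (Z : Set G)) % 3 := by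
  classical
  have : Fintype ↥H := Fintype.ofFinite ↥H
  have : Fact (Nat.Prime 3) := ⟨Nat.prime_three⟩
  have h0 : Nat.card ↥(Z.subgroupOf H) = 3 ^ n := by rw [Nat.card_congr (subgroupOfEquivOfLe hZH).toEquiv, hZ]
  have h1 := Sylow.card_quotient_normalizer_modEq_card_quotient (p := 3) (n := n) (H := Z.subgroupOf H) h0
  have h2 : Nat.card (↥H ⧸ Z.subgroupOf H) = Z.relIndex H := rfl
  have h3 : (Z.subgroupOf H).relIndex (normalizer ((Z.subgroupOf H : Subgroup ↥H) : Set ↥H)) =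
      Z.relIndex (H ⊓ normalizer (Z : Set G)) := by
    rw [← Subgroup.subgroupOf_normalizer_eq hZH, Subgroup.relIndex, Subgroup.relIndex]
    have e1 := Subgroup.card_mul_index ((Z.subgroupOf H).subgroupOf ((normalizer (Z : Set G)).subgroupOf H))
    have e2 := Subgroup.card_mul_index (Z.subgroupOf (H ⊓ normalizer (Z : Set G)))
    have hle : Z ≤ H ⊓ normalizer (Z : Set G) := le_inf hZH le_normalizer
    have hle2 : Z.subgroupOf H ≤ (normalizer (Z : Set G)).subgroupOf H := by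
      intro x hx
      exact mem_subgroupOf.2 (le_normalizer (mem_subgroupOf.1 hx))
    rw [Nat.card_congr (subgroupOfEquivOfLe hle).toEquiv] at e2
    rw [Nat.card_congr (subgroupOfEquivOfLe hle2).toEquiv, Nat.card_congr (subgroupOfEquivOfLe hZH).toEquiv] at e1
    have e3 : Nat.card ↥((normalizer (Z : Set G)).subgroupOf H) = Nat.card ↥(H ⊓ normalizer (Z : Set G) : Subgroup G) := by
      rw [← Subgroup.inf_subgroupOf_left, Nat.card_congr (subgroupOfEquivOfLe inf_le_left).toEquiv]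
    rw [e3, ← e2] at e1
    exact Nat.eq_of_mul_eq_mul_left Nat.card_pos e1
  have h4 : Nat.card (↥(normalizer ((Z.subgroupOf H : Subgroup ↥H) : Set ↥H)) ⧸
      Subgroup.comap (normalizer ((Z.subgroupOf H : Subgroup ↥H) : Set ↥H)).subtype (Z.subgroupOf H)) =
      Z.relIndex (H ⊓ normalizer (Z : Set G)) := h3
  rw [h4, h2] at h1
  exact h1.symm

section
variable {G : Type*} [Group G] [Finite G] {A B P Q S : Subgroup G} {z : G}

/-- the elements of `A ∩ B` acting trivially on `PQ/Z` lie in `S` -/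
theorem Amal.mem_S (h : Amal A B P Q S z) {c p q z1 z2 : G} (hc : c ∈ A ⊓ B) (hp : p ∈ P) (hpz : p ∉ zpowers z)
    (hq : q ∈ Q) (hqz : q ∉ zpowers z) (h1 : z1 ∈ zpowers z) (h2 : z2 ∈ zpowers z) (hcp : c * p * c⁻¹ = z1 * p)
    (hcq : c * q * c⁻¹ = z2 * q) : c ∈ S := by
  have hcen : ∀ w ∈ zpowers z, ∀ s ∈ S, s * w = w * s := by
    intro w hw s hs
    rcases mem_zpowers3 h.z3 hw with rfl | rfl | rfl
    · simp
    · exact h.zS s hs
    · rw [eq_inv_mul_iff_mul_eq, ← mul_assoc, ← h.zS s hs, mul_inv_cancel_right]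
  have hpS := h.PS hp
  have hqS := h.QS hq
  set u := p * q * p⁻¹ * q⁻¹ with hu
  have huz : u ∈ zpowers z := by
    rw [← h.PinfQ, Subgroup.mem_inf]
    constructor
    · have : u = p * (q * p⁻¹ * q⁻¹) := by rw [hu]; group
      rw [this]
      exact mul_mem hp (h.hA.norm q (h.SA hqS) _ (inv_mem hp))
    · have : u = (p * q * p⁻¹) * q⁻¹ := by rw [hu]
      rw [this]
      exact mul_mem (h.hB.norm p (h.SB hpS) _ hq) (inv_mem hq)
  have hu1 : u ≠ 1 := by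
    intro h3
    apply hpz
    rw [← h.PinfQ]
    refine ⟨hp, h.hB.cent p (h.SB hpS) ?_⟩
    refine comm_of_gen h.hB.cardP h.zQ h.z3 h.z1 hq hqz (h.zS p hpS) ?_
    rw [hu] at h3
    calc p * q = (p * q * p⁻¹ * q⁻¹) * (q * p) := by group
      _ = q * p := by rw [h3, one_mul]
  have huc : c * u * c⁻¹ = u := by
    have e1 : c * u * c⁻¹ = (c * p * c⁻¹) * (c * q * c⁻¹) * (c * p * c⁻¹)⁻¹ * (c * q * c⁻¹)⁻¹ := by rw [hu]; group
    rw [e1, hcp, hcq, mul_inv_rev, mul_inv_rev]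
    have e2 : p * z2 = z2 * p := hcen z2 h2 p hpS
    have e3 : p⁻¹ * z1⁻¹ = z1⁻¹ * p⁻¹ := hcen _ (inv_mem h1) _ (inv_mem hpS)
    have e4 : q⁻¹ * z2⁻¹ = z2⁻¹ * q⁻¹ := hcen _ (inv_mem h2) _ (inv_mem hqS)
    have hs : z2 * (p * q * p⁻¹) = p * q * p⁻¹ * z2 := (hcen z2 h2 _ (mul_mem (mul_mem hpS hqS) (inv_mem hpS))).symm
    have ht : z1 * (p * q * p⁻¹) = p * q * p⁻¹ * z1 := (hcen z1 h1 _ (mul_mem (mul_mem hpS hqS) (inv_mem hpS))).symm
    have hz12 : z1 * z2 = z2 * z1 := by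
      obtain ⟨i, rfl⟩ := mem_zpowers_iff.1 h1
      obtain ⟨j, rfl⟩ := mem_zpowers_iff.1 h2
      rw [← zpow_add, ← zpow_add, add_comm]
    calc z1 * p * (z2 * q) * (p⁻¹ * z1⁻¹) * (q⁻¹ * z2⁻¹)
        = z1 * (p * z2) * q * (p⁻¹ * z1⁻¹) * (q⁻¹ * z2⁻¹) := by group
      _ = z1 * (z2 * p) * q * (z1⁻¹ * p⁻¹) * (z2⁻¹ * q⁻¹) := by rw [e2, e3, e4]
      _ = z1 * z2 * (p * q * z1⁻¹) * p⁻¹ * z2⁻¹ * q⁻¹ := by group
      _ = z1 * z2 * (z1⁻¹ * (p * q)) * p⁻¹ * z2⁻¹ * q⁻¹ := by rw [hcen z1⁻¹ (inv_mem h1) _ (mul_mem hpS hqS)]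
      _ = z2 * (p * q * p⁻¹) * z2⁻¹ * q⁻¹ := by rw [hz12]; group
      _ = p * q * p⁻¹ * z2 * z2⁻¹ * q⁻¹ := by rw [hs]
      _ = u := by rw [hu]; group
  have hu3 : u ^ 3 = 1 := by
    obtain ⟨i, hi⟩ := mem_zpowers_iff.1 huz
    rw [← hi, ← zpow_natCast, ← zpow_mul, mul_comm, zpow_mul, zpow_natCast, h.z3, one_zpow]
  have hzu : zpowers u = zpowers z :=
    Subgroup.eq_of_le_of_card_ge (zpowers_le.2 huz) (by rw [card_zpowers3 hu3 hu1, h.cardZ])
  have hcz : c * z = z * c := by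
    have hz : z ∈ zpowers u := by rw [hzu]; exact mem_zpowers z
    obtain ⟨i, hi⟩ := mem_zpowers_iff.1 hz
    rw [← mul_inv_eq_iff_eq_mul, ← hi, ← conj_zpow, huc]
  -- the element of `S` with the same action on `P`
  have hfin : ∀ s ∈ S, (s * c) * p * (s * c)⁻¹ = p → c ∈ S := by
    intro s hs h3
    have h4 : s * c ∈ P := by
      refine h.hA.cent _ (mul_mem (h.SA hs) hc.1) ?_
      refine comm_of_gen h.hA.cardP h.zP h.z3 h.z1 hp hpz ?_ ?_
      · rw [mul_assoc, hcz, ← mul_assoc, h.zS s hs, mul_assoc]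
      · rwa [mul_inv_eq_iff_eq_mul] at h3
    have h5 : c = s⁻¹ * (s * c) := by group
    rw [h5]
    exact mul_mem (inv_mem hs) (h.PS h4)
  have h1u : z1 ∈ zpowers u := by rw [hzu]; exact h1
  have hqp : q * p * q⁻¹ = u⁻¹ * p := by rw [hu]; group
  have hqu : q * u = u * q := hcen u huz q hqS
  rcases mem_zpowers3 hu3 h1u with h3 | h3 | h3
  · refine hfin 1 (one_mem S) ?_
    rw [one_mul, hcp, h3, one_mul]
  · refine hfin q hqS ?_
    calc q * c * p * (q * c)⁻¹ = q * (c * p * c⁻¹) * q⁻¹ := by group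
      _ = (q * u) * p * q⁻¹ := by rw [hcp, h3]; group
      _ = u * (q * p * q⁻¹) := by rw [hqu]; group
      _ = p := by rw [hqp]; group
  · refine hfin q⁻¹ (inv_mem hqS) ?_
    have e1 : c * p * c⁻¹ = q * p * q⁻¹ := by rw [hcp, h3, hqp]
    calc q⁻¹ * c * p * (q⁻¹ * c)⁻¹ = q⁻¹ * (c * p * c⁻¹) * q := by group
      _ = p := by rw [e1]; group

/-- the elements of `S` outside `P` and `Q` -/
theorem Amal.mem_S' (h : Amal A B P Q S z) {c d : G} (hc : c ∈ A ⊓ B) (hd : d ∈ S) (hdP : d ∉ P) (hdQ : d ∉ Q)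
    (hcd : c * d = d * c) : c ∈ S := by
  obtain ⟨p, hp, q, hq, rfl⟩ := h.exists_mul hd
  have hpz : p ∉ zpowers z := fun h1 => hdQ (mul_mem (zpowers_le.2 h.zQ h1) hq)
  have hqz : q ∉ zpowers z := fun h1 => hdP (mul_mem hp (zpowers_le.2 h.zP h1))
  have h1 : c * p * c⁻¹ * (c * q * c⁻¹) = p * q := by
    have : c * p * c⁻¹ * (c * q * c⁻¹) = c * (p * q) * c⁻¹ := by group
    rw [this, mul_inv_eq_iff_eq_mul, hcd]
  have h2 : p⁻¹ * (c * p * c⁻¹) = q * (c * q * c⁻¹)⁻¹ := by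
    calc p⁻¹ * (c * p * c⁻¹) = p⁻¹ * (c * p * c⁻¹ * (c * q * c⁻¹)) * (c * q * c⁻¹)⁻¹ := by group
      _ = _ := by rw [h1]; group
  have h3 : p⁻¹ * (c * p * c⁻¹) ∈ zpowers z := by
    rw [← h.PinfQ, Subgroup.mem_inf]
    refine ⟨mul_mem (inv_mem hp) (h.hA.norm c hc.1 p hp), ?_⟩
    rw [h2]
    exact mul_mem hq (inv_mem (h.hB.norm c hc.2 q hq))
  have hzc : ∀ w ∈ zpowers z, ∀ s ∈ S, s * w = w * s := by
    intro w hw s hs
    obtain ⟨i, rfl⟩ := mem_zpowers_iff.1 hw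
    exact (Commute.zpow_right (h.zS s hs) i)
  refine h.mem_S hc hp hpz hq hqz h3 (z2 := (p⁻¹ * (c * p * c⁻¹))⁻¹) (inv_mem h3) ?_ ?_
  · rw [← hzc _ h3 p (h.PS hp)]
    group
  · rw [h2]
    group

/-- the centralizer in `A ∩ B` of an element of `S` outside `P` and `Q` has order 9 -/
theorem Amal.card_E (h : Amal A B P Q S z) {d : G} (hd : d ∈ S) (hdP : d ∉ P) :
    Nat.card ↥(S ⊓ centralizer ({d} : Set G)) = 9 := by
  have h1 : zpowers d ⊔ zpowers z ≤ S ⊓ centralizer ({d} : Set G) := by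
    refine sup_le (zpowers_le.2 ⟨hd, mem_centralizer_singleton_iff.2 rfl⟩)
      (zpowers_le.2 ⟨h.PS h.zP, mem_centralizer_singleton_iff.2 (h.zS d hd).symm⟩)
  have hdz : d ∉ zpowers z := fun h2 => hdP (zpowers_le.2 h.zP h2)
  have h2 : Nat.card ↥(S ⊓ centralizer ({d} : Set G)) ∣ 27 := h.cardS ▸ card_dvd_of_le inf_le_left
  have h3 : Nat.card ↥(S ⊓ centralizer ({d} : Set G)) ≠ 27 := by
    intro h3
    have h4 : S ⊓ centralizer ({d} : Set G) = S := Subgroup.eq_of_le_of_card_ge inf_le_left (by rw [h3, h.cardS])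
    apply hdz
    apply h.cent_S hd
    intro s hs
    rw [← h4] at hs
    exact (mem_centralizer_singleton_iff.1 hs.2).symm
  have h5 : 3 ∣ Nat.card ↥(S ⊓ centralizer ({d} : Set G)) := by
    rw [← h.cardZ]
    exact card_dvd_of_le (le_sup_right.trans h1)
  have h6 : Nat.card ↥(S ⊓ centralizer ({d} : Set G)) ≠ 3 := by
    intro h6
    have h7 : zpowers z = S ⊓ centralizer ({d} : Set G) :=
      Subgroup.eq_of_le_of_card_ge (le_sup_right.trans h1) (by rw [h6, h.cardZ])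
    exact hdz (h7 ▸ h1 (mem_sup_left (mem_zpowers d)))
  have h8 : ∃ k ≤ 3, Nat.card ↥(S ⊓ centralizer ({d} : Set G)) = 3 ^ k :=
    (Nat.dvd_prime_pow Nat.prime_three).1 (by rw [show (3 : ℕ) ^ 3 = 27 by norm_num]; exact h2)
  obtain ⟨k, hk, h9⟩ := h8
  rw [h9] at h3 h5 h6
  rw [h9]
  interval_cases k
  · norm_num at h5
  · norm_num at h6
  · norm_num
  · norm_num at h3

theorem Amal.inf_eq (h : Amal A B P Q S z) {d : G} (hd : d ∈ S) (hdP : d ∉ P) (hdQ : d ∉ Q) :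
    (A ⊓ B) ⊓ centralizer ({d} : Set G) = S ⊓ centralizer ({d} : Set G) := by
  apply le_antisymm
  · intro c hc
    exact ⟨h.mem_S' hc.1 hd hdP hdQ (mem_centralizer_singleton_iff.1 hc.2), hc.2⟩
  · exact inf_le_inf_right _ (le_inf h.SA h.SB)

/-- `A ∩ B` is transitive on `S ∖ (P ∪ Q)` -/
theorem Amal.exists_X (h : Amal A B P Q S z) {d d' : G} (hd : d ∈ S) (hdP : d ∉ P) (hdQ : d ∉ Q)
    (hd' : d' ∈ S) (hdP' : d' ∉ P) (hdQ' : d' ∉ Q) : ∃ c ∈ A ⊓ B, c * d * c⁻¹ = d' := by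
  let _ : MulAction ↥(A ⊓ B : Subgroup G) G :=
    { smul := fun a g => a * g * (a : G)⁻¹
      one_smul := fun g => by
        change (1 : G) * g * (1 : G)⁻¹ = g
        simp
      mul_smul := fun a b g => by
        change (a * b : G) * g * (a * b : G)⁻¹ = (a : G) * (b * g * (b : G)⁻¹) * (a : G)⁻¹
        simp [mul_assoc] }
  have h1 := Subgroup.card_mul_index (MulAction.stabilizer ↥(A ⊓ B : Subgroup G) d)
  rw [MulAction.index_stabilizer, h.card_C] at h1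
  have h2 : Nat.card ↥(MulAction.stabilizer ↥(A ⊓ B : Subgroup G) d) = 9 := by
    rw [← h.card_E hd hdP, ← h.inf_eq hd hdP hdQ]
    refine Nat.card_congr (Equiv.ofBijective (fun a => ⟨a.1.1, a.1.2, ?_⟩) ⟨?_, ?_⟩)
    · have h1 : (a.1 : G) * d * (a.1 : G)⁻¹ = d := a.2
      rw [mul_inv_eq_iff_eq_mul] at h1
      exact mem_centralizer_singleton_iff.2 h1
    · rintro ⟨⟨a, ha⟩, ha'⟩ ⟨⟨b, hb⟩, hb'⟩ hab
      have : a = b := congrArg Subtype.val hab
      subst this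
      rfl
    · rintro ⟨w, hw⟩
      refine ⟨⟨⟨w, hw.1⟩, ?_⟩, rfl⟩
      change w * d * w⁻¹ = d
      rw [mul_inv_eq_iff_eq_mul]
      exact mem_centralizer_singleton_iff.1 hw.2
  have hsub : MulAction.orbit ↥(A ⊓ B : Subgroup G) d ⊆ (S : Set G) \ ((P : Set G) ∪ (Q : Set G)) := by
    rintro _ ⟨a, rfl⟩
    change (a : G) * d * (a : G)⁻¹ ∈ (S : Set G) \ ((P : Set G) ∪ (Q : Set G))
    have e1 : d = (a : G)⁻¹ * ((a : G) * d * (a : G)⁻¹) * ((a : G)⁻¹)⁻¹ := by group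
    refine ⟨h.normS a.2 hd, ?_⟩
    rintro (h3 | h3)
    · apply hdP
      rw [e1]
      exact h.hA.norm _ (inv_mem a.2.1) _ h3
    · apply hdQ
      rw [e1]
      exact h.hB.norm _ (inv_mem a.2.2) _ h3
  have hP : ((P : Subgroup G) : Set G).ncard = 9 := by rw [← Nat.card_coe_set_eq]; exact h.hA.cardP
  have hQ : ((Q : Subgroup G) : Set G).ncard = 9 := by rw [← Nat.card_coe_set_eq]; exact h.hB.cardP
  have hS : ((S : Subgroup G) : Set G).ncard = 27 := by rw [← Nat.card_coe_set_eq]; exact h.cardS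
  have hPQ : ((P : Set G) ∩ (Q : Set G)).ncard = 3 := by
    rw [← Subgroup.coe_inf, h.PinfQ, ← Nat.card_coe_set_eq]
    exact h.cardZ
  have hU : ((P : Set G) ∪ (Q : Set G)).ncard = 15 := by
    have := Set.ncard_union_add_ncard_inter (P : Set G) (Q : Set G) (Set.toFinite _) (Set.toFinite _)
    omega
  have hX : ((S : Set G) \ ((P : Set G) ∪ (Q : Set G))).ncard = 12 := by
    rw [Set.ncard_sdiff (Set.union_subset (SetLike.coe_subset_coe.2 h.PS) (SetLike.coe_subset_coe.2 h.QS))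
      (Set.toFinite _), hS, hU]
  have heq : MulAction.orbit ↥(A ⊓ B : Subgroup G) d = (S : Set G) \ ((P : Set G) ∪ (Q : Set G)) := by
    apply Set.eq_of_subset_of_ncard_le hsub _ (Set.toFinite _)
    rw [h2] at h1
    rw [hX]
    omega
  have hmem : d' ∈ MulAction.orbit ↥(A ⊓ B : Subgroup G) d := by
    rw [heq]
    exact ⟨hd', fun h3 => h3.elim hdP' hdQ'⟩
  obtain ⟨a, ha⟩ := hmem
  exact ⟨a, a.2, ha⟩

end

end Cfsg.Agent.H346.Am
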