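import Cfsg.Agent.H346.AmMain
import Cfsg.Agent.ClassificationK.GTwoChev
import Cfsg.Agent.ChevalleyStructure.Triangular
import Cfsg.Agent.S1024
import Cfsg.Agent.KFacts.TwF4.Full

/-!
# Commuting groups `SL₂(q)` in `G₂(q)` and `²F₄(q)`: elements of order 3 that are not `Good`
-/

set_option autoImplicit false
set_option linter.unusedSectionVars false

namespace Cfsg.Agent.H346.AmLie

open Subgroup Matrix Cfsg Cfsg.Lie
open Cfsg.Agent.H346.Am
open Cfsg.Agent.ChevalleyStructure.SL2Hom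

section
variable {F : Type*} [Field F]

/-- the element of order 3 -/
def om (F : Type*) [Field F] : SpecialLinearGroup (Fin 2) F := up 1 * lo (-3)

theorem om_val : (om F).1 = !![-2, 1; -3, 1] := by
  change (!![1, 1; 0, 1] * !![1, 0; -3, 1] : Matrix (Fin 2) (Fin 2) F) = _
  rw [Matrix.mul_fin_two]
  norm_num

theorem om_cube : om F ^ 3 = 1 := by
  apply Subtype.ext
  rw [pow_succ, pow_two]
  change ((om F).1 * (om F).1 * (om F).1 : Matrix (Fin 2) (Fin 2) F) = 1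
  rw [om_val, Matrix.mul_fin_two, Matrix.mul_fin_two]
  ext i j
  fin_cases i <;> fin_cases j <;> simp <;> ring

theorem up_add (s t : F) : (up s * up t : SpecialLinearGroup (Fin 2) F) = up (s + t) := by
  apply Subtype.ext
  change (!![1, s; 0, 1] * !![1, t; 0, 1] : Matrix (Fin 2) (Fin 2) F) = !![1, s + t; 0, 1]
  rw [Matrix.mul_fin_two]
  simp [add_comm]

theorem lo_add (s t : F) : (lo s * lo t : SpecialLinearGroup (Fin 2) F) = lo (s + t) := by
  apply Subtype.ext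
  change (!![1, 0; s, 1] * !![1, 0; t, 1] : Matrix (Fin 2) (Fin 2) F) = !![1, 0; s + t, 1]
  rw [Matrix.mul_fin_two]
  simp

theorem up_zero : (up 0 : SpecialLinearGroup (Fin 2) F) = 1 := by
  apply Subtype.ext
  change (!![1, 0; 0, 1] : Matrix (Fin 2) (Fin 2) F) = 1
  exact Matrix.one_fin_two.symm

theorem lo_zero : (lo 0 : SpecialLinearGroup (Fin 2) F) = 1 := by
  apply Subtype.ext
  change (!![1, 0; 0, 1] : Matrix (Fin 2) (Fin 2) F) = 1
  exact Matrix.one_fin_two.symm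

theorem up_pow (s : F) (n : ℕ) : (up s ^ n : SpecialLinearGroup (Fin 2) F) = up (n * s) := by
  induction n with
  | zero => rw [pow_zero, Nat.cast_zero, zero_mul, up_zero]
  | succ n ih => rw [pow_succ, ih, up_add, Nat.cast_succ, add_mul, one_mul]

theorem lo_pow (s : F) (n : ℕ) : (lo s ^ n : SpecialLinearGroup (Fin 2) F) = lo (n * s) := by
  induction n with
  | zero => rw [pow_zero, Nat.cast_zero, zero_mul, lo_zero]
  | succ n ih => rw [pow_succ, ih, lo_add, Nat.cast_succ, add_mul, one_mul]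

theorem not_three_dvd {X : Type*} [Monoid X] {p : ℕ} (hp : p.Prime) (hp3 : p ≠ 3) {x : X} (hx : x ^ p = 1) :
    ¬ 3 ∣ orderOf x := by
  intro h
  have h1 : 3 ∣ p := h.trans (orderOf_dvd_of_pow_eq_one hx)
  rcases (Nat.dvd_prime hp).1 h1 with h2 | h2
  · omega
  · exact hp3 h2.symm

/-- commuting homomorphisms from `SL₂(q)` -/
theorem bad_of {X : Type*} [Group X] [Finite X] [Finite F] (φ ψ : SpecialLinearGroup (Fin 2) F →* X)
    (hc : ∀ g g', Commute (φ g) (ψ g')) (hφ : φ (om F) ≠ 1) (hψ : ψ (om F) ≠ 1)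
    (hinj : ∀ t, ψ (up t) = 1 → t = 0) (h3 : (3 : F) ≠ 0) (h4 : 3 ≤ Nat.card F) :
    ∃ x : X, orderOf x = 3 ∧ ¬ Good x := by
  have ho : ∀ χ : SpecialLinearGroup (Fin 2) F →* X, χ (om F) ≠ 1 → orderOf (χ (om F)) = 3 := by
    intro χ hχ
    have : Fact (Nat.Prime 3) := ⟨Nat.prime_three⟩
    exact orderOf_eq_prime (by rw [← map_pow, om_cube, map_one]) hχ
  refine ⟨φ (om F), ho φ hφ, fun hg => ?_⟩
  obtain ⟨p, hp⟩ := CharP.exists F
  have hpp : p.Prime := CharP.char_is_prime F p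
  have hp0 : (p : F) = 0 := CharP.cast_eq_zero F p
  have hp3 : p ≠ 3 := by
    rintro rfl
    exact h3 (by exact_mod_cast hp0)
  have h54 := hg (ψ (up 1)) (ψ (lo (-3))) (hc _ _).symm (hc _ _).symm
    (not_three_dvd hpp hp3 (by rw [← map_pow, up_pow, hp0, zero_mul, up_zero, map_one]))
    (not_three_dvd hpp hp3 (by rw [← map_pow, lo_pow, hp0, zero_mul, lo_zero, map_one]))
    (by rw [← map_mul]; exact ho ψ hψ)
  -- the order of the field divides 54
  let f : Multiplicative F →* ↥(centralizer ({φ (om F)} : Set X)) :=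
    { toFun := fun t => ⟨ψ (up (Multiplicative.toAdd t)), mem_centralizer_singleton_iff.2 (hc _ _).symm⟩
      map_one' := Subtype.ext (by
        change ψ (up 0) = 1
        rw [up_zero, map_one])
      map_mul' := fun s t => Subtype.ext (by
        change ψ (up (Multiplicative.toAdd s + Multiplicative.toAdd t)) =
          ψ (up (Multiplicative.toAdd s)) * ψ (up (Multiplicative.toAdd t))
        rw [← map_mul, up_add]) }
  have hf : Function.Injective f := by
    rw [injective_iff_map_eq_one]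
    intro t ht
    have h5 : ψ (up (Multiplicative.toAdd t)) = 1 := congrArg Subtype.val ht
    exact hinj _ h5
  have h5 : Nat.card F ∣ 54 := by
    have h6 : Nat.card (Multiplicative F) ∣ Nat.card ↥(centralizer ({φ (om F)} : Set X)) :=
      Subgroup.card_dvd_of_injective f hf
    rw [h54] at h6
    exact h6
  have : Fintype F := Fintype.ofFinite F
  obtain ⟨n, -, hn⟩ := FiniteField.card F p
  rw [Nat.card_eq_fintype_card, hn] at h4 h5
  have h7 : (p ^ (n : ℕ)).Coprime 27 :=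
    Nat.Coprime.pow_left _ ((Nat.Prime.coprime_iff_not_dvd hpp).2 fun h => by
      have : p ∣ 3 ^ 3 := by rw [show (3 : ℕ) ^ 3 = 27 by norm_num]; exact h
      have := hpp.dvd_of_dvd_pow this
      rcases (Nat.dvd_prime Nat.prime_three).1 this with h8 | h8
      · exact hpp.one_lt.ne' h8
      · exact hp3 h8)
  have h8 : p ^ (n : ℕ) ∣ 2 := by
    rw [show (54 : ℕ) = 2 * 27 by norm_num] at h5
    exact h7.dvd_of_dvd_mul_right h5
  have := Nat.le_of_dvd (by norm_num) h8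
  omega

end

/-! ### `G₂(q)` -/

section
open Cfsg.Agent.ClassificationK.GTwoChev

variable {F : Type*} [Field F]

theorem mem_pos {r : ℕ} (hr : chevG2.IsPosRoot r) (t : F) : ((ph r hr.1 F (up t) : ↥(chevG2.group F)) : GL chevG2.Idx F) ∈
    chevG2.posUnipotent F := subset_closure ⟨r, t, hr, ph_up r hr.1 t⟩

theorem mem_neg {r s : ℕ} (hr : r < chevG2.nroots) (hs : chevG2.neg r = s) (hn : chevG2.IsNegRoot s) (t : F) :
    ((ph r hr F (lo t) : ↥(chevG2.group F)) : GL chevG2.Idx F) ∈ chevG2.negUnipotent F :=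
  subset_closure ⟨s, t, hn, ph_lo r s hr hs t⟩

theorem up_inj {r : ℕ} (hr : r < chevG2.nroots) {t : F} (h : ph r hr F (up t) = 1) : t = 0 := by
  have h1 := ph_up r hr t
  rw [h] at h1
  exact (S1024.result chevG2 List.mem_cons_self r hr t).1 h1.symm

theorem ph_om {r s : ℕ} (hr : chevG2.IsPosRoot r) (hs : chevG2.neg r = s) (hn : chevG2.IsNegRoot s) :
    ph r hr.1 F (om F) ≠ 1 := by
  intro h
  rw [om, map_mul] at h
  have h1 : ph r hr.1 F (up 1) = ph r hr.1 F (lo 3) := by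
    rw [mul_eq_one_iff_eq_inv.1 h, ← map_inv]
    congr 1
    rw [inv_eq_iff_mul_eq_one, lo_add, neg_add_cancel, lo_zero]
  have h2 : ((ph r hr.1 F (up 1) : ↥(chevG2.group F)) : GL chevG2.Idx F) ∈
      chevG2.posUnipotent F ⊓ chevG2.negUnipotent F := ⟨mem_pos hr 1, by rw [h1]; exact mem_neg hr.1 hs hn 3⟩
  rw [ChevalleyStructure.Triangular.pos_inf_neg_eq_bot List.mem_cons_self, Subgroup.mem_bot] at h2
  exact one_ne_zero (up_inj hr.1 (Subtype.ext h2))

/-- **`G₂(q)`** -/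
theorem bad_G2 (F : Type*) [Field F] [Finite F] (h3 : (3 : F) ≠ 0) (h4 : 3 ≤ Nat.card F) :
    ∃ x : ↥(chevG2.group F), orderOf x = 3 ∧ ¬ Good x :=
  bad_of (ph11 F) (ph7 F) comm
    (ph_om (r := 11) (s := 0) (by decide +kernel) (by decide +kernel) (by decide +kernel))
    (ph_om (r := 7) (s := 4) (by decide +kernel) (by decide +kernel) (by decide +kernel))
    (fun t ht => up_inj (r := 7) (by decide) ht) h3 h4

end

/-! ### `²F₄(q)` -/

section
open Cfsg.Agent.KFacts.TwF4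

variable {F : Type*} [Field F] {σ : F →+* F} {G : Type*} [Group G]

theorem o_sq (S : Full σ G) (a : ZMod 8) : S.o a 1 * S.o a 1 = 1 := by
  have h0 : ∀ t, S.o a t * S.o a 0 = S.o a t := fun t => by rw [S.o_add, add_zero]
  rw [S.o_add, show (1 : F) + 1 = 0 by rw [← S.two]; norm_num]
  exact mul_eq_left.1 (h0 0)

theorem ab_cube (S : Full σ G) : (S.o 0 1 * S.o 4 1) ^ 3 = 1 := by
  set a := S.o 0 1 with ha
  set b := S.o 4 1 with hb
  have ha2 : a * a = 1 := o_sq S 0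
  have hb2 : b * b = 1 := o_sq S 4
  have hn := S.n1_o 0 1
  rw [S.n1_word, sub_zero, ← ha, ← hb] at hn
  have hinv : (a * b * a)⁻¹ = a * b * a := by
    rw [inv_eq_iff_mul_eq_one]
    calc a * b * a * (a * b * a) = a * b * (a * a) * b * a := by group
      _ = a * (b * b) * a := by rw [ha2]; group
      _ = 1 := by rw [hb2, mul_one, ha2]
  rw [hinv] at hn
  -- `a b a a a b a = b`
  have h1 : a * b * a * b * a = b := by
    calc a * b * a * b * a = a * b * (a * a) * (a * b * a) := by rw [ha2]; group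
      _ = a * b * a * a * (a * b * a) := by group
      _ = b := hn
  calc (a * b) ^ 3 = (a * b * a * b * a) * b := by rw [pow_succ, pow_two]; group
    _ = 1 := by rw [h1, hb2]

theorem X_le {S : Full σ G} : S.R.X (od 2) ≤ ⨆ r ∈ Set.Ioo (0 : ℕ) 8, S.R.X (od 1 + ((r : ℕ) : ZMod (2 * 8))) := by
  have h : (od 2 : ZMod (2 * 8)) = od 1 + ((2 : ℕ) : ZMod (2 * 8)) := by decide
  rw [h]
  exact le_iSup₂_of_le 2 (by constructor <;> norm_num) le_rfl

theorem ab_ne (S : Full σ G) : S.o 0 1 * S.o 4 1 ≠ 1 := by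
  intro h
  have hab : S.o 0 1 = S.o 4 1 := by
    rw [mul_eq_one_iff_eq_inv.1 h]
    exact inv_eq_of_mul_eq_one_left (o_sq S 4)
  have h1 : S.o 0 1 * S.o 3 1 = S.o 3 1 * S.o 0 1 := by
    rw [hab]
    exact (S.o_o1 3 1 1).symm
  have h2 := S.o_o3 0 1 1
  have e3 : (0 : ZMod 8) + 3 = 3 := rfl
  have e1 : (0 : ZMod 8) + 1 = 1 := rfl
  have e2 : (0 : ZMod 8) + 2 = 2 := rfl
  rw [e3, e1, e2, h1, map_one, mul_one, mul_assoc (S.o 3 1 * S.o 0 1)] at h2
  have h4 : S.o 1 1 * S.o 2 1 = 1 := (mul_eq_left.1 h2.symm)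
  have h5 : S.o 1 1 = S.o 2 1 := by
    rw [mul_eq_one_iff_eq_inv.1 h4]
    exact inv_eq_of_mul_eq_one_left (o_sq S 2)
  have h6 : S.o 1 1 ∈ S.R.X (od 1) ⊓ ⨆ r ∈ Set.Ioo (0 : ℕ) 8, S.R.X (od 1 + ((r : ℕ) : ZMod (2 * 8))) := by
    refine ⟨(S.mem_odd 1 _).2 ⟨1, rfl⟩, X_le ?_⟩
    rw [h5]
    exact (S.mem_odd 2 _).2 ⟨1, rfl⟩
  rw [S.R.inter, Subgroup.mem_bot] at h6
  have h0 : S.o 1 0 = 1 := by
    have := S.o_add 1 0 0
    rw [add_zero] at this
    exact mul_eq_left.1 this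
  exact one_ne_zero (S.injO 1 (h6.trans h0.symm))

/-- **`²F₄(q)`** -/
theorem bad_full [Finite G] [Finite F] (S : Full σ G) {m : ℕ} (hF : Nat.card F = 2 ^ (2 * m + 1)) (hm : 1 ≤ m) :
    ∃ x : G, orderOf x = 3 ∧ ¬ Good x := by
  have : Fact (Nat.Prime 3) := ⟨Nat.prime_three⟩
  refine ⟨S.o 0 1 * S.o 4 1, orderOf_eq_prime (ab_cube S) (ab_ne S), fun hg => ?_⟩
  have hcom : ∀ t : F, ∀ a : ZMod 8, a = 2 ∨ a = 6 → S.o a t * (S.o 0 1 * S.o 4 1) = (S.o 0 1 * S.o 4 1) * S.o a t := by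
    intro t a ha
    rcases ha with rfl | rfl
    · have h1 : S.o 0 1 * S.o 2 t = S.o 2 t * S.o 0 1 := S.o_o2 0 1 t
      have h2 : S.o 2 t * S.o 4 1 = S.o 4 1 * S.o 2 t := S.o_o2 2 t 1
      rw [← mul_assoc, ← h1, mul_assoc, h2, mul_assoc]
    · have h1 : S.o 6 t * S.o 0 1 = S.o 0 1 * S.o 6 t := S.o_o2 6 t 1
      have h2 : S.o 4 1 * S.o 6 t = S.o 6 t * S.o 4 1 := S.o_o2 4 1 t
      rw [← mul_assoc, h1, mul_assoc, ← h2, mul_assoc]
  have hrot : ∀ g : G, ∀ a t, S.rot * S.o a t * S.rot⁻¹ = S.o (a + 1) t := fun _ => S.rot_o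
  have h26 : S.rot * S.rot * (S.o 0 1 * S.o 4 1) * (S.rot * S.rot)⁻¹ = S.o 2 1 * S.o 6 1 := by
    calc S.rot * S.rot * (S.o 0 1 * S.o 4 1) * (S.rot * S.rot)⁻¹ =
          (S.rot * (S.rot * S.o 0 1 * S.rot⁻¹) * S.rot⁻¹) * (S.rot * (S.rot * S.o 4 1 * S.rot⁻¹) * S.rot⁻¹) := by group
      _ = S.o (0 + 1 + 1) 1 * S.o (4 + 1 + 1) 1 := by rw [S.rot_o, S.rot_o, S.rot_o, S.rot_o]
      _ = _ := rfl
  have h2d : ∀ a : ZMod 8, ¬ 3 ∣ orderOf (S.o a 1) := fun a =>
    not_three_dvd Nat.prime_two (by norm_num) (by rw [pow_two]; exact o_sq S a)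
  have h54 := hg (S.o 2 1) (S.o 6 1) (hcom 1 2 (Or.inl rfl)) (hcom 1 6 (Or.inr rfl)) (h2d 2) (h2d 6) (by
    rw [← h26, orderOf_conj']
    exact orderOf_eq_prime (ab_cube S) (ab_ne S))
  have h0 : S.o 2 0 = 1 := by
    have := S.o_add 2 0 0
    rw [add_zero] at this
    exact mul_eq_left.1 this
  let f : Multiplicative F →* ↥(centralizer ({S.o 0 1 * S.o 4 1} : Set G)) :=
    { toFun := fun t => ⟨S.o 2 (Multiplicative.toAdd t), mem_centralizer_singleton_iff.2 (hcom _ 2 (Or.inl rfl))⟩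
      map_one' := Subtype.ext h0
      map_mul' := fun s t => Subtype.ext (S.o_add 2 _ _).symm }
  have hf : Function.Injective f := by
    rw [injective_iff_map_eq_one]
    intro t ht
    have h5 : S.o 2 (Multiplicative.toAdd t) = 1 := congrArg Subtype.val ht
    exact S.injO 2 (h5.trans h0.symm)
  have h5 : Nat.card F ∣ 54 := by
    have h6 : Nat.card (Multiplicative F) ∣ Nat.card ↥(centralizer ({S.o 0 1 * S.o 4 1} : Set G)) :=
      Subgroup.card_dvd_of_injective f hf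
    rw [h54] at h6
    exact h6
  rw [hF] at h5
  have h6 : 2 ^ 2 ∣ 54 := (pow_dvd_pow 2 (by omega)).trans h5
  norm_num at h6

end

end Cfsg.Agent.H346.AmLie
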