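import Cfsg.Agent.H346.AmCent
import Cfsg.Agent.Lib.CoprimeHyperplane

/-!
# The amalgam of two groups `3² : GL(2,3)`: consequences for the group generated

* `Amal.good` : an element of order 3 whose centralizer contains two 3'-elements with a product of order 3 has centralizer
  of order 54.
* `Amal.exists_t` : an involution `t` with `|C(t)| = 3 m`, `m ≡ 1 (mod 3)`.
* `Amal.simple` : the group is simple.
-/

set_option autoImplicit false
set_option linter.unusedSectionVars false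

namespace Cfsg.Agent.H346.Am

open Subgroup

/-- a self-normalizing subgroup of order 9 : the 3'-elements generate a 3'-group -/
theorem orderOf_mul_ne {D : Type*} [Group D] [Finite D] (E : Subgroup D) (hE : Nat.card ↥E = 9)
    (hn : normalizer (E : Set D) ≤ E) {u v : D} (hu : ¬ 3 ∣ orderOf u) (hv : ¬ 3 ∣ orderOf v) :
    orderOf (u * v) ≠ 3 := by
  intro h3
  have : Fact (Nat.Prime 3) := ⟨Nat.prime_three⟩
  have hrel : E.relIndex ⊤ % 3 = 1 := by
    rw [relIndex_mod le_top (n := 2) (by rw [hE]; norm_num), top_inf_eq, le_antisymm hn le_normalizer, relIndex_self]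
  rw [relIndex_top_right] at hrel
  have hEp : IsPGroup 3 ↥E := IsPGroup.of_card (n := 2) (by rw [hE]; norm_num)
  have hEi : ¬ 3 ∣ E.index := by omega
  have hEc : ∀ a ∈ E, ∀ b ∈ E, a * b = b * a := by
    intro a ha b hb
    have h4 := (IsPGroup.isMulCommutative_of_card_eq_prime_sq (p := 3) (G := ↥E) (by rw [hE]; norm_num)).is_comm.comm
      ⟨a, ha⟩ ⟨b, hb⟩
    exact congrArg Subtype.val h4
  obtain ⟨T, hTE⟩ : ∃ T : Sylow 3 D, (T : Subgroup D) = E := ⟨hEp.toSylow hEi, rfl⟩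
  have hT : normalizer (T : Set D) ≤ centralizer (T : Set D) := by
    intro n hn1
    have hn' : n ∈ normalizer ((T : Subgroup D) : Set D) := hn1
    rw [hTE] at hn'
    have h4 := hn hn'
    rw [mem_centralizer_iff]
    intro e he
    have he' : e ∈ (T : Subgroup D) := he
    rw [hTE] at he'
    exact hEc e he' n h4
  have hker : ∀ w : D, ¬ 3 ∣ orderOf w → w ∈ (MonoidHom.transferSylow T hT).ker := by
    intro w hw
    rw [MonoidHom.mem_ker]
    have h4 : orderOf ((MonoidHom.transferSylow T hT) w) ∣ orderOf w := orderOf_map_dvd _ w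
    have h7 : Nat.card ↥(T : Subgroup D) = 9 := by rw [hTE, hE]
    have h6 : orderOf ((MonoidHom.transferSylow T hT) w) ∣ 9 := h7 ▸ orderOf_dvd_natCard _
    have h8 : (9).Coprime (orderOf w) :=
      Nat.Coprime.pow_left 2 ((Nat.Prime.coprime_iff_not_dvd Nat.prime_three).2 hw)
    exact orderOf_eq_one_iff.1 (Nat.eq_one_of_dvd_coprimes h8 h6 h4)
  have h4 : u * v ∈ (MonoidHom.transferSylow T hT).ker := mul_mem (hker _ hu) (hker _ hv)
  have h5 : orderOf (⟨u * v, h4⟩ : ↥(MonoidHom.transferSylow T hT).ker) = 3 := by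
    rw [Subgroup.orderOf_mk, h3]
  have h6 : orderOf (⟨u * v, h4⟩ : ↥(MonoidHom.transferSylow T hT).ker) ∣
    Nat.card ↥(MonoidHom.transferSylow T hT).ker := orderOf_dvd_natCard _
  rw [h5] at h6
  exact MonoidHom.not_dvd_card_ker_transferSylow T hT h6

section
variable {G : Type*} [Group G]

theorem card_centralizer_conj (g x : G) :
    Nat.card ↥(centralizer ({g * x * g⁻¹} : Set G)) = Nat.card ↥(centralizer ({x} : Set G)) := by
  have h1 : centralizer ({g * x * g⁻¹} : Set G) = (centralizer ({x} : Set G)).map (MulAut.conj g).toMonoidHom := by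
    ext y
    rw [mem_centralizer_singleton_iff, Subgroup.mem_map]
    constructor
    · intro hy
      refine ⟨g⁻¹ * y * g, ?_, ?_⟩
      · rw [mem_centralizer_singleton_iff]
        calc g⁻¹ * y * g * x = g⁻¹ * (y * (g * x * g⁻¹)) * g := by group
          _ = g⁻¹ * ((g * x * g⁻¹) * y) * g := by rw [hy]
          _ = x * (g⁻¹ * y * g) := by group
      · change g * (g⁻¹ * y * g) * g⁻¹ = y
        group
    · rintro ⟨w, hw, rfl⟩
      rw [mem_centralizer_singleton_iff] at hw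
      change g * w * g⁻¹ * (g * x * g⁻¹) = g * x * g⁻¹ * (g * w * g⁻¹)
      calc g * w * g⁻¹ * (g * x * g⁻¹) = g * (w * x) * g⁻¹ := by group
        _ = g * (x * w) * g⁻¹ := by rw [hw]
        _ = _ := by group
  rw [h1, Subgroup.card_map_of_injective (MulAut.conj g).injective]

theorem orderOf_conj' (g x : G) : orderOf (g * x * g⁻¹) = orderOf x :=
  (MulAut.conj g).orderOf_eq x

/-- either `|C(x)| = 54` or no two 3'-elements of `C(x)` have a product of order 3 -/
def Good (x : G) : Prop :=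
  ∀ u v : G, u * x = x * u → v * x = x * v → ¬ 3 ∣ orderOf u → ¬ 3 ∣ orderOf v → orderOf (u * v) = 3 →
    Nat.card ↥(centralizer ({x} : Set G)) = 54

theorem Good.of_conj {x g : G} (h : Good (g * x * g⁻¹)) : Good x := by
  intro u v hu hv h1 h2 h3
  have hc : ∀ w : G, w * x = x * w → (g * w * g⁻¹) * (g * x * g⁻¹) = (g * x * g⁻¹) * (g * w * g⁻¹) := by
    intro w hw
    calc (g * w * g⁻¹) * (g * x * g⁻¹) = g * (w * x) * g⁻¹ := by group
      _ = g * (x * w) * g⁻¹ := by rw [hw]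
      _ = _ := by group
  rw [← card_centralizer_conj g x]
  refine h _ _ (hc u hu) (hc v hv) (by rwa [orderOf_conj']) (by rwa [orderOf_conj']) ?_
  have : g * u * g⁻¹ * (g * v * g⁻¹) = g * (u * v) * g⁻¹ := by group
  rw [this, orderOf_conj', h3]

variable [Finite G] {A B P Q S : Subgroup G} {z : G}

theorem Amal.isPGroup (h : Amal A B P Q S z) : IsPGroup 3 ↥S := IsPGroup.of_card (n := 3) (by rw [h.cardS]; norm_num)

theorem Amal.not_dvd (h : Amal A B P Q S z) : ¬ 3 ∣ S.index := by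
  have := h.index_mod
  omega

/-- elements of order 3 are conjugate into `S` -/
theorem Amal.exists_conj_S (h : Amal A B P Q S z) {x : G} (hx : orderOf x = 3) : ∃ g : G, g * x * g⁻¹ ∈ S := by
  have : Fact (Nat.Prime 3) := ⟨Nat.prime_three⟩
  have hp : IsPGroup 3 ↥(zpowers x) := IsPGroup.of_card (n := 1) (by rw [Nat.card_zpowers, hx]; norm_num)
  obtain ⟨T, hT⟩ := hp.exists_le_sylow
  obtain ⟨g, hg⟩ := MulAction.exists_smul_eq G T (h.isPGroup.toSylow h.not_dvd)
  refine ⟨g, ?_⟩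
  have h1 : g * x * g⁻¹ ∈ ((g • T : Sylow 3 G) : Subgroup G) := by
    rw [Sylow.coe_subgroup_smul]
    exact Subgroup.smul_mem_pointwise_smul x (MulAut.conj g) _ (hT (mem_zpowers x))
  rw [hg] at h1
  exact h1

/-- the centralizer of an element of `S ∖ (P ∪ Q)`, if none of them is conjugate to `z` -/
theorem Amal.good_X (h : Amal A B P Q S z) (hno : ∀ w ∈ S, w ∉ P → w ∉ Q → ∀ g : G, g * z * g⁻¹ ≠ w) {d : G}
    (hd : d ∈ S) (hdP : d ∉ P) (hdQ : d ∉ Q) : Good d := by
  intro u v hu hv h1 h2 h3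
  exfalso
  have : Fact (Nat.Prime 3) := ⟨Nat.prime_three⟩
  set D := centralizer ({d} : Set G) with hD
  set E := S ⊓ D with hE
  have hcE : Nat.card ↥E = 9 := h.card_E hd hdP
  have hdE : d ∈ E := ⟨hd, mem_centralizer_singleton_iff.2 rfl⟩
  have hzE : z ∈ E := ⟨h.PS h.zP, mem_centralizer_singleton_iff.2 (h.zS d hd).symm⟩
  have hnE : ∀ n ∈ D, n ∈ normalizer (E : Set G) → n ∈ E := by
    intro n hnD hn
    have hw : n * z * n⁻¹ ∈ E := (Subgroup.mem_normalizer_iff.1 hn z).1 hzE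
    have hwz : n * z * n⁻¹ ∈ zpowers z := by
      by_contra hwz
      refine hno (n * z * n⁻¹) hw.1 ?_ ?_ n rfl
      · intro hwP
        have h4 : P ≤ E := by
          rw [← sup_eq h.hA.cardP h.zP h.z3 h.z1 hwP hwz]
          exact sup_le (zpowers_le.2 hzE) (zpowers_le.2 hw)
        have h5 : P = E := Subgroup.eq_of_le_of_card_ge h4 (by rw [hcE, h.hA.cardP])
        exact hdP (h5 ▸ hdE)
      · intro hwQ
        have h4 : Q ≤ E := by
          rw [← sup_eq h.hB.cardP h.zQ h.z3 h.z1 hwQ hwz]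
          exact sup_le (zpowers_le.2 hzE) (zpowers_le.2 hw)
        have h5 : Q = E := Subgroup.eq_of_le_of_card_ge h4 (by rw [hcE, h.hB.cardP])
        exact hdQ (h5 ▸ hdE)
    have h6 : n ∈ A ⊓ B ⊓ centralizer ({d} : Set G) := ⟨h.mem_C hwz, hnD⟩
    rw [h.inf_eq hd hdP hdQ] at h6
    exact h6
  have hED : E ≤ D := inf_le_right
  have huD : u ∈ D := mem_centralizer_singleton_iff.2 hu
  have hvD : v ∈ D := mem_centralizer_singleton_iff.2 hv
  refine orderOf_mul_ne (D := ↥D) (E.subgroupOf D) ?_ ?_ (u := ⟨u, huD⟩) (v := ⟨v, hvD⟩) ?_ ?_ ?_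
  · rw [Nat.card_congr (subgroupOfEquivOfLe hED).toEquiv, hcE]
  · intro n hn'
    rw [← Subgroup.subgroupOf_normalizer_eq hED, mem_subgroupOf] at hn'
    exact mem_subgroupOf.2 (hnE n n.2 hn')
  · rwa [Subgroup.orderOf_mk]
  · rwa [Subgroup.orderOf_mk]
  · rw [← h3]
    exact Subgroup.orderOf_mk (u * v) (mul_mem huD hvD)

/-- **elements of order 3 are good** -/
theorem Amal.good (h : Amal A B P Q S z) {x : G} (hx : orderOf x = 3) : Good x := by
  obtain ⟨g, hg⟩ := h.exists_conj_S hx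
  apply Good.of_conj (g := g)
  have hx1 : g * x * g⁻¹ ≠ 1 := by
    intro h1
    rw [← orderOf_conj' g x, h1, orderOf_one] at hx
    omega
  set y := g * x * g⁻¹ with hy
  have hz : ∀ k : G, k * z * k⁻¹ = y → Good y := by
    intro k hk u v _ _ _ _ _
    rw [← hk, card_centralizer_conj, h.card_cent]
  by_cases hyP : y ∈ P
  · obtain ⟨a, -, ha⟩ := h.hA.exists_conj_one h.zP h.z1 hyP hx1
    exact hz a ha
  by_cases hyQ : y ∈ Q
  · obtain ⟨a, -, ha⟩ := h.hB.exists_conj_one h.zQ h.z1 hyQ hx1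
    exact hz a ha
  by_cases hno : ∀ w ∈ S, w ∉ P → w ∉ Q → ∀ g : G, g * z * g⁻¹ ≠ w
  · exact h.good_X hno hg hyP hyQ
  · push Not at hno
    obtain ⟨w, hwS, hwP, hwQ, k, hk⟩ := hno
    obtain ⟨c, -, hc⟩ := h.exists_X hwS hwP hwQ hg hyP hyQ
    refine hz (c * k) ?_
    rw [← hc, ← hk]
    group

/-- an involution `t` with `|C(t)| ≡ 3 (mod 9)` -/
theorem Amal.exists_t (h : Amal A B P Q S z) : ∃ t : G, orderOf t = 2 ∧
    ∃ m, Nat.card ↥(centralizer ({t} : Set G)) = 3 * m ∧ m % 3 = 1 := by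
  have f2 : Fact (Nat.Prime 2) := ⟨Nat.prime_two⟩
  set Cz := centralizer ({z} : Set G) with hCz
  obtain ⟨⟨t, htC⟩, ht⟩ := exists_prime_orderOf_dvd_card' (G := ↥Cz) 2 (by rw [h.card_cent]; norm_num)
  rw [Subgroup.orderOf_mk] at ht
  have htz : t * z = z * t := mem_centralizer_singleton_iff.1 htC
  have htAB : t ∈ A ⊓ B := h.mem_C' htz
  have htS : t ∉ S := by
    intro h1
    have h2 : orderOf (⟨t, h1⟩ : ↥S) ∣ Nat.card ↥S := orderOf_dvd_natCard _
    rw [Subgroup.orderOf_mk, ht, h.cardS] at h2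
    omega
  have hCS : ∀ s ∈ S, s * t = t * s → s ∈ zpowers z := by
    intro s hs hst
    by_contra hsz
    by_cases hsP : s ∈ P
    · exact htS (h.PS (h.hA.cent t htAB.1 (comm_of_gen h.hA.cardP h.zP h.z3 h.z1 hsP hsz htz hst.symm)))
    by_cases hsQ : s ∈ Q
    · exact htS (h.QS (h.hB.cent t htAB.2 (comm_of_gen h.hB.cardP h.zQ h.z3 h.z1 hsQ hsz htz hst.symm)))
    exact htS (h.mem_S' htAB hs hsP hsQ hst.symm)
  refine ⟨t, ht, ?_⟩
  set H := centralizer ({t} : Set G) with hH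
  have hzH : zpowers z ≤ H := zpowers_le.2 (mem_centralizer_singleton_iff.2 htz.symm)
  have hnz : normalizer ((zpowers z : Subgroup G) : Set G) = A ⊓ B :=
    le_antisymm h.nz fun c hc => zpowers_conj h.z3 h.z1 (h.conj_C hc)
  -- an element of `A ∩ B` inverting `z` and commuting with `t`
  obtain ⟨c0, hc0, hc0z⟩ := h.exists_inv
  have hc0t : c0 * t * c0⁻¹ ∈ Cz := by
    rw [mem_centralizer_singleton_iff, ← mul_inv_eq_iff_eq_mul]
    calc c0 * t * c0⁻¹ * z * (c0 * t * c0⁻¹)⁻¹ = c0 * (t * (c0⁻¹ * z * c0) * t⁻¹) * c0⁻¹ := by group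
      _ = c0 * (t * z⁻¹ * t⁻¹) * c0⁻¹ := by
        have : c0⁻¹ * z * c0 = z⁻¹ := by
          have e1 : c0 * z⁻¹ * c0⁻¹ = z := by
            have : c0 * z⁻¹ * c0⁻¹ = (c0 * z * c0⁻¹)⁻¹ := by group
            rw [this, hc0z, inv_inv]
          calc c0⁻¹ * z * c0 = c0⁻¹ * (c0 * z⁻¹ * c0⁻¹) * c0 := by rw [e1]
            _ = z⁻¹ := by group
        rw [this]
      _ = c0 * (t * z * t⁻¹)⁻¹ * c0⁻¹ := by group
      _ = c0 * z⁻¹ * c0⁻¹ := by
        have : t * z * t⁻¹ = z := by rw [htz, mul_inv_cancel_right]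
        rw [this]
      _ = (c0 * z * c0⁻¹)⁻¹ := by group
      _ = z := by rw [hc0z, inv_inv]
  have hsyl : ∀ w : G, w ∈ Cz → orderOf w = 2 → ∃ T : Sylow 2 ↥Cz, (T : Subgroup ↥Cz).map Cz.subtype = zpowers w := by
    intro w hw hw2
    have h1 : Nat.card ↥((zpowers w).subgroupOf Cz) = 2 := by
      rw [Nat.card_congr (subgroupOfEquivOfLe (zpowers_le.2 hw)).toEquiv, Nat.card_zpowers, hw2]
    have h2 : ¬ 2 ∣ ((zpowers w).subgroupOf Cz).index := by
      have h3 := Subgroup.card_mul_index ((zpowers w).subgroupOf Cz)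
      rw [h1, h.card_cent] at h3
      omega
    refine ⟨(IsPGroup.of_card (n := 1) (by rw [h1, pow_one])).toSylow h2, ?_⟩
    change ((zpowers w).subgroupOf Cz).map Cz.subtype = zpowers w
    rw [Subgroup.subgroupOf_map_subtype, inf_eq_left.2 (zpowers_le.2 hw)]
  obtain ⟨T1, hT1⟩ := hsyl t htC ht
  obtain ⟨T2, hT2⟩ := hsyl _ hc0t (by rw [orderOf_conj', ht])
  obtain ⟨g, hg⟩ := MulAction.exists_smul_eq ↥Cz T2 T1
  have hgt : (g : G) * (c0 * t * c0⁻¹) * (g : G)⁻¹ = t := by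
    have h1 : (⟨c0 * t * c0⁻¹, hc0t⟩ : ↥Cz) ∈ (T2 : Subgroup ↥Cz) := by
      have : (c0 * t * c0⁻¹) ∈ (T2 : Subgroup ↥Cz).map Cz.subtype := by rw [hT2]; exact mem_zpowers _
      obtain ⟨y, hy, hy2⟩ := this
      have : y = ⟨c0 * t * c0⁻¹, hc0t⟩ := Subtype.ext hy2
      rwa [← this]
    have h2 : g * ⟨c0 * t * c0⁻¹, hc0t⟩ * g⁻¹ ∈ ((g • T2 : Sylow 2 ↥Cz) : Subgroup ↥Cz) := by
      rw [Sylow.coe_subgroup_smul]
      exact Subgroup.smul_mem_pointwise_smul _ (MulAut.conj g) _ h1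
    rw [hg] at h2
    have h3 : (g : G) * (c0 * t * c0⁻¹) * (g : G)⁻¹ ∈ zpowers t := by
      rw [← hT1]
      exact ⟨_, h2, rfl⟩
    obtain ⟨k, hk⟩ := mem_zpowers_iff.1 h3
    have h4 : t ^ (2 : ℤ) = 1 := by
      have := pow_orderOf_eq_one t
      rw [ht] at this
      exact_mod_cast this
    have h5 : t ^ k = t ^ (k % 2) := by
      conv_lhs => rw [← Int.mul_ediv_add_emod k 2]
      rw [zpow_add, zpow_mul, h4, one_zpow, one_mul]
    rcases Int.emod_two_eq_zero_or_one k with h6 | h6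
    · exfalso
      rw [h6, zpow_zero] at h5
      have h7 : orderOf ((g : G) * (c0 * t * c0⁻¹) * (g : G)⁻¹) = 2 := by
        rw [orderOf_conj', orderOf_conj', ht]
      rw [← hk, h5, orderOf_one] at h7
      omega
    · rw [← hk, h5, h6, zpow_one]
  set c := (g : G) * c0 with hc
  have hgz : (g : G) * z * (g : G)⁻¹ = z := by
    rw [mul_inv_eq_iff_eq_mul]
    exact mem_centralizer_singleton_iff.1 g.2
  have hcz : c * z * c⁻¹ = z⁻¹ := by
    calc c * z * c⁻¹ = (g : G) * (c0 * z * c0⁻¹) * (g : G)⁻¹ := by rw [hc]; group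
      _ = ((g : G) * z * (g : G)⁻¹)⁻¹ := by rw [hc0z]; group
      _ = z⁻¹ := by rw [hgz]
  have hct : c * t = t * c := by
    rw [← mul_inv_eq_iff_eq_mul]
    calc c * t * c⁻¹ = (g : G) * (c0 * t * c0⁻¹) * (g : G)⁻¹ := by rw [hc]; group
      _ = t := hgt
  have hcAB : c ∈ A ⊓ B := h.mem_C (by rw [hcz]; exact inv_mem (mem_zpowers z))
  -- the order of `N_H(⟨z⟩)`
  set N := H ⊓ (A ⊓ B) with hN
  have hcN : c ∈ N := ⟨mem_centralizer_singleton_iff.2 hct, hcAB⟩
  have htN : t ∈ N ⊓ Cz := ⟨⟨mem_centralizer_singleton_iff.2 rfl, htAB⟩, htC⟩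
  have hzN : zpowers z ≤ N := le_inf hzH ((zpowers_le.2 h.zP).trans h.PC)
  have hNS : N ⊓ S = zpowers z := by
    apply le_antisymm
    · rintro s ⟨⟨hs1, -⟩, hs2⟩
      exact hCS s hs2 (mem_centralizer_singleton_iff.1 hs1)
    · exact le_inf hzN (zpowers_le.2 (h.PS h.zP))
  have hle12 : (zpowers z).relIndex N ≤ 4 := by
    rw [← hNS, inf_comm, Subgroup.inf_relIndex_right]
    have h1 : S.relIndex N ≤ S.relIndex (A ⊓ B) := Subgroup.relIndex_le_of_le_right inf_le_right (by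
      rw [Subgroup.relIndex]; exact Subgroup.index_ne_zero_of_finite)
    have h2 : S.relIndex (A ⊓ B) = 4 := by
      have h3 := Subgroup.card_mul_index (S.subgroupOf (A ⊓ B))
      rw [Nat.card_congr (subgroupOfEquivOfLe (le_inf h.SA h.SB)).toEquiv, h.cardS, h.card_C] at h3
      change (S.subgroupOf (A ⊓ B)).index = 4
      omega
    omega
  have hcard4 : 4 ∣ Nat.card ↥N := by
    have h1 : 2 ∣ Nat.card ↥(N ⊓ Cz : Subgroup G) := by
      rw [← ht, ← Subgroup.orderOf_mk t htN]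
      exact orderOf_dvd_natCard _
    have h2 : (N ⊓ Cz).relIndex N = 2 := by
      rw [inf_comm, Subgroup.inf_relIndex_right, Subgroup.relIndex_eq_two_iff]
      refine ⟨c, hcN, fun b hb => ?_⟩
      have hb' := mem_zpowers3 h.z3 (h.conj_C hb.2)
      have key : ∀ x : G, x ∈ Cz ↔ x * z * x⁻¹ = z := fun x => by
        rw [mem_centralizer_singleton_iff, mul_inv_eq_iff_eq_mul]
      rw [key, key]
      have h5 : b * c * z * (b * c)⁻¹ = (b * z * b⁻¹)⁻¹ := by
        calc b * c * z * (b * c)⁻¹ = b * (c * z * c⁻¹) * b⁻¹ := by group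
          _ = _ := by rw [hcz]; group
      rw [h5]
      have hz := inv_ne h.z3 h.z1
      rcases hb' with hb | hb | hb
      · exact absurd hb (conj_ne_one h.z1)
      · rw [hb]
        exact Or.inr ⟨rfl, hz⟩
      · rw [hb, inv_inv]
        exact Or.inl ⟨rfl, hz⟩
    have h3 := Subgroup.card_mul_index ((N ⊓ Cz).subgroupOf N)
    rw [Nat.card_congr (subgroupOfEquivOfLe inf_le_left).toEquiv] at h3
    have h4 : ((N ⊓ Cz).subgroupOf N).index = 2 := h2
    rw [h4] at h3
    rw [← h3]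
    obtain ⟨k, hk⟩ := h1
    exact ⟨k, by rw [hk]; ring⟩
  have hrel : (zpowers z).relIndex N = 4 := by
    have h3 := Subgroup.card_mul_index ((zpowers z).subgroupOf N)
    rw [Nat.card_congr (subgroupOfEquivOfLe hzN).toEquiv, h.cardZ] at h3
    have h4 : ((zpowers z).subgroupOf N).index = (zpowers z).relIndex N := rfl
    rw [h4] at h3
    have h5 : 0 < Nat.card ↥N := Nat.card_pos
    generalize (zpowers z).relIndex N = a at h3 hle12 ⊢
    generalize Nat.card ↥N = b at h3 hcard4 h5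
    omega
  have hmod : (zpowers z).relIndex H % 3 = 1 := by
    rw [relIndex_mod hzH (n := 1) (by rw [h.cardZ, pow_one]), hnz, ← hN, hrel]
  refine ⟨(zpowers z).relIndex H, ?_, hmod⟩
  have h3 := Subgroup.card_mul_index ((zpowers z).subgroupOf H)
  rw [Nat.card_congr (subgroupOfEquivOfLe hzH).toEquiv, h.cardZ] at h3
  exact h3.symm

end

end Cfsg.Agent.H346.Am
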