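import Cfsg.Agent.H346.AmAff

/-!
# Two groups `3² : GL(2,3)` sharing a Sylow 3-subgroup
-/

set_option autoImplicit false
set_option linter.unusedSectionVars false

namespace Cfsg.Agent.H346.Am

open Subgroup

/-- the amalgam -/
structure Amal {G : Type*} [Group G] (A B P Q S : Subgroup G) (z : G) : Prop where
  hA : Aff A P
  hB : Aff B Q
  PS : P ≤ S
  QS : Q ≤ S
  SA : S ≤ A
  SB : S ≤ B
  cardS : Nat.card ↥S = 27
  z1 : z ≠ 1
  zP : z ∈ P
  zQ : z ∈ Q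
  zS : ∀ s ∈ S, s * z = z * s
  nz : normalizer ((zpowers z : Subgroup G) : Set G) ≤ A ⊓ B
  gen : A ⊔ B = ⊤
  core : ∀ N : Subgroup G, N ≤ A ⊓ B → (∀ a ∈ A, ∀ x ∈ N, a * x * a⁻¹ ∈ N) → (∀ b ∈ B, ∀ x ∈ N, b * x * b⁻¹ ∈ N) →
    N = ⊥

section
variable {G : Type*} [Group G] [Finite G] {A B P Q S : Subgroup G} {z : G}

theorem Amal.symm (h : Amal A B P Q S z) : Amal B A Q P S z where
  hA := h.hB
  hB := h.hA
  PS := h.QS
  QS := h.PS
  SA := h.SB
  SB := h.SA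
  cardS := h.cardS
  z1 := h.z1
  zP := h.zQ
  zQ := h.zP
  zS := h.zS
  nz := by rw [inf_comm]; exact h.nz
  gen := by rw [sup_comm]; exact h.gen
  core := fun N h1 h2 h3 => h.core N (by rwa [inf_comm] at h1) h3 h2

theorem Amal.z3 (h : Amal A B P Q S z) : z ^ 3 = 1 := h.hA.exp z h.zP

theorem Amal.cardZ (h : Amal A B P Q S z) : Nat.card ↥(zpowers z) = 3 := card_zpowers3 h.z3 h.z1

theorem Amal.PC (h : Amal A B P Q S z) : P ≤ A ⊓ B := le_inf h.hA.le (h.PS.trans h.SB)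

/-- `P` is not normal in `B` -/
theorem Amal.not_norm (h : Amal A B P Q S z) (h1 : ∀ b ∈ B, ∀ x ∈ P, b * x * b⁻¹ ∈ P) : False := by
  have h2 := h.core P h.PC h.hA.norm h1
  have h3 := h.hA.cardP
  rw [h2, card_bot] at h3
  omega

theorem Amal.PQ (h : Amal A B P Q S z) : P ≠ Q := fun h1 => h.not_norm (h1 ▸ h.hB.norm)

theorem Amal.AB (h : Amal A B P Q S z) : ¬ A ≤ B := by
  intro h1
  have h2 : A = B := Subgroup.eq_of_le_of_card_ge h1 (by rw [h.hA.cardA, h.hB.cardA])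
  exact h.not_norm (h2 ▸ h.hA.norm)

theorem zpowers_conj {z g : G} (hz3 : z ^ 3 = 1) (hz1 : z ≠ 1) (hg : g * z * g⁻¹ ∈ zpowers z) :
    g ∈ normalizer ((zpowers z : Subgroup G) : Set G) := by
  have h1 : zpowers (g * z * g⁻¹) = zpowers z := by
    apply Subgroup.eq_of_le_of_card_ge (zpowers_le.2 hg)
    rw [card_zpowers3 hz3 hz1, card_zpowers3 (by rw [conj_pow, hz3]; group)]
    intro h1
    apply hz1
    rwa [mul_inv_eq_one, mul_eq_left] at h1
  rw [Subgroup.mem_normalizer_iff]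
  intro x
  constructor
  · intro hx
    obtain ⟨k, rfl⟩ := mem_zpowers_iff.1 hx
    rw [← conj_zpow]
    exact zpow_mem hg k
  · intro hx
    have hx' : g * x * g⁻¹ ∈ zpowers z := hx
    rw [← h1] at hx'
    obtain ⟨k, hk⟩ := mem_zpowers_iff.1 hx'
    rw [conj_zpow] at hk
    exact mem_zpowers_iff.2 ⟨k, mul_left_cancel (mul_right_cancel hk)⟩

theorem conj_mem_of_normalizer {z g : G} (hg : g ∈ normalizer ((zpowers z : Subgroup G) : Set G)) :
    g * z * g⁻¹ ∈ zpowers z :=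
  (Subgroup.mem_normalizer_iff.1 hg z).1 (mem_zpowers z)

theorem Amal.mem_C (h : Amal A B P Q S z) {g : G} (hg : g * z * g⁻¹ ∈ zpowers z) : g ∈ A ⊓ B :=
  h.nz (zpowers_conj h.z3 h.z1 hg)

theorem Amal.mem_C' (h : Amal A B P Q S z) {g : G} (hg : g * z = z * g) : g ∈ A ⊓ B := by
  apply h.mem_C
  rw [hg, mul_inv_cancel_right]
  exact mem_zpowers z

theorem conj_ne_one {z g : G} (hz1 : z ≠ 1) : g * z * g⁻¹ ≠ 1 := by
  intro h1
  apply hz1
  rwa [mul_inv_eq_one, mul_eq_left] at h1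

/-- `A ∩ B` normalizes `⟨z⟩` -/
theorem Amal.conj_C (h : Amal A B P Q S z) {c : G} (hc : c ∈ A ⊓ B) : c * z * c⁻¹ ∈ zpowers z := by
  by_contra hcz
  apply h.AB
  intro g hg
  have hw : g * z * g⁻¹ ∈ P := h.hA.norm g hg z h.zP
  have hcP : c * z * c⁻¹ ∈ P := h.hA.norm c hc.1 z h.zP
  by_cases hwz : g * z * g⁻¹ ∈ zpowers z
  · exact (h.mem_C hwz).2
  · obtain ⟨k, hk, h1, h2⟩ := h.hA.exists_conj h.zP h.z1 hcP hcz h.zP h.z1 hw hwz
    have hkC : k ∈ A ⊓ B := h.mem_C' (by rwa [mul_inv_eq_iff_eq_mul] at h1)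
    have h3 : (k * c)⁻¹ * g ∈ A ⊓ B := by
      apply h.mem_C'
      have h4 : (k * c) * z * (k * c)⁻¹ = g * z * g⁻¹ := by rw [← h2]; group
      rw [← mul_inv_eq_iff_eq_mul]
      calc (k * c)⁻¹ * g * z * ((k * c)⁻¹ * g)⁻¹ = (k * c)⁻¹ * (g * z * g⁻¹) * (k * c) := by group
        _ = z := by rw [← h4]; group
    have h5 : g = k * c * ((k * c)⁻¹ * g) := by group
    rw [h5]
    exact (mul_mem (mul_mem hkC hc) h3).2

theorem Amal.mem_C_iff (h : Amal A B P Q S z) {g : G} : g ∈ A ⊓ B ↔ g * z * g⁻¹ ∈ zpowers z :=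
  ⟨h.conj_C, h.mem_C⟩

theorem Amal.cent_le (h : Amal A B P Q S z) : centralizer ({z} : Set G) ≤ A ⊓ B := fun _ hg =>
  h.mem_C' (mem_centralizer_singleton_iff.1 hg)

theorem Amal.card_cent (h : Amal A B P Q S z) : Nat.card ↥(centralizer ({z} : Set G)) = 54 := by
  rw [← h.hA.card_cent h.zP h.z1, inf_eq_right.2 (h.cent_le.trans inf_le_left)]

theorem mem_zpowers3 {z w : G} (hz3 : z ^ 3 = 1) (hw : w ∈ zpowers z) : w = 1 ∨ w = z ∨ w = z⁻¹ := by
  obtain ⟨k, rfl⟩ := mem_zpowers_iff.1 hw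
  have h0 : z ^ (3 : ℤ) = 1 := by exact_mod_cast hz3
  have h1 : z ^ k = z ^ (k % 3) := by
    conv_lhs => rw [← Int.mul_ediv_add_emod k 3]
    rw [zpow_add, zpow_mul, h0, one_zpow, one_mul]
  have h2 : k % 3 = 0 ∨ k % 3 = 1 ∨ k % 3 = 2 := by omega
  rcases h2 with h2 | h2 | h2
  · left; rw [h1, h2, zpow_zero]
  · right; left; rw [h1, h2, zpow_one]
  · right; right
    rw [h1, h2]
    have h3 : z ^ (2 : ℤ) * z = 1 := by
      have : z ^ (2 : ℤ) * z = z ^ (3 : ℤ) := by rw [show (3 : ℤ) = 2 + 1 by norm_num, zpow_add, zpow_one]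
      rw [this, h0]
    exact mul_eq_one_iff_eq_inv.1 h3

/-- some element of `A ∩ B` inverts `z` -/
theorem Amal.exists_inv (h : Amal A B P Q S z) : ∃ t ∈ A ⊓ B, t * z * t⁻¹ = z⁻¹ := by
  obtain ⟨t, ht, h1⟩ := h.hA.exists_conj_one h.zP h.z1 (P.inv_mem h.zP) (by simpa using h.z1)
  exact ⟨t, h.mem_C (by rw [h1]; exact inv_mem (mem_zpowers z)), h1⟩

theorem inv_ne {z : G} (hz3 : z ^ 3 = 1) (hz1 : z ≠ 1) : z⁻¹ ≠ z := by
  intro h1
  apply hz1
  have h2 : z * z = 1 := by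
    nth_rewrite 1 [← h1]
    exact inv_mul_cancel z
  have h3 : z ^ 3 = z * z * z := by rw [pow_succ, pow_two]
  rw [h3, h2, one_mul] at hz3
  exact hz3

/-- `A ∩ B` has order 108 -/
theorem Amal.card_C (h : Amal A B P Q S z) : Nat.card ↥(A ⊓ B : Subgroup G) = 108 := by
  have h1 := Subgroup.card_mul_index ((centralizer ({z} : Set G)).subgroupOf (A ⊓ B))
  have h2 : Nat.card ↥((centralizer ({z} : Set G)).subgroupOf (A ⊓ B)) = 54 := by
    rw [Nat.card_congr (subgroupOfEquivOfLe h.cent_le).toEquiv, h.card_cent]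
  obtain ⟨t, ht, h3⟩ := h.exists_inv
  have h4 : ((centralizer ({z} : Set G)).subgroupOf (A ⊓ B)).index = 2 := by
    rw [Subgroup.index_eq_two_iff]
    refine ⟨⟨t, ht⟩, fun b => ?_⟩
    have hb := mem_zpowers3 h.z3 (h.conj_C b.2)
    have key : ∀ x : G, x ∈ centralizer ({z} : Set G) ↔ x * z * x⁻¹ = z := fun x => by
      rw [mem_centralizer_singleton_iff, mul_inv_eq_iff_eq_mul]
    rw [mem_subgroupOf, mem_subgroupOf, key, key]
    change Xor ((b : G) * t * z * ((b : G) * t)⁻¹ = z) ((b : G) * z * (b : G)⁻¹ = z)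
    have h5 : (b : G) * t * z * ((b : G) * t)⁻¹ = ((b : G) * z * (b : G)⁻¹)⁻¹ := by
      calc (b : G) * t * z * ((b : G) * t)⁻¹ = (b : G) * (t * z * t⁻¹) * (b : G)⁻¹ := by group
        _ = _ := by rw [h3]; group
    rw [h5]
    have hz := inv_ne h.z3 h.z1
    rcases hb with hb | hb | hb
    · exact absurd hb (conj_ne_one h.z1)
    · rw [hb]
      exact Or.inr ⟨rfl, hz⟩
    · rw [hb, inv_inv]
      exact Or.inl ⟨rfl, hz⟩
  rw [h2, h4] at h1
  omega

theorem Amal.PinfQ (h : Amal A B P Q S z) : P ⊓ Q = zpowers z := by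
  symm
  apply Subgroup.eq_of_le_of_card_ge (le_inf (zpowers_le.2 h.zP) (zpowers_le.2 h.zQ))
  rw [h.cardZ]
  have h1 : Nat.card ↥(P ⊓ Q : Subgroup G) ∣ 9 := h.hA.cardP ▸ card_dvd_of_le inf_le_left
  have h2 : Nat.card ↥(P ⊓ Q : Subgroup G) ≠ 9 := by
    intro h2
    have h3 : P ⊓ Q = P := Subgroup.eq_of_le_of_card_ge inf_le_left (by rw [h2, h.hA.cardP])
    exact h.PQ (Subgroup.eq_of_le_of_card_ge (inf_eq_left.1 h3) (by rw [h.hA.cardP, h.hB.cardP]))
  have h3 : ∃ k ≤ 2, Nat.card ↥(P ⊓ Q : Subgroup G) = 3 ^ k :=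
    (Nat.dvd_prime_pow Nat.prime_three (m := 2)).1 (by rw [show (3 : ℕ) ^ 2 = 9 by norm_num]; exact h1)
  obtain ⟨k, hk, h4⟩ := h3
  have h5 : k ≠ 2 := fun h5 => h2 (by rw [h4, h5]; norm_num)
  calc Nat.card ↥(P ⊓ Q : Subgroup G) = 3 ^ k := h4
    _ ≤ 3 ^ 1 := Nat.pow_le_pow_right (by norm_num) (by omega)
    _ = 3 := by norm_num

theorem Amal.cent_S (h : Amal A B P Q S z) {x : G} (hx : x ∈ S) (hc : ∀ s ∈ S, x * s = s * x) : x ∈ zpowers z := by
  rw [← h.PinfQ]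
  exact ⟨h.hA.cent x (h.SA hx) fun y hy => hc y (h.PS hy), h.hB.cent x (h.SB hx) fun y hy => hc y (h.QS hy)⟩

/-- `S = PQ` -/
theorem Amal.exists_mul (h : Amal A B P Q S z) {s : G} (hs : s ∈ S) : ∃ p ∈ P, ∃ q ∈ Q, p * q = s := by
  have hP : (P.subgroupOf S).Normal := ⟨fun n hn g => by
    rw [mem_subgroupOf] at hn ⊢
    exact h.hA.norm _ (h.SA g.2) _ hn⟩
  have h1 : P.subgroupOf S ⊔ Q.subgroupOf S = ⊤ := by
    apply Subgroup.eq_top_of_le_card
    rw [h.cardS]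
    have hP9 : Nat.card ↥(P.subgroupOf S) = 9 := by
      rw [Nat.card_congr (subgroupOfEquivOfLe h.PS).toEquiv, h.hA.cardP]
    have hQ9 : Nat.card ↥(Q.subgroupOf S) = 9 := by
      rw [Nat.card_congr (subgroupOfEquivOfLe h.QS).toEquiv, h.hB.cardP]
    have h2 : Nat.card ↥(P.subgroupOf S ⊔ Q.subgroupOf S : Subgroup ↥S) ∣ 27 := h.cardS ▸ card_subgroup_dvd_card _
    have h3 : 9 ∣ Nat.card ↥(P.subgroupOf S ⊔ Q.subgroupOf S : Subgroup ↥S) := hP9 ▸ card_dvd_of_le le_sup_left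
    have h4 : Nat.card ↥(P.subgroupOf S ⊔ Q.subgroupOf S : Subgroup ↥S) ≠ 9 := by
      intro h4
      have e1 : P.subgroupOf S = P.subgroupOf S ⊔ Q.subgroupOf S :=
        Subgroup.eq_of_le_of_card_ge le_sup_left (by rw [h4, hP9])
      have e2 : Q.subgroupOf S = P.subgroupOf S ⊔ Q.subgroupOf S :=
        Subgroup.eq_of_le_of_card_ge le_sup_right (by rw [h4, hQ9])
      apply h.PQ
      have e3 := e1.trans e2.symm
      ext x
      constructor
      · intro hx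
        have : (⟨x, h.PS hx⟩ : ↥S) ∈ P.subgroupOf S := mem_subgroupOf.2 hx
        rw [e3] at this
        exact mem_subgroupOf.1 this
      · intro hx
        have : (⟨x, h.QS hx⟩ : ↥S) ∈ Q.subgroupOf S := mem_subgroupOf.2 hx
        rw [← e3] at this
        exact mem_subgroupOf.1 this
    have h5 : 0 < Nat.card ↥(P.subgroupOf S ⊔ Q.subgroupOf S : Subgroup ↥S) := Nat.card_pos
    obtain ⟨k, hk⟩ := h3
    rw [hk] at h2 h4 h5 ⊢
    have h6 : k ∣ 3 := by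
      have : 9 * k ∣ 9 * 3 := h2
      exact (Nat.mul_dvd_mul_iff_left (by norm_num)).1 this
    rcases (Nat.dvd_prime Nat.prime_three).1 h6 with h7 | h7
    · subst h7; omega
    · subst h7; norm_num
  have h2 : (⟨s, hs⟩ : ↥S) ∈ P.subgroupOf S ⊔ Q.subgroupOf S := by rw [h1]; trivial
  obtain ⟨p, hp, q, hq, h3⟩ := (Subgroup.mem_sup_of_normal_left).1 h2
  exact ⟨p, hp, q, hq, congrArg Subtype.val h3⟩

theorem Amal.normS (h : Amal A B P Q S z) {c : G} (hc : c ∈ A ⊓ B) {s : G} (hs : s ∈ S) : c * s * c⁻¹ ∈ S := by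
  obtain ⟨p, hp, q, hq, rfl⟩ := h.exists_mul hs
  have h1 : c * (p * q) * c⁻¹ = (c * p * c⁻¹) * (c * q * c⁻¹) := by group
  rw [h1]
  exact mul_mem (h.PS (h.hA.norm c hc.1 p hp)) (h.QS (h.hB.norm c hc.2 q hq))

/-- `N(S) ≤ A ∩ B` -/
theorem Amal.nS (h : Amal A B P Q S z) : normalizer (S : Set G) = A ⊓ B := by
  apply le_antisymm
  · intro n hn
    have hn' := Subgroup.mem_normalizer_iff.1 hn
    apply h.mem_C
    apply h.cent_S ((hn' z).1 (h.PS h.zP))
    intro s hs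
    have h1 : n⁻¹ * s * n ∈ S := by
      rw [hn']
      have : n * (n⁻¹ * s * n) * n⁻¹ = s := by group
      rwa [this]
    have h2 := h.zS _ h1
    calc n * z * n⁻¹ * s = n * (z * (n⁻¹ * s * n)) * n⁻¹ := by group
      _ = n * ((n⁻¹ * s * n) * z) * n⁻¹ := by rw [h2]
      _ = s * (n * z * n⁻¹) := by group
  · intro c hc
    rw [Subgroup.mem_normalizer_iff]
    intro x
    refine ⟨fun hx => h.normS hc hx, fun hx => ?_⟩
    have h1 := h.normS (inv_mem hc) hx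
    have h2 : c⁻¹ * (c * x * c⁻¹) * c⁻¹⁻¹ = x := by group
    rwa [h2] at h1

/-- `|G : S| ≡ 1 (mod 3)` -/
theorem Amal.index_mod (h : Amal A B P Q S z) : S.index % 3 = 1 := by
  classical
  have : Fintype G := Fintype.ofFinite G
  have : Fact (Nat.Prime 3) := ⟨Nat.prime_three⟩
  have h1 := Sylow.card_quotient_normalizer_modEq_card_quotient (p := 3) (n := 3) (H := S) (by rw [h.cardS]; norm_num)
  have h2 : Nat.card (↥(normalizer (S : Set G)) ⧸ S.subgroupOf (normalizer (S : Set G))) = 4 := by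
    have h3 := Subgroup.card_mul_index (S.subgroupOf (normalizer (S : Set G)))
    have h4 : Nat.card ↥(S.subgroupOf (normalizer (S : Set G))) = 27 := by
      rw [Nat.card_congr (subgroupOfEquivOfLe le_normalizer).toEquiv, h.cardS]
    have h5 : Nat.card ↥(normalizer (S : Set G)) = 108 := by rw [h.nS, h.card_C]
    rw [h4, h5] at h3
    change (S.subgroupOf (normalizer (S : Set G))).index = 4
    omega
  have h6 : Nat.card (G ⧸ S) = S.index := rfl
  have h7 : Nat.card (↥(normalizer (S : Set G)) ⧸ Subgroup.comap (normalizer (S : Set G)).subtype S) = 4 := h2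
  rw [h7, h6] at h1
  unfold Nat.ModEq at h1
  omega

end

end Cfsg.Agent.H346.Am
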