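import Cfsg.Agent.GpUn.Row

/-!
# `PSU_3(q)`, `p ∤ q (q + 1)` : the rank is at most 1
-/

set_option autoImplicit false

namespace Cfsg.Agent.H346.AmPsu

open Cfsg Module Matrix Subgroup
open Cfsg.Agent.LieClassical.HermBasic Cfsg.Agent.LieClassical.HermSiegel
open Cfsg.Agent.ClassicalGeometry.HermOrtho
open Cfsg.Agent.ClassicalGeometry.PSUAutBasic
open Cfsg.Agent.GpUn

universe u

variable {F : Type u} [Field F] [Fintype F] {q n : ℕ}

/-- Lifting. -/
theorem exists_lift' (hF : Fintype.card F = q ^ 2) (hn : 3 ≤ n) {p : ℕ} [Fact p.Prime] (hpq : p.Coprime (q + 1))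
    {r : ℕ} (h : PRankAtLeast p r (PSU n F q)) :
    ∃ P : Subgroup (SU n F q), (∀ a ∈ P, ∀ b ∈ P, a * b = b * a) ∧ (∀ a ∈ P, a ^ p = 1) ∧ p ^ r ≤ Nat.card P := by
  obtain ⟨A, hA, hAp, hA4⟩ := h
  have hcomm : ∀ g h : SU n F q, g ^ p = 1 → h ^ p = 1 → pr n F q g ∈ A → pr n F q h ∈ A → g * h = h * g := by
    intro g h hg hh hgA hhA
    refine comm_of_pr hF hn hpq hh ?_
    exact congrArg Subtype.val (hA.is_comm.comm ⟨_, hgA⟩ ⟨_, hhA⟩)
  let P : Subgroup (SU n F q) :=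
    { carrier := {g | g ^ p = 1 ∧ pr n F q g ∈ A}
      one_mem' := ⟨one_pow _, by rw [map_one]; exact A.one_mem⟩
      mul_mem' := by
        rintro g h ⟨hg, hgA⟩ ⟨hh, hhA⟩
        have hc : Commute g h := hcomm g h hg hh hgA hhA
        exact ⟨by rw [hc.mul_pow, hg, hh, one_mul], by rw [map_mul]; exact A.mul_mem hgA hhA⟩
      inv_mem' := by
        rintro g ⟨hg, hgA⟩
        exact ⟨by rw [inv_pow, hg, inv_one], by rw [map_inv]; exact A.inv_mem hgA⟩ }
  refine ⟨P, fun a ha b hb => hcomm a b ha.1 hb.1 ha.2 hb.2, fun a ha => ha.1, hA4.trans ?_⟩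
  have hsurj : ∀ a : A, ∃ g : P, pr n F q g.1 = a.1 := by
    rintro ⟨a, ha⟩
    obtain ⟨g, rfl⟩ := pr_surjective (n := n) (F := F) (q := q) a
    have h1 : g ^ p ∈ center (SU n F q) := by
      rw [← pr_eq_one_iff, map_pow]
      exact hAp _ ha
    obtain ⟨j, hj1, hj2⟩ := Nat.chineseRemainder hpq 1 0
    have h2 : g ^ j ∈ P := by
      refine ⟨?_, ?_⟩
      · rw [← pow_mul, mul_comm, pow_mul]
        obtain ⟨k, hk⟩ := (Nat.modEq_zero_iff_dvd.1 hj2)
        rw [hk, pow_mul, center_pow hF hn h1, one_pow]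
      · rw [map_pow]
        exact A.pow_mem ha _
    refine ⟨⟨g ^ j, h2⟩, ?_⟩
    show pr n F q (g ^ j) = _
    rw [map_pow]
    have h3 : pr n F q g ^ j = pr n F q g ^ 1 := by
      rw [pow_eq_pow_iff_modEq]
      exact hj1.of_dvd (orderOf_dvd_of_pow_eq_one (hAp _ ha))
    rw [h3, pow_one]
  choose f hf using hsurj
  exact Nat.card_le_card_of_injective f fun a b hab => Subtype.ext (by rw [← hf a, ← hf b, hab])

/-- the rank bound -/
theorem rank_le (hF : Fintype.card F = q ^ 2) (hn : 3 ≤ n) {p : ℕ} [Fact p.Prime] (hp : (p : F) ≠ 0)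
    (hpq : p.Coprime (q + 1)) {r : ℕ} (h : PRankAtLeast p r (PSU n F q)) : 2 * r ≤ n := by
  obtain ⟨P, hPc, hPp, hc⟩ := exists_lift' hF hn hpq h
  have htop : P ⊓ fixG q (⊤ : Submodule F (Fin n → F)) = ⊥ := by
    rw [Subgroup.eq_bot_iff_forall]
    rintro g ⟨-, hg⟩
    exact eq_one_of_top fun w => hg w trivial
  have h1 := chain hF hp hpq hPc hPp r ⊤ (nd_top hF) (fun g _ u _ => trivial)
    (by rw [htop, Subgroup.card_bot, mul_one]; exact hc)
  rwa [finrank_top, finrank_fin_fun] at h1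

end Cfsg.Agent.H346.AmPsu
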