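import Cfsg.Agent.H346.AmMain

/-!
# The group generated by the amalgam is simple
-/

set_option autoImplicit false
set_option linter.unusedSectionVars false

namespace Cfsg.Agent.H346.Am

open Subgroup

section
variable {G : Type*} [Group G] [Finite G] {A B P Q S : Subgroup G} {z : G}

theorem Amal.comm_P (h : Amal A B P Q S z) {s y : G} (hs : s ∈ S) (hy : y ∈ S) : s * y * s⁻¹ * y⁻¹ ∈ P := by
  have hP : (P.subgroupOf S).Normal := ⟨fun n hn g => by
    rw [mem_subgroupOf] at hn ⊢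
    exact h.hA.norm _ (h.SA g.2) _ hn⟩
  obtain ⟨p, hp, q, hq, rfl⟩ := h.exists_mul hs
  obtain ⟨p', hp', q', hq', rfl⟩ := h.exists_mul hy
  have e : ∀ x : G, ∀ hx : x ∈ P, ∀ w : G, ∀ hw : w ∈ S,
      QuotientGroup.mk' (P.subgroupOf S) ⟨x * w, mul_mem (h.PS hx) hw⟩ = QuotientGroup.mk' (P.subgroupOf S) ⟨w, hw⟩ := by
    intro x hx w hw
    have h1 : (⟨x * w, mul_mem (h.PS hx) hw⟩ : ↥S) = ⟨x, h.PS hx⟩ * ⟨w, hw⟩ := rfl
    rw [h1, map_mul]
    have h2 : QuotientGroup.mk' (P.subgroupOf S) ⟨x, h.PS hx⟩ = 1 :=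
      (QuotientGroup.eq_one_iff _).2 (mem_subgroupOf.2 hx)
    rw [h2, one_mul]
  have h1 : QuotientGroup.mk' (P.subgroupOf S)
      (⟨p * q, mul_mem (h.PS hp) (h.QS hq)⟩ * ⟨p' * q', mul_mem (h.PS hp') (h.QS hq')⟩ *
        (⟨p * q, mul_mem (h.PS hp) (h.QS hq)⟩)⁻¹ * (⟨p' * q', mul_mem (h.PS hp') (h.QS hq')⟩)⁻¹) = 1 := by
    rw [map_mul, map_mul, map_mul, map_inv, map_inv, e p hp q (h.QS hq), e p' hp' q' (h.QS hq'), ← map_inv, ← map_inv,
      ← map_mul, ← map_mul, ← map_mul]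
    have h2 : (⟨q, h.QS hq⟩ * ⟨q', h.QS hq'⟩ * (⟨q, h.QS hq⟩)⁻¹ * (⟨q', h.QS hq'⟩)⁻¹ : ↥S) = 1 := by
      apply Subtype.ext
      change q * q' * q⁻¹ * q'⁻¹ = 1
      rw [h.hB.comm q hq q' hq']
      group
    rw [h2, map_one]
  exact mem_subgroupOf.1 ((QuotientGroup.eq_one_iff _).1 h1)

/-- `[S, S] ≤ ⟨z⟩` -/
theorem Amal.comm_mem (h : Amal A B P Q S z) {s y : G} (hs : s ∈ S) (hy : y ∈ S) :
    s * y * s⁻¹ * y⁻¹ ∈ zpowers z := by
  rw [← h.PinfQ]
  exact ⟨h.comm_P hs hy, h.symm.comm_P hs hy⟩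

theorem Amal.cen (h : Amal A B P Q S z) {w s : G} (hw : w ∈ zpowers z) (hs : s ∈ S) : s * w = w * s := by
  obtain ⟨i, rfl⟩ := mem_zpowers_iff.1 hw
  exact Commute.zpow_right (h.zS s hs) i

theorem mem_of_mem_zpowers {z w : G} (hz3 : z ^ 3 = 1) (hw : w ∈ zpowers z) (hw1 : w ≠ 1) : z ∈ zpowers w := by
  rcases mem_zpowers3 hz3 hw with h | h | h
  · exact absurd h hw1
  · rw [h]; exact mem_zpowers z
  · rw [h, zpowers_inv]; exact mem_zpowers z

/-- no normal 3'-subgroups -/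
theorem Amal.pprime (h : Amal A B P Q S z) (N : Subgroup G) [hN : N.Normal] (h3 : ¬ 3 ∣ Nat.card ↥N) : N = ⊥ := by
  have : Fact (Nat.Prime 3) := ⟨Nat.prime_three⟩
  have hNS : ∀ x ∈ N, x ∈ S → x = 1 := by
    intro x hx hxS
    have h1 : orderOf x ∣ Nat.card ↥N := by
      rw [← Subgroup.orderOf_mk x hx]; exact orderOf_dvd_natCard _
    have h2 : orderOf x ∣ 27 := by
      rw [← h.cardS, ← Subgroup.orderOf_mk x hxS]; exact orderOf_dvd_natCard _
    have h4 : (27).Coprime (Nat.card ↥N) := Nat.Coprime.pow_left 3 ((Nat.Prime.coprime_iff_not_dvd Nat.prime_three).2 h3)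
    exact orderOf_eq_one_iff.1 (Nat.eq_one_of_dvd_coprimes h4 h2 h1)
  have hz : ∀ x ∈ N, x * z = z * x → x = 1 := by
    intro x hx hxz
    have hxC := h.mem_C' hxz
    have h1 : ∀ s ∈ S, x * s = s * x := by
      intro s hs
      have h2 : s * x * s⁻¹ * x⁻¹ = 1 := by
        apply hNS
        · exact mul_mem (hN.conj_mem x hx s) (inv_mem hx)
        · have : s * x * s⁻¹ * x⁻¹ = s * (x * s⁻¹ * x⁻¹) := by group
          rw [this]
          exact mul_mem hs (h.normS hxC (inv_mem hs))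
      calc x * s = (s * x * s⁻¹ * x⁻¹)⁻¹ * (s * x) := by group
        _ = s * x := by rw [h2, inv_one, one_mul]
    exact hNS x hx (h.PS (h.hA.cent x hxC.1 fun y hy => h1 y (h.PS hy)))
  have hP : ∀ y ∈ P, y ≠ 1 → ∀ x ∈ N, x * y = y * x → x = 1 := by
    intro y hy hy1 x hx hxy
    obtain ⟨a, -, ha⟩ := h.hA.exists_conj_one h.zP h.z1 hy hy1
    have h1 : a⁻¹ * x * a = 1 := by
      apply hz
      · have := hN.conj_mem x hx a⁻¹
        rwa [inv_inv] at this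
      · calc a⁻¹ * x * a * z = a⁻¹ * (x * (a * z * a⁻¹)) * a := by group
          _ = a⁻¹ * ((a * z * a⁻¹) * x) * a := by rw [ha, hxy]
          _ = z * (a⁻¹ * x * a) := by group
    calc x = a * (a⁻¹ * x * a) * a⁻¹ := by group
      _ = 1 := by rw [h1]; group
  have hgen := Lib.CoprimeHyperplane.iSup_centralizer_hyperplane (p := 3) (A := P) (Q := N)
    ⟨⟨⟨fun a b => Subtype.ext (h.hA.comm a a.2 b b.2)⟩⟩, h.hA.exp⟩ (by
      intro h1
      have h2 := h.hA.cardP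
      rw [h1, card_bot] at h2
      omega) h3 (by rw [Subgroup.normalizer_eq_top]; exact le_top)
  rw [eq_bot_iff, ← hgen]
  refine iSup_le fun R => ?_
  obtain ⟨R, hRP, hR⟩ := R
  intro x hx
  have h1 := Subgroup.card_mul_index (R.subgroupOf P)
  rw [Nat.card_congr (subgroupOfEquivOfLe hRP).toEquiv, h.hA.cardP] at h1
  have h2 : (R.subgroupOf P).index = 3 := hR
  rw [h2] at h1
  have h4 : R ≠ ⊥ := by
    intro h4
    rw [h4, card_bot] at h1
    omega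
  obtain ⟨y, hy1⟩ := (Subgroup.ne_bot_iff_exists_ne_one).1 h4
  have hy1' : (y : G) ≠ 1 := fun h5 => hy1 (Subtype.ext h5)
  exact hP y (hRP y.2) hy1' x hx.1 ((Subgroup.mem_centralizer_iff.1 hx.2) y y.2).symm

theorem Amal.z_mem (h : Amal A B P Q S z) (N : Subgroup G) [hN : N.Normal] (hN1 : N ≠ ⊥) : z ∈ N := by
  have : Fact (Nat.Prime 3) := ⟨Nat.prime_three⟩
  have h3 : 3 ∣ Nat.card ↥N := by
    by_contra h3
    exact hN1 (h.pprime N h3)
  obtain ⟨⟨x, hx⟩, hx3⟩ := exists_prime_orderOf_dvd_card' (G := ↥N) 3 h3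
  rw [Subgroup.orderOf_mk] at hx3
  obtain ⟨g, hg⟩ := h.exists_conj_S hx3
  have hyN : g * x * g⁻¹ ∈ N := hN.conj_mem x hx g
  have hy1 : g * x * g⁻¹ ≠ 1 := conj_ne_one (by
    rintro rfl
    rw [orderOf_one] at hx3
    omega)
  set y := g * x * g⁻¹ with hy
  have hfin : ∀ w ∈ zpowers z, w ≠ 1 → w ∈ N → z ∈ N := by
    intro w hw hw1 hwN
    exact (zpowers_le.2 hwN) (mem_of_mem_zpowers h.z3 hw hw1)
  by_cases hyz : y ∈ zpowers z
  · exact hfin y hyz hy1 hyN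
  · have h4 : ¬ ∀ s ∈ S, y * s = s * y := fun h4 => hyz (h.cent_S hg h4)
    push Not at h4
    obtain ⟨s, hs, h5⟩ := h4
    refine hfin _ (h.comm_mem hs hg) ?_ (mul_mem (hN.conj_mem y hyN s) (inv_mem hyN))
    intro h6
    apply h5
    calc y * s = (s * y * s⁻¹ * y⁻¹)⁻¹ * (s * y) := by group
      _ = s * y := by rw [h6, inv_one, one_mul]

theorem Amal.P_le (h : Amal A B P Q S z) (N : Subgroup G) [hN : N.Normal] (hN1 : N ≠ ⊥) : P ≤ N := by
  intro y hy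
  by_cases hy1 : y = 1
  · rw [hy1]; exact one_mem N
  · obtain ⟨a, -, ha⟩ := h.hA.exists_conj_one h.zP h.z1 hy hy1
    rw [← ha]
    exact hN.conj_mem z (h.z_mem N hN1) a

theorem Amal.S_le (h : Amal A B P Q S z) (N : Subgroup G) [hN : N.Normal] (hN1 : N ≠ ⊥) : S ≤ N := by
  intro s hs
  obtain ⟨p, hp, q, hq, rfl⟩ := h.exists_mul hs
  exact mul_mem (h.P_le N hN1 hp) (h.symm.P_le N hN1 hq)

/-- the normal closure of `S` contains an element inverting `P` -/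
theorem Amal.exists_invP (h : Amal A B P Q S z) (N : Subgroup G) [hN : N.Normal] (hSN : S ≤ N) :
    ∃ t ∈ N, t ∈ A ⊓ B ∧ ∀ x ∈ P, t * x * t⁻¹ = x⁻¹ := by
  obtain ⟨a, haP, haz⟩ := exists_notMem h.hA.cardP h.hA.exp h.zP
  have hSP : ¬ S ≤ P := by
    intro h1
    have h2 : Nat.card ↥S ∣ Nat.card ↥P := card_dvd_of_le h1
    rw [h.cardS, h.hA.cardP] at h2
    omega
  obtain ⟨s, hs, hsP⟩ := SetLike.not_le_iff_exists.1 hSP
  set w := s * a * s⁻¹ * a⁻¹ with hw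
  have hwz : w ∈ zpowers z := h.comm_mem hs (h.PS haP)
  have hw1 : w ≠ 1 := by
    intro h1
    apply hsP
    refine h.hA.cent s (h.SA hs) (comm_of_gen h.hA.cardP h.zP h.z3 h.z1 haP haz (h.zS s hs) ?_)
    calc s * a = (s * a * s⁻¹ * a⁻¹) * (a * s) := by group
      _ = a * s := by rw [← hw, h1, one_mul]
  have hwP : w ∈ P := zpowers_le.2 h.zP hwz
  have hzw : z ∈ zpowers w := mem_of_mem_zpowers h.z3 hwz hw1
  have haw : a ∉ zpowers w := fun h1 => haz ((zpowers_le.2 hwz) h1)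
  have ha1 : a ≠ 1 := fun h1 => haz (h1 ▸ one_mem _)
  have hwa : w ∉ zpowers a := by
    intro h1
    apply haw
    exact mem_of_mem_zpowers (h.hA.exp a haP) h1 hw1
  have hsw : s * w * s⁻¹ = w := by rw [h.cen hwz hs, mul_inv_cancel_right]
  have hsa : s * a * s⁻¹ = w * a := by rw [hw]; group
  obtain ⟨g, hgA, hg1, hg2⟩ := h.hA.exists_conj hwP hw1 haP haw haP ha1 hwP hwa
  have hwac : w * a = a * w := h.hA.comm w hwP a haP
  -- `s2 = g s g⁻¹`
  set s2 := g * s * g⁻¹ with hs2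
  have hg1' : g⁻¹ * a * g = w := by rw [← hg1]; group
  have hg2' : g⁻¹ * w * g = a := by rw [← hg2]; group
  have hs2a : s2 * a * s2⁻¹ = a := by
    calc s2 * a * s2⁻¹ = g * (s * (g⁻¹ * a * g) * s⁻¹) * g⁻¹ := by rw [hs2]; group
      _ = a := by rw [hg1', hsw, hg1]
  have hs2w : s2 * w * s2⁻¹ = a * w := by
    calc s2 * w * s2⁻¹ = g * (s * (g⁻¹ * w * g) * s⁻¹) * g⁻¹ := by rw [hs2]; group
      _ = (g * w * g⁻¹) * (g * a * g⁻¹) := by rw [hg2', hsa]; group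
      _ = a * w := by rw [hg1, hg2]
  have hs2a' : s2⁻¹ * a * s2 = a := by
    calc s2⁻¹ * a * s2 = s2⁻¹ * (s2 * a * s2⁻¹) * s2 := by rw [hs2a]
      _ = a := by group
  have hs2w' : s2⁻¹ * w * s2 = a⁻¹ * w := by
    have e1 : s2⁻¹ * (a * w) * s2 = w := by rw [← hs2w]; group
    calc s2⁻¹ * w * s2 = (s2⁻¹ * a * s2)⁻¹ * (s2⁻¹ * (a * w) * s2) := by group
      _ = a⁻¹ * w := by rw [hs2a', e1]
  set m := s * s2⁻¹ with hm
  have hmw : m * w * m⁻¹ = a⁻¹ := by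
    calc m * w * m⁻¹ = s * (s2⁻¹ * w * s2) * s⁻¹ := by rw [hm]; group
      _ = (s * a * s⁻¹)⁻¹ * (s * w * s⁻¹) := by rw [hs2w']; group
      _ = a⁻¹ := by rw [hsa, hsw]; group
  have hma : m * a * m⁻¹ = w * a := by
    calc m * a * m⁻¹ = s * (s2⁻¹ * a * s2) * s⁻¹ := by rw [hm]; group
      _ = w * a := by rw [hs2a', hsa]
  have hm2w : m * m * w * (m * m)⁻¹ = (w * a)⁻¹ := by
    calc m * m * w * (m * m)⁻¹ = m * (m * w * m⁻¹) * m⁻¹ := by group
      _ = (m * a * m⁻¹)⁻¹ := by rw [hmw]; group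
      _ = _ := by rw [hma]
  have hm2a : m * m * a * (m * m)⁻¹ = w := by
    calc m * m * a * (m * m)⁻¹ = m * (m * a * m⁻¹) * m⁻¹ := by group
      _ = m * (w * a) * m⁻¹ := by rw [hma]
      _ = (m * w * m⁻¹) * (m * a * m⁻¹) := by group
      _ = a⁻¹ * (w * a) := by rw [hmw, hma]
      _ = w := by rw [hwac]; group
  have hm3w : m * m * m * w * (m * m * m)⁻¹ = w⁻¹ := by
    calc m * m * m * w * (m * m * m)⁻¹ = m * (m * m * w * (m * m)⁻¹) * m⁻¹ := by group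
      _ = ((m * w * m⁻¹) * (m * a * m⁻¹))⁻¹ := by rw [hm2w]; group
      _ = (a⁻¹ * (w * a))⁻¹ := by rw [hmw, hma]
      _ = w⁻¹ := by rw [hwac]; group
  have hm3a : m * m * m * a * (m * m * m)⁻¹ = a⁻¹ := by
    calc m * m * m * a * (m * m * m)⁻¹ = m * (m * m * a * (m * m)⁻¹) * m⁻¹ := by group
      _ = a⁻¹ := by rw [hm2a, hmw]
  have hsN : s ∈ N := hSN hs
  have hmN : m ∈ N := mul_mem hsN (inv_mem (hN.conj_mem s hsN g))
  have hinv : ∀ x ∈ P, (m * m * m) * x * (m * m * m)⁻¹ = x⁻¹ := by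
    let K : Subgroup G :=
      { carrier := {x | x ∈ P ∧ (m * m * m) * x * (m * m * m)⁻¹ = x⁻¹}
        one_mem' := ⟨one_mem P, by group⟩
        mul_mem' := by
          rintro x y ⟨hx, hx2⟩ ⟨hy, hy2⟩
          refine ⟨mul_mem hx hy, ?_⟩
          calc m * m * m * (x * y) * (m * m * m)⁻¹ =
                (m * m * m * x * (m * m * m)⁻¹) * (m * m * m * y * (m * m * m)⁻¹) := by group
            _ = x⁻¹ * y⁻¹ := by rw [hx2, hy2]
            _ = (x * y)⁻¹ := by rw [h.hA.comm x hx y hy, mul_inv_rev]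
        inv_mem' := by
          rintro x ⟨hx, hx2⟩
          refine ⟨inv_mem hx, ?_⟩
          have e : ∀ T x : G, T * x⁻¹ * T⁻¹ = (T * x * T⁻¹)⁻¹ := fun T x => by group
          rw [e, hx2] }
    have hK : zpowers w ⊔ zpowers a ≤ K := sup_le (zpowers_le.2 ⟨hwP, hm3w⟩) (zpowers_le.2 ⟨haP, hm3a⟩)
    rw [sup_eq h.hA.cardP hwP (h.hA.exp w hwP) hw1 haP haw] at hK
    exact fun x hx => (hK hx).2
  refine ⟨m * m * m, mul_mem (mul_mem hmN hmN) hmN, ?_, hinv⟩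
  apply h.mem_C
  rw [hinv z h.zP]
  exact inv_mem (mem_zpowers z)

/-- a normal subgroup containing `S` contains `A ∩ B` -/
theorem Amal.C_le (h : Amal A B P Q S z) (N : Subgroup G) [hN : N.Normal] (hSN : S ≤ N) : A ⊓ B ≤ N := by
  obtain ⟨t, htN, htC, ht⟩ := h.exists_invP N hSN
  obtain ⟨t', htN', htC', ht'⟩ := h.symm.exists_invP N hSN
  rw [inf_comm] at htC'
  have hzz := inv_ne h.z3 h.z1
  have htS : t ∉ S := by
    intro h1
    apply hzz
    rw [← ht z h.zP, h.zS t h1, mul_inv_cancel_right]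
  have htS' : t' ∉ S := by
    intro h1
    apply hzz
    rw [← ht' z h.zQ, h.zS t' h1, mul_inv_cancel_right]
  obtain ⟨p, hp, hpz⟩ := exists_notMem h.hA.cardP h.hA.exp h.zP
  obtain ⟨q, hq, hqz⟩ := exists_notMem h.hB.cardP h.hB.exp h.zQ
  have htt : t * t' ∉ S := by
    intro h1
    have h2 : t * q * t⁻¹ * q ∈ zpowers z := by
      have h3 := h.comm_mem h1 (h.QS hq)
      have h4 : (t * t') * q * (t * t')⁻¹ * q⁻¹ = t * (t' * q * t'⁻¹) * t⁻¹ * q⁻¹ := by group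
      rw [h4, ht' q hq] at h3
      have h5 : t * q * t⁻¹ * q = q⁻¹ * (t * q⁻¹ * t⁻¹ * q⁻¹)⁻¹ * q := by group
      have h6 : (t * q⁻¹ * t⁻¹ * q⁻¹)⁻¹ ∈ zpowers z := inv_mem h3
      have h7 := h.cen h6 (inv_mem (h.QS hq))
      rw [h5, h7, mul_assoc, inv_mul_cancel, mul_one]
      exact h6
    set w := t * q * t⁻¹ * q with hw
    have htq : t * q * t⁻¹ = w * q⁻¹ := by rw [hw]; group
    set u := p * q * p⁻¹ * q⁻¹ with hu
    have hpS := h.PS hp
    have hqS := h.QS hq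
    have huz : u ∈ zpowers z := h.comm_mem hpS hqS
    have hu1 : u ≠ 1 := by
      intro h3
      apply hpz
      rw [← h.PinfQ]
      refine ⟨hp, h.hB.cent p (h.SB hpS) ?_⟩
      refine comm_of_gen h.hB.cardP h.zQ h.z3 h.z1 hq hqz (h.zS p hpS) ?_
      rw [hu] at h3
      calc p * q = (p * q * p⁻¹ * q⁻¹) * (q * p) := by group
        _ = q * p := by rw [h3, one_mul]
    have huP : u ∈ P := zpowers_le.2 h.zP huz
    have h8 : t * u * t⁻¹ = u⁻¹ := ht u huP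
    have h9 : t * u * t⁻¹ = u := by
      have e1 : t * u * t⁻¹ = (t * p * t⁻¹) * (t * q * t⁻¹) * (t * p * t⁻¹)⁻¹ * (t * q * t⁻¹)⁻¹ := by rw [hu]; group
      have e2 : p⁻¹ * w = w * p⁻¹ := h.cen h2 (inv_mem hpS)
      have e3 : ∀ s ∈ S, s * w = w * s := fun s hs => h.cen h2 hs
      have e4 : p⁻¹ * q⁻¹ * p * q = u := by
        have e5 : p * q = u * (q * p) := by rw [hu]; group
        have e6 : q⁻¹ * p⁻¹ * u = u * (q⁻¹ * p⁻¹) := h.cen huz (mul_mem (inv_mem hqS) (inv_mem hpS))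
        have e7 : p⁻¹ * q⁻¹ = u * (q⁻¹ * p⁻¹) := by
          rw [← e6]
          have : (p * q)⁻¹ = (u * (q * p))⁻¹ := by rw [← e5]
          rw [mul_inv_rev, mul_inv_rev, mul_inv_rev] at this
          rw [this]
          group
        calc p⁻¹ * q⁻¹ * p * q = (p⁻¹ * q⁻¹) * (p * q) := by group
          _ = u * (q⁻¹ * p⁻¹) * (p * q) := by rw [e7]
          _ = u := by group
      rw [e1, ht p hp, htq, inv_inv, mul_inv_rev, inv_inv]
      calc p⁻¹ * (w * q⁻¹) * p * (q * w⁻¹) = (p⁻¹ * w) * (q⁻¹ * p * q) * w⁻¹ := by group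
        _ = w * (p⁻¹ * q⁻¹ * p * q) * w⁻¹ := by rw [e2]; group
        _ = (p⁻¹ * q⁻¹ * p * q) * w * w⁻¹ := by
            rw [e3 _ (mul_mem (mul_mem (mul_mem (inv_mem hpS) (inv_mem hqS)) hpS) hqS)]
        _ = u := by rw [mul_inv_cancel_right, e4]
    have hu3 : u ^ 3 = 1 := h.hA.exp u huP
    exact inv_ne hu3 hu1 (h8.symm.trans h9)
  have hSC : S ≤ N ⊓ (A ⊓ B) := le_inf hSN (le_inf h.SA h.SB)
  have h4 : S.relIndex (A ⊓ B) = 4 := by
    have h3 := Subgroup.card_mul_index (S.subgroupOf (A ⊓ B))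
    rw [Nat.card_congr (subgroupOfEquivOfLe (le_inf h.SA h.SB)).toEquiv, h.cardS, h.card_C] at h3
    change (S.subgroupOf (A ⊓ B)).index = 4
    omega
  have h5 := Subgroup.relIndex_mul_relIndex S (N ⊓ (A ⊓ B)) (A ⊓ B) hSC inf_le_right
  rw [h4] at h5
  have h6 : S.relIndex (N ⊓ (A ⊓ B)) ≠ 1 := by
    intro h6
    rw [Subgroup.relIndex_eq_one] at h6
    exact htS (h6 ⟨htN, htC⟩)
  have h7 : S.relIndex (N ⊓ (A ⊓ B)) ≠ 2 := by
    intro h7
    have h8 : (S.subgroupOf (N ⊓ (A ⊓ B))).index = 2 := h7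
    have h9 := Subgroup.mul_mem_iff_of_index_two h8 (a := ⟨t, htN, htC⟩) (b := ⟨t', htN', htC'⟩)
    rw [mem_subgroupOf, mem_subgroupOf, mem_subgroupOf] at h9
    exact htt (h9.2 (iff_of_false htS htS'))
  have h8 : (N ⊓ (A ⊓ B)).relIndex (A ⊓ B) = 1 := by
    have h10 : S.relIndex (N ⊓ (A ⊓ B)) ∣ 4 := Dvd.intro _ h5
    have h11 : S.relIndex (N ⊓ (A ⊓ B)) ≤ 4 := Nat.le_of_dvd (by norm_num) h10
    generalize S.relIndex (N ⊓ (A ⊓ B)) = a at *
    generalize (N ⊓ (A ⊓ B)).relIndex (A ⊓ B) = b at *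
    interval_cases a <;> omega
  rw [Subgroup.relIndex_eq_one] at h8
  exact h8.trans inf_le_left

/-- **the group is simple** -/
theorem Amal.simple (h : Amal A B P Q S z) : IsSimpleGroup G where
  exists_pair_ne := ⟨z, 1, h.z1⟩
  eq_bot_or_eq_top_of_normal := by
    intro N hN
    by_cases hN1 : N = ⊥
    · exact Or.inl hN1
    right
    have : Fact (Nat.Prime 3) := ⟨Nat.prime_three⟩
    have hSN := h.S_le N hN1
    have h1 := Sylow.normalizer_sup_eq_top' (N := N) (h.isPGroup.toSylow h.not_dvd) hSN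
    have h2 : normalizer ((h.isPGroup.toSylow h.not_dvd : Sylow 3 G) : Set G) = normalizer (S : Set G) := rfl
    have h3 : normalizer (S : Set G) ⊔ N = ⊤ := h1
    rw [h.nS, sup_eq_right.2 (h.C_le N hSN)] at h3
    exact h3

end

end Cfsg.Agent.H346.Am
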