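import Cfsg.Agent.H346.AmElim
import Cfsg.Agent.CTwoTab.Ru
import Cfsg.Agent.Ru127.Y
import Cfsg.Agent.RuB.QSylA
import Cfsg.Agent.LieClassical.FieldTransfer
import Cfsg.Agent.S0000

/-!
# Elimination: sporadic groups and the final list
-/

set_option autoImplicit false

namespace Cfsg.Agent.H346.AmElim

open Subgroup Cfsg Cfsg.Lie Cfsg.Agent.OrdDiv
open Cfsg.Agent.H346.AmArith Cfsg.Agent.RuB Cfsg.Agent.KFacts.Ru

universe u v

/-- test on the order -/
def bad (c : ℕ) : Bool := decide (c % 27 ≠ 0) || decide (c % 81 = 0) || decide (c / 27 % 3 ≠ 1)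

theorem spor_bad : ∀ x ∈ spor, x.1 ≠ .m12 → x.1 ≠ .ru → bad x.2 = true := by decide

theorem Facts.not_bad {G : Type u} [Group G] (X : Facts G) : bad (Nat.card G) = false := by
  have h1 := X.c27
  have h2 := X.c81
  have h3 := X.cm
  unfold bad
  simp only [Bool.or_eq_false_iff, decide_eq_false_iff_not, not_not]
  refine ⟨⟨?_, ?_⟩, h3⟩
  · simpa using Nat.mod_eq_zero_of_dvd h1
  · intro h
    exact h2 (Nat.dvd_of_mod_eq_zero h)

theorem ru {K : Type u} [Group K] [Finite K] (h : Spor.IsoRu K) (X : Facts K) : False := by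
  obtain ⟨C, -, hL⟩ := Cfsg.Agent.CTwoTab.Ru.exists_core_sz h
  obtain ⟨t, ht, m, hm, hm1⟩ := X.tt
  have ht2 : t * t = 1 := by rw [← pow_two, ← ht]; exact pow_orderOf_eq_one t
  have ht1 : t ≠ 1 := by
    rintro rfl
    rw [orderOf_one] at ht
    norm_num at ht
  rcases InvC.invol_cases C ht2 ht1 with ⟨g, hg⟩ | ⟨g, a, ha, hg⟩
  · rw [← hg, Am.card_centralizer_conj, Cfsg.Agent.Ru127.Sg.card_cent C] at hm
    omega
  · rw [← hg, Am.card_centralizer_conj, QSyl.card_cent ha] at hm
    omega

theorem spor_elim (T : OrderTable.{u}) {K : Type u} [Group K] [Finite K] (X : Facts K) {g : Grp}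
    (hg : g ∈ spor.map (fun x => x.1)) (hr : Real g K) : Spor.IsoM12 K := by
  obtain ⟨x, hx, rfl⟩ := List.mem_map.1 hg
  by_cases h1 : x.1 = .m12
  · rw [h1] at hr
    exact hr
  exfalso
  by_cases h2 : x.1 = .ru
  · rw [h2] at hr
    exact ru hr X
  have h3 := spor_bad x hx h1 h2
  rw [← T.spor K x hx hr, X.not_bad] at h3
  exact Bool.false_ne_true h3

/-- **Elimination.** -/
theorem elim {K : Type u} [Group K] [Finite K] [IsSimpleGroup K] (X : Facts K) (hna : ¬ ∀ a b : K, a * b = b * a) :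
    Spor.IsoM12 K ∨ Nonempty (K ≃* Matrix.ProjectiveSpecialLinearGroup (Fin 3) (ZMod 3)) := by
  have T : OrderTable.{u} := table
  have h : IsKnownSimple' K := S0000.result
  have key : ∀ (g : Grp), g ∈ spor.map (fun x => x.1) → Real g K →
      Spor.IsoM12 K ∨ Nonempty (K ≃* Matrix.ProjectiveSpecialLinearGroup (Fin 3) (ZMod 3)) :=
    fun g hg hr => Or.inl (spor_elim T X hg hr)
  rcases h with h | h | h | h | h | h | h | h | h | h
  · exfalso
    have : Fact (Nat.card K).Prime := ⟨h⟩
    have : IsCyclic K := isCyclic_of_prime_card (p := Nat.card K) rfl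
    exact hna fun a b => (IsCyclic.isMulCommutative (α := K)).is_comm.comm a b
  · obtain ⟨n, hn, ⟨e⟩⟩ := h
    exact (alt hn (X.congr e)).elim
  · obtain ⟨F, _, _, n, hn, hn2, ⟨e⟩⟩ := h
    obtain ⟨rfl, hF⟩ := psl hn hn2 (X.congr e)
    have : Fact (Nat.Prime 3) := ⟨Nat.prime_three⟩
    have : CharP F 3 := charP_of_card_eq_prime hF
    have e1 : ZMod 3 ≃+* F := ZMod.ringEquivOfPrime F Nat.prime_three hF
    exact Or.inr ⟨e.trans (Cfsg.Agent.LieClassical.FieldTransfer.pslCongr e1.symm)⟩
  · obtain ⟨F, _, _, n, hn, hn2, ⟨e⟩⟩ := h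
    exact (psp hn (X.congr e)).elim
  · obtain ⟨F, _, _, n, q, hF, hn, hn2, ⟨e⟩⟩ := h
    exact (psu hF hn (X.congr e)).elim
  · obtain ⟨F, _, _, n, hn, ho, ⟨e⟩⟩ := h
    exact (oodd hn ho (X.congr e)).elim
  · obtain ⟨F, _, _, n, hn, ⟨e⟩⟩ := h
    exact (oplus hn (X.congr e)).elim
  · obtain ⟨F, _, _, n, a, b, hn, hab, ⟨e⟩⟩ := h
    exact (ominus hn hab (X.congr e)).elim
  · rcases h with h | h | h | h | h | h | h | h | h | h | h
    · obtain ⟨F, _, _, hq, ⟨e⟩⟩ := h
      exact (g2 T hq (X.congr e)).elim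
    · obtain ⟨F, _, _, ⟨e⟩⟩ := h
      exact (f4 T (X.congr e)).elim
    · obtain ⟨F, _, _, ⟨e⟩⟩ := h
      exact (e6 T (X.congr e)).elim
    · obtain ⟨F, _, _, ⟨e⟩⟩ := h
      exact (e7 T (X.congr e)).elim
    · obtain ⟨F, _, _, ⟨e⟩⟩ := h
      exact (e8 T (X.congr e)).elim
    · obtain ⟨F, _, _, q, hq, hF, ⟨e⟩⟩ := h
      exact (te6 T hq hF (X.congr e)).elim
    · obtain ⟨F, _, _, q, hq, hF, ⟨e⟩⟩ := h
      exact (td4 T hq hF (X.congr e)).elim
    · obtain ⟨F, _, _, m, hm, hF, ⟨e⟩⟩ := h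
      exact (sz T hm hF (X.congr e)).elim
    · obtain ⟨F, _, _, m, hm, hF, ⟨e⟩⟩ := h
      exact (ree T hm hF (X.congr e)).elim
    · exact (tf4 h X).elim
    · exact key .tits (by decide) h
  · rcases h with h | h | h | h | h | h | h | h | h | h | h | h | h | h | h | h | h | h | h | h | h | h | h | h | h | h
    · exact key .m11 (by decide) h
    · exact key .m12 (by decide) h
    · exact key .m22 (by decide) h
    · exact key .m23 (by decide) h
    · exact key .m24 (by decide) h
    · exact key .j1 (by decide) h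
    · exact key .j2 (by decide) h
    · exact key .j3 (by decide) h
    · exact key .j4 (by decide) h
    · exact key .co1 (by decide) h
    · exact key .co2 (by decide) h
    · exact key .co3 (by decide) h
    · exact key .mcl (by decide) h
    · exact key .hs (by decide) h
    · exact key .suz (by decide) h
    · exact key .he (by decide) h
    · exact key .ru (by decide) h
    · exact key .on (by decide) h
    · exact key .ly (by decide) h
    · exact key .fi22 (by decide) h
    · exact key .fi23 (by decide) h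
    · exact key .fi24 (by decide) h
    · exact key .hn (by decide) h
    · exact key .th (by decide) h
    · exact key .b (by decide) h
    · exact key .m (by decide) h

end Cfsg.Agent.H346.AmElim
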