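import Cfsg.Agent.H346.AmSpor
import Cfsg.Agent.H346.AmSimple

/-!
# The amalgam of the statement
-/

set_option autoImplicit false

namespace Cfsg.Agent.H346.AmStmt

open Subgroup Cfsg Cfsg.Agent.H346.Am

universe u

variable {G : Type u} [Group G] [Finite G]

theorem card_gl : Nat.card (GL (Fin 2) (ZMod 3)) = 48 := by
  have : Fact (Nat.Prime 3) := ⟨Nat.prime_three⟩
  rw [Matrix.card_GL_field]
  simp [ZMod.card, Fin.prod_univ_two]

theorem aff {A : Subgroup G} (eA : A ⧸ Cfsg.pCore 3 A ≃* GL (Fin 2) (ZMod 3))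
    (hOA : IsMulCommutative (Cfsg.pCore 3 A) ∧ (∀ x ∈ Cfsg.pCore 3 A, x ^ 3 = 1) ∧ Nat.card (Cfsg.pCore 3 A) = 9 ∧
      Subgroup.centralizer ((Cfsg.pCore 3 A : Subgroup A) : Set A) = Cfsg.pCore 3 A) :
    Aff A ((Cfsg.pCore 3 A).map A.subtype) := by
  have hn : (Cfsg.pCore 3 A).Normal := Cfsg.Agent.Lib.Cores.pCore_normal 3
  obtain ⟨h1, h2, h3, h4⟩ := hOA
  refine ⟨?_, ?_, ?_, ?_, ?_, ?_, ?_⟩
  · rintro _ ⟨x, -, rfl⟩
    exact x.2
  · rintro a ha _ ⟨x, hx, rfl⟩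
    exact ⟨⟨a, ha⟩ * x * ⟨a, ha⟩⁻¹, hn.conj_mem x hx _, rfl⟩
  · rintro _ ⟨x, hx, rfl⟩ _ ⟨y, hy, rfl⟩
    have := h1.is_comm.comm (⟨x, hx⟩ : ↥(Cfsg.pCore 3 A)) ⟨y, hy⟩
    have h5 : x * y = y * x := congrArg Subtype.val this
    exact congrArg Subtype.val h5
  · rintro _ ⟨x, hx, rfl⟩
    rw [← map_pow, h2 x hx, map_one]
  · rw [Subgroup.card_map_of_injective A.subtype_injective]
    exact h3
  · intro a ha h5
    refine ⟨⟨a, ha⟩, ?_, rfl⟩
    change (⟨a, ha⟩ : ↥A) ∈ Cfsg.pCore 3 A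
    rw [← h4, mem_centralizer_iff]
    intro x hx
    exact Subtype.ext (h5 x ⟨x, hx, rfl⟩).symm
  · rw [Subgroup.card_eq_card_quotient_mul_card_subgroup (Cfsg.pCore 3 A), h3, Nat.card_congr eA.toEquiv, card_gl]

theorem card_sylow {A C : Subgroup G} (hCA : C ≤ A) (hcA : Nat.card ↥A = 432) (h : ¬ 3 ∣ (C.subgroupOf A).index)
    (S : Sylow 3 ↥C) : Nat.card ↥(S : Subgroup ↥C) = 27 := by
  have : Fact (Nat.Prime 3) := ⟨Nat.prime_three⟩
  rw [S.card_eq_multiplicity]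
  have h1 : Nat.card ↥C * (C.subgroupOf A).index = 432 := by
    rw [← hcA, ← Subgroup.card_mul_index (C.subgroupOf A), Nat.card_congr (Subgroup.subgroupOfEquivOfLe hCA).toEquiv]
  have h0 : (C.subgroupOf A).index ≠ 0 := fun h2 => by rw [h2] at h; exact h (dvd_zero 3)
  have h2 : (Nat.card ↥C).factorization 3 + (C.subgroupOf A).index.factorization 3 = (432 : ℕ).factorization 3 := by
    rw [← h1, Nat.factorization_mul Nat.card_pos.ne' h0]
    rfl
  rw [Nat.factorization_eq_zero_of_not_dvd h, add_zero] at h2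
  have h3 : (432 : ℕ).factorization 3 = 3 := by
    rw [show (432 : ℕ) = 3 ^ 3 * 16 by norm_num, Nat.factorization_mul (by norm_num) (by norm_num)]
    rw [Nat.Prime.factorization_pow Nat.prime_three]
    simp [Nat.factorization_eq_zero_of_not_dvd (show ¬ 3 ∣ 16 by norm_num)]
  rw [h2, h3]
  norm_num

theorem core_le {A S : Subgroup G} (hSA : S ≤ A) (hS : Nat.card ↥S = 27) (hcA : Nat.card ↥A = 432) :
    (Cfsg.pCore 3 A).map A.subtype ≤ S := by
  have : Fact (Nat.Prime 3) := ⟨Nat.prime_three⟩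
  have h1 : Nat.card ↥(S.subgroupOf A) = 27 := by
    rw [Nat.card_congr (Subgroup.subgroupOfEquivOfLe hSA).toEquiv, hS]
  have h2 : (S.subgroupOf A).index = 16 := by
    have := Subgroup.card_mul_index (S.subgroupOf A)
    rw [h1, hcA] at this
    omega
  have h3 : IsPGroup 3 ↥(S.subgroupOf A) := IsPGroup.of_card (n := 3) (by rw [h1]; norm_num)
  have h4 := Cfsg.Agent.Lib.Cores.pCore_le_sylow (h3.toSylow (by rw [h2]; norm_num))
  rintro _ ⟨x, hx, rfl⟩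
  exact h4 hx

/-- **The amalgam.** -/
theorem exists_amal
    (A B : Subgroup G) (hgen : A ⊔ B = ⊤)
    (hSylA : ¬ 3 ∣ ((A ⊓ B).subgroupOf A).index) (hSylB : ¬ 3 ∣ ((A ⊓ B).subgroupOf B).index)
    (hcore : ∀ N : Subgroup G, N ≤ A ⊓ B → (∀ a ∈ A, N.map (MulAut.conj a).toMonoidHom = N) →
      (∀ b ∈ B, N.map (MulAut.conj b).toMonoidHom = N) → N = ⊥)
    (eA : A ⧸ Cfsg.pCore 3 A ≃* GL (Fin 2) (ZMod 3)) (eB : B ⧸ Cfsg.pCore 3 B ≃* GL (Fin 2) (ZMod 3))
    (hOA : IsMulCommutative (Cfsg.pCore 3 A) ∧ (∀ x ∈ Cfsg.pCore 3 A, x ^ 3 = 1) ∧ Nat.card (Cfsg.pCore 3 A) = 9 ∧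
      Subgroup.centralizer ((Cfsg.pCore 3 A : Subgroup A) : Set A) = Cfsg.pCore 3 A)
    (hOB : IsMulCommutative (Cfsg.pCore 3 B) ∧ (∀ x ∈ Cfsg.pCore 3 B, x ^ 3 = 1) ∧ Nat.card (Cfsg.pCore 3 B) = 9 ∧
      Subgroup.centralizer ((Cfsg.pCore 3 B : Subgroup B) : Set B) = Cfsg.pCore 3 B)
    (S : Sylow 3 ↥(A ⊓ B)) (Z : Subgroup G)
    (hZ : Z = ((S : Subgroup ↥(A ⊓ B)) ⊓ Subgroup.centralizer ((S : Subgroup ↥(A ⊓ B)) : Set ↥(A ⊓ B))).map (A ⊓ B).subtype)
    (hNZ : Subgroup.normalizer (Z : Set G) ≤ A ⊓ B) :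
    ∃ (P Q S' : Subgroup G) (z : G), Amal A B P Q S' z := by
  have : Fact (Nat.Prime 3) := ⟨Nat.prime_three⟩
  have hA := aff eA hOA
  have hB := aff eB hOB
  have hS := card_sylow inf_le_left hA.cardA hSylA S
  obtain ⟨S', hS'⟩ : ∃ S' : Subgroup G, S' = (S : Subgroup ↥(A ⊓ B)).map (A ⊓ B).subtype := ⟨_, rfl⟩
  have hle : S' ≤ A ⊓ B := by
    rw [hS']
    rintro _ ⟨x, -, rfl⟩
    exact x.2
  have hSA := hle.trans inf_le_left
  have hSB := hle.trans inf_le_right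
  have hcS : Nat.card ↥S' = 27 := by
    rw [hS', Subgroup.card_map_of_injective (A ⊓ B).subtype_injective]
    exact hS
  have hPS := core_le hSA hcS hA.cardA
  have hQS := core_le hSB hcS hB.cardA
  have hzc : ∀ w ∈ Z, w ∈ S' ∧ ∀ s ∈ S', s * w = w * s := by
    rw [hZ, hS']
    rintro _ ⟨x, ⟨hx1, hx2⟩, rfl⟩
    refine ⟨⟨x, hx1, rfl⟩, ?_⟩
    rintro _ ⟨y, hy, rfl⟩
    exact congrArg Subtype.val (mem_centralizer_iff.1 hx2 y hy)
  have hZP : Z ≤ (Cfsg.pCore 3 A).map A.subtype := fun w hw =>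
    hA.cent w (hSA (hzc w hw).1) fun x hx => ((hzc w hw).2 x (hPS hx)).symm
  have hZQ : Z ≤ (Cfsg.pCore 3 B).map B.subtype := fun w hw =>
    hB.cent w (hSB (hzc w hw).1) fun x hx => ((hzc w hw).2 x (hQS hx)).symm
  have hZ1 : Z ≠ ⊥ := by
    have h1 : Nontrivial ↥(S : Subgroup ↥(A ⊓ B)) := by
      rw [← Finite.one_lt_card_iff_nontrivial, hS]; norm_num
    have h2 : Nontrivial ↥(center ↥(S : Subgroup ↥(A ⊓ B))) := S.2.center_nontrivial
    obtain ⟨c, hc⟩ := exists_ne (1 : ↥(center ↥(S : Subgroup ↥(A ⊓ B))))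
    intro h3
    apply hc
    have h4 : (((c : ↥(S : Subgroup ↥(A ⊓ B))) : ↥(A ⊓ B)) : G) ∈ Z := by
      rw [hZ]
      refine ⟨_, ⟨(c : ↥(S : Subgroup ↥(A ⊓ B))).2, ?_⟩, rfl⟩
      change ((c : ↥(S : Subgroup ↥(A ⊓ B))) : ↥(A ⊓ B)) ∈ centralizer _
      rw [mem_centralizer_iff]
      intro y hy
      have h5 := mem_center_iff.1 c.2 ⟨y, hy⟩
      exact congrArg Subtype.val h5
    rw [h3, mem_bot] at h4
    exact Subtype.ext (Subtype.ext (Subtype.ext h4))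
  obtain ⟨z, hzZ, hz1⟩ : ∃ z ∈ Z, z ≠ 1 := by
    obtain ⟨a, ha⟩ := Subgroup.ne_bot_iff_exists_ne_one.1 hZ1
    exact ⟨a.1, a.2, fun h => ha (Subtype.ext h)⟩
  have hz3 : z ^ 3 = 1 := hA.exp z (hZP hzZ)
  have hcz : Nat.card ↥(zpowers z) = 3 := card_zpowers3 hz3 hz1
  have hZe : zpowers z = Z := by
    by_contra hne
    have hle' : zpowers z ≤ Z := zpowers_le.2 hzZ
    have hdvd : Nat.card ↥Z ∣ 9 := by
      rw [← hA.cardP]
      exact Subgroup.card_dvd_of_le hZP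
    have h3 : 3 ∣ Nat.card ↥Z := by
      rw [← hcz]
      exact Subgroup.card_dvd_of_le hle'
    have h9 : Nat.card ↥Z = 9 := by
      have h4 : Nat.card ↥Z ≠ 3 := by
        intro h4
        exact hne (Subgroup.eq_of_le_of_card_ge hle' (by rw [h4, hcz]))
      have h5 := Nat.le_of_dvd (by norm_num) hdvd
      interval_cases h6 : Nat.card ↥Z <;> omega
    have hZP' : Z = (Cfsg.pCore 3 A).map A.subtype :=
      Subgroup.eq_of_le_of_card_ge hZP (by rw [h9, hA.cardP])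
    have h6 : S' ≤ (Cfsg.pCore 3 A).map A.subtype := fun s hs =>
      hA.cent s (hSA hs) fun x hx => (hzc x (by rw [hZP']; exact hx)).2 s hs
    have h7 := Subgroup.card_le_of_le h6
    rw [hcS, hA.cardP] at h7
    omega
  refine ⟨_, _, S', z, ⟨hA, hB, hPS, hQS, hSA, hSB, hcS, hz1, hZP hzZ, hZQ hzZ, (hzc z hzZ).2, ?_, hgen, ?_⟩⟩
  · rw [hZe]
    exact hNZ
  · intro N hN h1 h2
    have key : ∀ g : G, (∀ x ∈ N, g * x * g⁻¹ ∈ N) → N.map (MulAut.conj g).toMonoidHom = N := by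
      intro g hg
      refine Subgroup.eq_of_le_of_card_ge ?_ ?_
      · rintro _ ⟨x, hx, rfl⟩
        exact hg x hx
      · rw [Subgroup.card_map_of_injective (MulAut.conj g).injective]
    exact hcore N hN (fun a ha => key a (h1 a ha)) fun b hb => key b (h2 b hb)

theorem nonab {A B P Q S : Subgroup G} {z : G} (h : Amal A B P Q S z) (hc : ∀ x ∈ S, ∀ y ∈ S, x * y = y * x) :
    False := by
  have h1 : S ≤ P := fun s hs => h.hA.cent s (h.SA hs) fun x hx => hc s hs x (h.PS hx)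
  have h2 := Subgroup.card_le_of_le h1
  rw [h.cardS, h.hA.cardP] at h2
  omega

theorem facts {A B P Q S : Subgroup G} {z : G} (h : Amal A B P Q S z) : AmElim.Facts G := by
  have hF : Fact (Nat.Prime 3) := ⟨Nat.prime_three⟩
  have hc : Nat.card G = 27 * S.index := by
    rw [← h.cardS]
    exact (Subgroup.card_mul_index S).symm
  have hi := h.index_mod
  refine ⟨⟨_, hc⟩, ?_, ?_, ?_, ?_, fun x hx => h.good hx, h.exists_t⟩
  · rintro ⟨k, hk⟩
    omega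
  · rw [hc, Nat.mul_div_cancel_left _ (by norm_num)]
    exact hi
  · intro E hE hE3
    by_contra hlt
    push Not at hlt
    have hp : IsPGroup 3 ↥E := by
      intro x
      exact ⟨1, by rw [pow_one]; exact Subtype.ext (hE3 x x.2)⟩
    obtain ⟨T, hT⟩ := hp.exists_le_sylow
    have hcT : Nat.card ↥(T : Subgroup G) = 27 := by
      have h1 := (h.isPGroup.toSylow h.not_dvd).card_eq_multiplicity
      have h2 := T.card_eq_multiplicity
      rw [h2, ← h1]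
      exact h.cardS
    have hcE : Nat.card ↥E = 27 := by
      have h1 : Nat.card ↥E ∣ 27 := by rw [← hcT]; exact Subgroup.card_dvd_of_le hT
      have h2 := Nat.le_of_dvd (by norm_num) h1
      obtain ⟨k, hk⟩ := h1
      have : k ≠ 0 := by rintro rfl; omega
      have : k < 3 := by
        by_contra h3
        have : 9 * 3 < Nat.card ↥E * k := Nat.mul_lt_mul_of_lt_of_le hlt (by omega) (by omega)
        omega
      interval_cases k <;> omega
    have hET : E = (T : Subgroup G) := Subgroup.eq_of_le_of_card_ge hT (by rw [hcE, hcT])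
    obtain ⟨g, hg⟩ := MulAction.exists_smul_eq G T (h.isPGroup.toSylow h.not_dvd)
    refine nonab h fun x hx y hy => ?_
    have hm : ∀ x ∈ S, ∃ e ∈ E, g * e * g⁻¹ = x := by
      intro x hx
      have h1 : x ∈ ((g • T : Sylow 3 G) : Subgroup G) := by rw [hg]; exact hx
      rw [Sylow.coe_subgroup_smul] at h1
      obtain ⟨e, he, he'⟩ := h1
      exact ⟨e, by rw [hET]; exact he, he'⟩
    obtain ⟨e, he, rfl⟩ := hm x hx
    obtain ⟨f, hf, rfl⟩ := hm y hy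
    have h1 : e * f = f * e := congrArg Subtype.val (hE.is_comm.comm (⟨e, he⟩ : ↥E) ⟨f, hf⟩)
    have h2 : ∀ u v : G, g * u * g⁻¹ * (g * v * g⁻¹) = g * (u * v) * g⁻¹ := fun u v => by group
    change g * e * g⁻¹ * (g * f * g⁻¹) = g * f * g⁻¹ * (g * e * g⁻¹)
    rw [h2, h2, h1]
  · exact ⟨P, ⟨⟨fun a b => Subtype.ext (h.hA.comm a a.2 b b.2)⟩⟩, h.hA.exp, by rw [h.hA.cardP]; norm_num⟩

theorem main {A B P Q S : Subgroup G} {z : G} (h : Amal A B P Q S z) :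
    Cfsg.Spor.IsoM12 G ∨ Nonempty (G ≃* Matrix.ProjectiveSpecialLinearGroup (Fin 3) (ZMod 3)) := by
  have := h.simple
  exact AmElim.elim (facts h) fun hc => nonab h fun x _ y _ => hc x y

end Cfsg.Agent.H346.AmStmt
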