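import Cfsg.Agent.H475.KGL.Rows

/-!
# Project KGL, task T8: primitive linear groups with a self-centralising abelian normal subgroup
-/

set_option autoImplicit false

namespace Cfsg.Agent.H346.KGL

open Subgroup Cfsg.Agent.H475.KGL

/-- The class number is at most the order. -/
theorem kc_le_card (G : Type*) [Group G] [Finite G] : kc G ≤ Nat.card G :=
  Nat.card_le_card_of_surjective (ConjClasses.mk : G → ConjClasses G) ConjClasses.mk_surjective

section field

variable {p : ℕ} [Fact p.Prime] {V : Type*} [AddCommGroup V] [Module (ZMod p) V] [Finite V]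

/-- The case of a vector space over a finite field `K` on which `H` acts semilinearly, `A` acting by scalars. -/
theorem prim_abel_field [Nontrivial V] (H : Subgroup (V ≃ₗ[ZMod p] V)) (A : Subgroup (V ≃ₗ[ZMod p] V))
    {K : Type*} [Field K] [Finite K] [Algebra (ZMod p) K] [Module K V]
    [IsScalarTower (ZMod p) K V]
    (σ : (V ≃ₗ[ZMod p] V) → (K →ₐ[ZMod p] K))
    (hσ : ∀ h ∈ H, ∀ (k : K) (v : V), h (k • v) = σ h k • h v)
    (hAK : ∀ a ∈ A, ∃ k : K, ∀ v : V, a v = k • v)
    (hker : ∀ h ∈ H, (∀ (k : K) (v : V), h (k • v) = k • h v) → h ∈ A) : RV H ∨ H475.KGL.Small H := by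
  classical
  have : FiniteDimensional (ZMod p) K := Module.Finite.of_finite
  have : Module.Finite K V := Module.Finite.of_finite
  have hpos : 0 < Module.finrank K V := Module.finrank_pos
  have : Finite (V ≃ₗ[ZMod p] V) := Finite.of_injective (fun f => (f : V → V)) DFunLike.coe_injective
  have : Finite (K →ₐ[ZMod p] K) := Finite.of_injective (fun f => (f : K → K)) DFunLike.coe_injective
  rcases Nat.lt_or_ge 1 (Module.finrank K V) with h2 | h1
  · -- dimension at least two
    right
    intro N hN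
    set e := Module.finrank (ZMod p) K with he
    set q := Nat.card K with hq
    have hqe : q = p ^ e := by
      rw [hq, Module.natCard_eq_pow_finrank (K := ZMod p) (V := K), Nat.card_zmod]
    have hV : Nat.card V = q ^ Module.finrank K V := by
      rw [Module.natCard_eq_pow_finrank (K := K) (V := V)]
    have hepos : 0 < e := Module.finrank_pos
    have hp2 : 2 ≤ p := (Fact.out : p.Prime).two_le
    have h2e : 2 * e ≤ q := by
      have h3 : e - 1 < 2 ^ (e - 1) := Nat.lt_two_pow_self
      have h4 : 2 ^ e = 2 * 2 ^ (e - 1) := by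
        rw [← pow_succ']
        congr 1
        omega
      have h5 : 2 ^ e ≤ p ^ e := Nat.pow_le_pow_left hp2 e
      omega
    have hAcard : Nat.card A ≤ q - 1 := by
      choose f hf using hAK
      have hf0 : ∀ (a : V ≃ₗ[ZMod p] V) (ha : a ∈ A), f a ha ≠ 0 := by
        intro a ha h0
        obtain ⟨v, hv⟩ := exists_ne (0 : V)
        have h1 := hf a ha v
        rw [h0, zero_smul] at h1
        exact hv (by simpa using h1)
      have hinj : Function.Injective (fun a : A => (Units.mk0 (f a.1 a.2) (hf0 a.1 a.2) : Kˣ)) := by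
        intro a b hab
        have h1 : f a.1 a.2 = f b.1 b.2 := by
          have := congrArg Units.val hab
          simpa using this
        apply Subtype.ext
        apply LinearEquiv.ext
        intro v
        rw [hf a.1 a.2 v, hf b.1 b.2 v, h1]
      have h2 := Nat.card_le_card_of_injective _ hinj
      have h3 : Nat.card Kˣ = q - 1 := by
        have := Fintype.ofFinite K
        rw [Nat.card_eq_fintype_card, Fintype.card_units, hq, Nat.card_eq_fintype_card]
      omega
    have hEnd : Nat.card (K →ₐ[ZMod p] K) ≤ e := card_algHom_le_finrank (ZMod p) K K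
    have hHcard : Nat.card H ≤ Nat.card A * Nat.card (K →ₐ[ZMod p] K) := by
      -- representatives
      let r : (K →ₐ[ZMod p] K) → (V ≃ₗ[ZMod p] V) := fun τ =>
        if h : ∃ g ∈ H, σ g = τ then h.choose else 1
      have hr : ∀ g ∈ H, r (σ g) ∈ H ∧ σ (r (σ g)) = σ g := by
        intro g hg
        have hex : ∃ g' ∈ H, σ g' = σ g := ⟨g, hg, rfl⟩
        have : r (σ g) = hex.choose := dif_pos hex
        rw [this]
        exact hex.choose_spec
      have hmem : ∀ g ∈ H, (r (σ g))⁻¹ * g ∈ A := by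
        intro g hg
        obtain ⟨h1, h2⟩ := hr g hg
        apply hker _ (H.mul_mem (H.inv_mem h1) hg)
        intro k v
        change (r (σ g)).symm (g (k • v)) = k • (r (σ g)).symm (g v)
        rw [LinearEquiv.symm_apply_eq, hσ g hg, hσ _ h1, LinearEquiv.apply_symm_apply, h2]
      have hinj : Function.Injective (fun g : H =>
          ((⟨(r (σ g.1))⁻¹ * g.1, hmem g.1 g.2⟩ : A), σ g.1)) := by
        intro g g' hgg
        have h1 := congrArg Prod.snd hgg
        have h2 := congrArg (fun x => (x.1 : V ≃ₗ[ZMod p] V)) hgg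
        simp only at h1 h2
        rw [h1] at h2
        exact Subtype.ext (mul_left_cancel h2)
      have h2 := Nat.card_le_card_of_injective _ hinj
      rwa [Nat.card_prod] at h2
    have hNH : Nat.card N ≤ Nat.card H := Nat.card_le_card_of_injective _ (Subgroup.inclusion_injective hN.1)
    have hkN : kc N ≤ Nat.card N := kc_le_card N
    have hq1 : 1 ≤ q := Nat.card_pos
    calc 2 * kc N ≤ 2 * Nat.card H := by omega
      _ ≤ 2 * ((q - 1) * e) := by
          refine Nat.mul_le_mul_left 2 (hHcard.trans (Nat.mul_le_mul hAcard hEnd))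
      _ = (q - 1) * (2 * e) := by ring
      _ ≤ q * q := Nat.mul_le_mul (Nat.sub_le q 1) h2e
      _ = q ^ 2 := by ring
      _ ≤ q ^ Module.finrank K V := Nat.pow_le_pow_right hq1 h2
      _ = Nat.card V := hV.symm
  · -- dimension one
    left
    have h1' : Module.finrank K V = 1 := by omega
    obtain ⟨w, hw0, hw⟩ := finrank_eq_one_iff'.mp h1'
    choose c hc using hw
    have huniq : ∀ (k : K) (v : V), k • w = v → k = c v := by
      intro k v hk
      rw [← hc v] at hk
      exact smul_left_injective K hw0 hk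
    have hadd : ∀ u v, c (u + v) = c u + c v := by
      intro u v
      symm
      apply huniq
      rw [add_smul, hc, hc]
    refine ⟨w, ⊤, fun u v => Algebra.trace (ZMod p) K (c u * c v), top_ne_bot, ?_, ?_, ?_, ?_, ?_, ?_⟩
    · intro h _ _ u _
      exact Submodule.mem_top
    · intro h _ _ hu
      apply LinearEquiv.ext
      intro u
      exact hu u Submodule.mem_top
    · intro u _ u' _ x _
      simp only
      rw [hadd, add_mul, map_add]
    · intro u _ x _ x' _
      simp only
      rw [hadd, mul_add, map_add]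
    · intro h hh hhw u _ x _
      have key : ∀ v, c (h v) = σ h (c v) := by
        intro v
        symm
        apply huniq
        conv_rhs => rw [← hc v, hσ h hh, hhw]
      simp only
      rw [key, key, ← map_mul]
      have hbij : Function.Bijective (σ h) := AlgHom.bijective (σ h)
      have := Algebra.trace_eq_of_algEquiv (AlgEquiv.ofBijective (σ h) hbij) (c u * c x)
      simpa using this
    · intro u _ hu
      have h0 : c u = 0 := by
        have hnd := traceForm_nondegenerate (ZMod p) K
        by_contra hne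
        obtain ⟨y, hy⟩ : ∃ y : K, Algebra.trace (ZMod p) K (c u * y) ≠ 0 := by
          by_contra hall
          push Not at hall
          apply hne
          apply hnd.1
          intro y
          simpa [Algebra.traceForm_apply] using hall y
        apply hy
        have := hu (y • w) Submodule.mem_top
        simp only at this
        rwa [← huniq y (y • w) rfl] at this
      rw [← hc u, h0, zero_smul]

end field

section algebra

variable {p : ℕ} {V : Type*} [AddCommGroup V] [Module (ZMod p) V]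

/-- The algebra generated by `A`. -/
def KA (A : Subgroup (V ≃ₗ[ZMod p] V)) : Subalgebra (ZMod p) (Module.End (ZMod p) V) :=
  Algebra.adjoin (ZMod p) {f | ∃ a ∈ A, f = (a : V →ₗ[ZMod p] V)}

theorem mem_KA {A : Subgroup (V ≃ₗ[ZMod p] V)} {a : V ≃ₗ[ZMod p] V} (ha : a ∈ A) :
    (a : V →ₗ[ZMod p] V) ∈ KA A := Algebra.subset_adjoin ⟨a, ha, rfl⟩

theorem KA_comm {A : Subgroup (V ≃ₗ[ZMod p] V)} (hab : ∀ a ∈ A, ∀ b ∈ A, a * b = b * a)
    {x y : Module.End (ZMod p) V} (hx : x ∈ KA A) (hy : y ∈ KA A) : x * y = y * x := by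
  have h1 : ∀ a ∈ A, (a : V →ₗ[ZMod p] V) ∈ Subalgebra.centralizer (ZMod p) (KA A : Set (Module.End (ZMod p) V)) := by
    intro a ha
    rw [Subalgebra.mem_centralizer_iff]
    intro z hz
    have h2 : KA A ≤ Subalgebra.centralizer (ZMod p) {(a : V →ₗ[ZMod p] V)} := by
      refine Algebra.adjoin_le ?_
      rintro _ ⟨b, hb, rfl⟩
      rw [SetLike.mem_coe, Subalgebra.mem_centralizer_iff]
      rintro _ rfl
      exact congrArg (fun g : V ≃ₗ[ZMod p] V => (g : V →ₗ[ZMod p] V)) (hab a ha b hb)
    have h3 := h2 hz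
    rw [Subalgebra.mem_centralizer_iff] at h3
    exact (h3 _ rfl).symm
  have h2 : KA A ≤ Subalgebra.centralizer (ZMod p) (KA A : Set (Module.End (ZMod p) V)) := by
    refine Algebra.adjoin_le ?_
    rintro _ ⟨b, hb, rfl⟩
    exact h1 b hb
  have h3 := h2 hy
  rw [Subalgebra.mem_centralizer_iff] at h3
  exact h3 x hx

/-- Conjugation by `h` as an algebra automorphism of `End V`. -/
def cj (h : V ≃ₗ[ZMod p] V) : Module.End (ZMod p) V ≃ₐ[ZMod p] Module.End (ZMod p) V :=
  LinearEquiv.conjAlgEquiv (ZMod p) h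

theorem cj_apply (h : V ≃ₗ[ZMod p] V) (x : Module.End (ZMod p) V) (v : V) : cj h x v = h (x (h.symm v)) := rfl

theorem cj_inv_cj (h : V ≃ₗ[ZMod p] V) (x : Module.End (ZMod p) V) : cj h⁻¹ (cj h x) = x := by
  ext v
  rw [cj_apply, cj_apply]
  change h.symm (h (x (h.symm (h v)))) = x v
  simp

theorem cj_cj_inv (h : V ≃ₗ[ZMod p] V) (x : Module.End (ZMod p) V) : cj h (cj h⁻¹ x) = x := by
  have := cj_inv_cj h⁻¹ x
  rwa [inv_inv] at this

theorem cj_mem {H A : Subgroup (V ≃ₗ[ZMod p] V)} (hA : A ≤ H) (hn : (A.subgroupOf H).Normal)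
    {h : V ≃ₗ[ZMod p] V} (hh : h ∈ H) {x : Module.End (ZMod p) V} (hx : x ∈ KA A) : cj h x ∈ KA A := by
  have h1 : KA A ≤ (KA A).comap ((cj h : Module.End (ZMod p) V ≃ₐ[ZMod p] Module.End (ZMod p) V) :
      Module.End (ZMod p) V →ₐ[ZMod p] Module.End (ZMod p) V) := by
    refine Algebra.adjoin_le ?_
    rintro _ ⟨a, ha, rfl⟩
    have h2 : h * a * h⁻¹ ∈ A := hn.conj_mem ⟨a, hA ha⟩ ha ⟨h, hh⟩
    exact mem_KA h2
  exact h1 hx

variable [Finite V]

theorem exists_idem [Nontrivial V] (A : Subgroup (V ≃ₗ[ZMod p] V)) (hab : ∀ a ∈ A, ∀ b ∈ A, a * b = b * a) :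
    ∃ e ∈ KA A, e * e = e ∧ e ≠ 0 ∧ ∀ f ∈ KA A, f * f = f → e * f = 0 ∨ e * f = e := by
  have : Finite (Module.End (ZMod p) V) := Finite.of_injective (fun f => (f : V → V)) DFunLike.coe_injective
  let S : Set (Module.End (ZMod p) V) := {e | e ∈ KA A ∧ e * e = e ∧ e ≠ 0}
  have hS : S.Nonempty := ⟨1, (KA A).one_mem, mul_one _, one_ne_zero⟩
  obtain ⟨e, ⟨heK, hee, he0⟩, hmin⟩ := Set.exists_min_image S (fun e => Nat.card (LinearMap.range e)) S.toFinite hS
  refine ⟨e, heK, hee, he0, fun f hfK hff => ?_⟩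
  by_cases h0 : e * f = 0
  · exact Or.inl h0
  right
  have hcomm := KA_comm hab heK hfK
  have hgg : (e * f) * (e * f) = e * f := by
    calc (e * f) * (e * f) = e * (f * e) * f := by noncomm_ring
      _ = e * (e * f) * f := by rw [hcomm]
      _ = (e * e) * (f * f) := by noncomm_ring
      _ = e * f := by rw [hee, hff]
  have hle := hmin (e * f) ⟨(KA A).mul_mem heK hfK, hgg, h0⟩
  have hsub : LinearMap.range (e * f) ≤ LinearMap.range e := by
    rintro _ ⟨v, rfl⟩
    exact ⟨f v, rfl⟩
  have heq : LinearMap.range (e * f) = LinearMap.range e := by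
    apply SetLike.coe_injective
    exact Set.eq_of_subset_of_ncard_le hsub (by
      rw [← Nat.card_coe_set_eq, ← Nat.card_coe_set_eq]; exact hle) (Set.toFinite _)
  ext v
  have hv : e v ∈ LinearMap.range (e * f) := by rw [heq]; exact ⟨v, rfl⟩
  obtain ⟨u, hu⟩ := hv
  have h1 : (e * f) * e = e * f := by
    rw [mul_assoc, ← hcomm, ← mul_assoc, hee]
  calc (e * f) v = ((e * f) * e) v := by rw [h1]
    _ = (e * f) (e v) := rfl
    _ = (e * f) ((e * f) u) := by rw [hu]
    _ = ((e * f) * (e * f)) u := rfl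
    _ = e v := by rw [hgg, hu]

/-- The only idempotents are trivial. -/
theorem idem_trivial {H A : Subgroup (V ≃ₗ[ZMod p] V)} (hP : Prim H) (hA : A ≤ H)
    (hn : (A.subgroupOf H).Normal) (hab : ∀ a ∈ A, ∀ b ∈ A, a * b = b * a)
    {f : Module.End (ZMod p) V} (hf : f ∈ KA A) (hff : f * f = f) : f = 0 ∨ f = 1 := by
  have := hP.1
  obtain ⟨e, heK, hee, he0, hmin⟩ := exists_idem A hab
  have hcjK : ∀ h ∈ H, cj h e ∈ KA A := fun h hh => cj_mem hA hn hh heK
  have hcj0 : ∀ h ∈ H, cj h e * cj h e = cj h e := fun h _ => by rw [← map_mul, hee]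
  have hcjmin : ∀ h ∈ H, ∀ g ∈ KA A, g * g = g → cj h e * g = 0 ∨ cj h e * g = cj h e := by
    intro h hh g hg hgg
    have h1 := hmin (cj h⁻¹ g) (cj_mem hA hn (H.inv_mem hh) hg) (by rw [← map_mul, hgg])
    rcases h1 with h1 | h1
    · left
      have h2 := congrArg (cj h) h1
      rwa [map_mul, cj_cj_inv, map_zero] at h2
    · right
      have h2 := congrArg (cj h) h1
      rwa [map_mul, cj_cj_inv] at h2
  have hrange : ∀ h ∈ H, (LinearMap.range e).map (h : V →ₗ[ZMod p] V) = LinearMap.range (cj h e) := by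
    intro h _
    ext v
    constructor
    · rintro ⟨_, ⟨u, rfl⟩, rfl⟩
      refine ⟨h u, ?_⟩
      rw [cj_apply]
      simp
    · rintro ⟨u, rfl⟩
      exact ⟨_, ⟨h.symm u, rfl⟩, rfl⟩
  have hblock : Block H (LinearMap.range e) := by
    refine ⟨fun h => he0 (LinearMap.range_eq_bot.mp h), ?_⟩
    rintro Y ⟨h, hh, rfl⟩
    rw [hrange h hh]
    have hle : sSup (trans H (LinearMap.range e) \ {LinearMap.range (cj h e)}) ≤ LinearMap.ker (cj h e) := by
      apply sSup_le
      rintro _ ⟨⟨k, hk, rfl⟩, hne⟩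
      rw [hrange k hk] at hne ⊢
      have hne' : cj k e ≠ cj h e := by
        intro heq
        apply hne
        rw [heq]
        rfl
      have h0 : cj h e * cj k e = 0 := by
        rcases hcjmin h hh _ (hcjK k hk) (hcj0 k hk) with h1 | h1
        · exact h1
        rcases hcjmin k hk _ (hcjK h hh) (hcj0 h hh) with h2 | h2
        · rw [KA_comm hab (hcjK h hh) (hcjK k hk), h2]
        · exfalso
          apply hne'
          rw [← h1, KA_comm hab (hcjK h hh) (hcjK k hk), h2]
      rintro _ ⟨u, rfl⟩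
      rw [LinearMap.mem_ker]
      exact congrArg (fun g : Module.End (ZMod p) V => g u) h0
    rw [disjoint_iff_inf_le]
    refine le_trans (inf_le_inf_left _ hle) ?_
    rintro _ ⟨⟨u, rfl⟩, hu⟩
    rw [SetLike.mem_coe, LinearMap.mem_ker] at hu
    have h1 : cj h e (cj h e u) = cj h e u := congrArg (fun g : Module.End (ZMod p) V => g u) (hcj0 h hh)
    rw [Submodule.mem_bot, ← h1, hu]
  have htop := hP.2.2 _ hblock
  have he1 : e = 1 := by
    ext v
    have hv : v ∈ LinearMap.range e := by rw [htop]; exact Submodule.mem_top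
    obtain ⟨u, rfl⟩ := hv
    exact congrArg (fun g : Module.End (ZMod p) V => g u) hee
  have := hmin f hf hff
  rwa [he1, one_mul] at this

/-- In a finite monoid every element has an idempotent power. -/
theorem exists_pow_idem {M : Type*} [Monoid M] [Finite M] (x : M) :
    ∃ n : ℕ, 1 ≤ n ∧ x ^ n * x ^ n = x ^ n := by
  obtain ⟨m, n, hmn, h⟩ := Finite.exists_ne_map_eq_of_infinite (fun n : ℕ => x ^ n)
  wlog hlt : m < n generalizing m n
  · exact this n m hmn.symm h.symm (by omega)
  obtain ⟨d, rfl⟩ : ∃ d, n = m + d := ⟨n - m, by omega⟩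
  have hd : 0 < d := by omega
  -- x ^ (m + k + j * d) = x ^ (m + k)
  have hper : ∀ j k : ℕ, x ^ (m + k + j * d) = x ^ (m + k) := by
    intro j
    induction j with
    | zero => intro k; simp
    | succ j ih =>
      intro k
      have h1 : m + k + (j + 1) * d = (m + d) + (k + j * d) := by ring
      have h2 : m + k + j * d = m + (k + j * d) := by ring
      rw [h1, pow_add, ← h, ← pow_add, ← h2, ih]
  refine ⟨(m + 1) * d, Nat.mul_pos (by omega) hd, ?_⟩
  rw [← pow_add]
  have hge : m ≤ (m + 1) * d := by nlinarith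
  obtain ⟨k, hk⟩ : ∃ k, (m + 1) * d = m + k := ⟨(m + 1) * d - m, by omega⟩
  have := hper (m + 1) k
  rw [← hk] at this
  exact this

/-- Nilpotent elements of `KA A` are zero. -/
theorem nil_zero {H A : Subgroup (V ≃ₗ[ZMod p] V)} (hP : Prim H) (hA : A ≤ H)
    (hn : (A.subgroupOf H).Normal) (hab : ∀ a ∈ A, ∀ b ∈ A, a * b = b * a)
    {x : Module.End (ZMod p) V} (hx : x ∈ KA A) (hxn : IsNilpotent x) : x = 0 := by
  have := hP.1
  -- the common kernel
  let W : Submodule (ZMod p) V :=
    { carrier := {v | ∀ y ∈ KA A, IsNilpotent y → y v = 0}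
      add_mem' := by
        intro a b ha hb y hy hyn
        rw [map_add, ha y hy hyn, hb y hy hyn, add_zero]
      zero_mem' := by
        intro y _ _
        exact map_zero y
      smul_mem' := by
        intro c a ha y hy hyn
        rw [map_smul, ha y hy hyn, smul_zero] }
  have hW : ∀ g ∈ H, ∀ u ∈ W, g u ∈ W := by
    intro g hg u hu y hy hyn
    have h1 := hu (cj g⁻¹ y) (cj_mem hA hn (H.inv_mem hg) hy) (hyn.map (cj g⁻¹))
    rw [cj_apply] at h1
    change g.symm (y (g u)) = 0 at h1
    rwa [LinearEquiv.map_eq_zero_iff] at h1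
  rcases hP.2.1 W hW with hbot | htop
  · exfalso
    -- a nonzero vector with minimal orbit
    let orb : V → Set V := fun v => {u | ∃ y ∈ KA A, u = y v}
    obtain ⟨v, hv0, hmin⟩ := Set.exists_min_image {v : V | v ≠ 0} (fun v => (orb v).ncard) (Set.toFinite _)
      (exists_ne (0 : V))
    have hvW : v ∈ W := by
      intro y hy hyn
      by_contra hne
      have hsub : orb (y v) ⊆ orb v := by
        rintro _ ⟨z, hz, rfl⟩
        exact ⟨z * y, (KA A).mul_mem hz hy, rfl⟩
      have heq : orb (y v) = orb v := Set.eq_of_subset_of_ncard_le hsub (hmin _ hne) (Set.toFinite _)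
      have hvm : v ∈ orb v := ⟨1, (KA A).one_mem, rfl⟩
      rw [← heq] at hvm
      obtain ⟨z, hz, hzv⟩ := hvm
      obtain ⟨n, hn0⟩ := hyn
      have hcm : Commute z y := KA_comm hab hz hy
      have h1 : ∀ k : ℕ, ((z * y) ^ k) v = v := by
        intro k
        induction k with
        | zero => simp
        | succ k ih =>
          rw [pow_succ]
          change ((z * y) ^ k) (z (y v)) = v
          rw [← hzv, ih]
      have h2 := h1 n
      rw [hcm.mul_pow, hn0, mul_zero] at h2
      exact hv0 h2.symm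
    rw [hbot, Submodule.mem_bot] at hvW
    exact hv0 hvW
  · ext v
    have hv : v ∈ W := by rw [htop]; exact Submodule.mem_top
    exact hv x hx hxn

theorem KA_inv {H A : Subgroup (V ≃ₗ[ZMod p] V)} (hP : Prim H) (hA : A ≤ H)
    (hn : (A.subgroupOf H).Normal) (hab : ∀ a ∈ A, ∀ b ∈ A, a * b = b * a)
    {x : Module.End (ZMod p) V} (hx : x ∈ KA A) (hx0 : x ≠ 0) : ∃ y ∈ KA A, x * y = 1 := by
  have : Finite (Module.End (ZMod p) V) := Finite.of_injective (fun f => (f : V → V)) DFunLike.coe_injective
  obtain ⟨n, hn1, hnn⟩ := exists_pow_idem x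
  rcases idem_trivial hP hA hn hab ((KA A).pow_mem hx n) hnn with h | h
  · exact absurd (nil_zero hP hA hn hab hx ⟨n, h⟩) hx0
  · refine ⟨x ^ (n - 1), (KA A).pow_mem hx _, ?_⟩
    rw [← pow_succ', Nat.sub_add_cancel hn1, h]

end algebra

/-- Task T8 of project KGL: a primitive linear group with a self-centralising abelian normal subgroup has a real
vector or is small. -/
theorem prim_abel {p : ℕ} [Fact p.Prime] {V : Type*} [AddCommGroup V] [Module (ZMod p) V] [Finite V] [Nontrivial V]
    (H : Subgroup (V ≃ₗ[ZMod p] V)) (hH : ¬ p ∣ Nat.card H) (hP : Prim H)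
    (A : Subgroup (V ≃ₗ[ZMod p] V)) (hA : A ≤ H) (hn : (A.subgroupOf H).Normal)
    (hab : ∀ a ∈ A, ∀ b ∈ A, a * b = b * a)
    (hc : ∀ h ∈ H, (∀ a ∈ A, h * a = a * h) → h ∈ A) : RV H ∨ H475.KGL.Small H := by
  classical
  have : Finite (Module.End (ZMod p) V) := Finite.of_injective (fun f => (f : V → V)) DFunLike.coe_injective
  have hF : IsField (KA A) :=
    { exists_pair_ne := ⟨0, 1, zero_ne_one⟩
      mul_comm := fun x y => Subtype.ext (KA_comm hab x.2 y.2)
      mul_inv_cancel := by
        intro x hx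
        obtain ⟨y, hy, hxy⟩ := KA_inv hP hA hn hab x.2 (fun h => hx (Subtype.ext h))
        exact ⟨⟨y, hy⟩, Subtype.ext hxy⟩ }
  let _ : Field (KA A) := hF.toField
  let σ : (V ≃ₗ[ZMod p] V) → (KA A →ₐ[ZMod p] KA A) := fun h =>
    if hh : h ∈ H then
      (((cj h : Module.End (ZMod p) V ≃ₐ[ZMod p] Module.End (ZMod p) V) :
        Module.End (ZMod p) V →ₐ[ZMod p] Module.End (ZMod p) V).comp (KA A).val).codRestrict (KA A)
          (fun x => cj_mem hA hn hh x.2)
    else AlgHom.id _ _
  refine prim_abel_field H A (K := KA A) σ ?_ ?_ ?_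
  · intro h hh k v
    have hσ : σ h = _ := dif_pos hh
    rw [hσ]
    change h (k.1 v) = h (k.1 (h.symm (h v)))
    simp
  · intro a ha
    exact ⟨⟨a, mem_KA ha⟩, fun v => rfl⟩
  · intro h hh hk
    apply hc h hh
    intro a ha
    apply LinearEquiv.ext
    intro v
    exact hk ⟨a, mem_KA ha⟩ v

end Cfsg.Agent.H346.KGL
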