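import Cfsg.Agent.H403.LinLift
import Cfsg.Agent.H373.C2

/-!
# Element orders of `GL_n(2)` (helper346)

* `orderOf_le` : orders are at most `2 ^ n - 1`;
* `no_two`, `no_four` : no elements of order `2 t`, `4 t`, `t` a prime power, `2` of order `i` modulo `t`, `n ≤ i + 1`, `n ≤ i + 2`;
* `no_two_torus`, `no_four_torus` : no elements of order `2 (2 ^ m + 1)`, `n ≤ 2 m + 1`, resp. `4 (2 ^ m + 1)`, `n ≤ 2 m + 2`;
* `pslGL` : `PSL_n(2) ≃ GL_n(2)`.
-/

set_option autoImplicit false
set_option linter.unusedSectionVars false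
set_option linter.unusedVariables false

namespace Cfsg.Agent.H346.LNOrd

open Matrix Cfsg.Agent.H403 Polynomial

variable {F : Type*} [Field F] [Fintype F] {n : ℕ}

theorem charP_two (hF : Fintype.card F = 2) : CharP F 2 := by
  obtain ⟨p, hp⟩ := CharP.exists F
  obtain ⟨k, hpp, hk⟩ := FiniteField.card F p
  rw [hF] at hk
  have h1 : p ∣ 2 := by rw [hk]; exact dvd_pow_self p k.2.ne'
  have h2 : p = 2 := (Nat.prime_dvd_prime_iff_eq hpp Nat.prime_two).1 h1
  rwa [h2] at hp

theorem eq_one_of_ne_zero (hF : Fintype.card F = 2) {c : F} (hc : c ≠ 0) : c = 1 := by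
  have h1 := FiniteField.pow_card_sub_one_eq_one c hc
  rwa [hF, pow_one] at h1

/-! ### the size -/

/-- **Orders are at most `2 ^ n - 1`.** -/
theorem orderOf_le (hF : Fintype.card F = 2) (hn : n ≠ 0) (g : GL (Fin n) F) : orderOf g ≤ 2 ^ n - 1 := by
  classical
  have : NeZero n := ⟨hn⟩
  set M : Matrix (Fin n) (Fin n) F := g.val with hM
  set χ := M.charpoly with hχ
  have hmon : χ.Monic := M.charpoly_monic
  have hdeg : χ.natDegree = n := by rw [hχ, Matrix.charpoly_natDegree_eq_dim, Fintype.card_fin]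
  -- the map `k ↦ X ^ k mod χ`
  let r : Fin (orderOf g) → Polynomial.degreeLT F n := fun k => ⟨X ^ (k : ℕ) %ₘ χ, by
    rw [Polynomial.mem_degreeLT]
    refine (degree_modByMonic_lt _ hmon).trans_le ?_
    rw [Polynomial.degree_eq_natDegree hmon.ne_zero, hdeg]⟩
  have hr : ∀ k, aeval M ((r k : Polynomial.degreeLT F n) : F[X]) = M ^ (k : ℕ) := by
    intro k
    have h1 := Polynomial.modByMonic_add_div (X ^ (k : ℕ) : F[X]) χ
    have h2 := congrArg (aeval M) h1
    rw [map_add, map_mul, hχ, Matrix.aeval_self_charpoly, zero_mul, add_zero, map_pow, aeval_X] at h2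
    exact h2
  have hinj : Function.Injective r := by
    intro a b hab
    have h1 : M ^ (a : ℕ) = M ^ (b : ℕ) := by rw [← hr, ← hr, hab]
    have h2 : g ^ (a : ℕ) = g ^ (b : ℕ) := by
      apply Units.ext
      rw [Units.val_pow_eq_pow_val, Units.val_pow_eq_pow_val]
      exact h1
    exact Fin.ext (pow_injOn_Iio_orderOf a.2 b.2 h2)
  have hne : ∀ k, r k ≠ 0 := by
    intro k hk
    have h1 := hr k
    rw [hk] at h1
    have h2 : (0 : Matrix (Fin n) (Fin n) F) = M ^ (k : ℕ) := by
      rw [← h1]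
      exact (map_zero (aeval M)).symm
    have h3 : IsUnit (M ^ (k : ℕ)) := (Units.isUnit g).pow _
    rw [← h2] at h3
    exact not_isUnit_zero h3
  have : Fintype (Polynomial.degreeLT F n) := Fintype.ofEquiv _ (Polynomial.degreeLTEquiv F n).symm.toEquiv
  have hcard : Fintype.card (Polynomial.degreeLT F n) = 2 ^ n := by
    rw [Fintype.card_congr (Polynomial.degreeLTEquiv F n).toEquiv, Fintype.card_fun, hF, Fintype.card_fin]
  have h1 : (Finset.univ.image r) ⊆ Finset.univ.erase 0 := by
    intro x hx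
    obtain ⟨k, -, rfl⟩ := Finset.mem_image.1 hx
    exact Finset.mem_erase.2 ⟨hne k, Finset.mem_univ _⟩
  have h2 := Finset.card_le_card h1
  rw [Finset.card_image_of_injective _ hinj, Finset.card_univ, Fintype.card_fin, Finset.card_erase_of_mem (Finset.mem_univ _),
    Finset.card_univ, hcard] at h2
  exact h2

/-! ### eigenvalues -/

section ev

variable {E : Type*} [Field E] [IsAlgClosed E] [Algebra F E]

theorem cl_of_unit (hF : Fintype.card F = 2) {M : Matrix (Fin n) (Fin n) F} (hM : IsUnit M) : Cl 2 (evs E M) := by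
  refine ⟨?_, ?_, zero_notMem_evs E _ hM⟩
  · exact inj_xv (F := F) (E := E) (q := 2) (t := 0) (by rw [hF, pow_one]) true
  · have h := evs_frob E M
    rw [hF] at h
    conv_rhs => rw [← h]
    refine Multiset.map_congr rfl fun y _ => ?_
    exact zpow_natCast y 2

theorem count_pow [DecidableEq E] {x : ℤ} {R : Multiset E} (h : Cl x R) (y : E) (j : ℕ) :
    R.count (y ^ (x ^ j)) = R.count y := by
  induction j with
  | zero => simp
  | succ j ih =>
    rw [← ih, pow_succ, _root_.zpow_mul]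
    conv_lhs => rw [← h.map]
    exact Multiset.count_map_eq_count' (fun y : E => y ^ x) R h.inj (y ^ (x ^ j))

/-- bounds for the multiplicities -/
theorem count_le [DecidableEq E] {x : ℤ} {R : Multiset E} (h : Cl x R) {y : E} (hy : y ∈ R) (z : E) :
    (z ∈ orb x y ∧ per x y * R.count z ≤ Multiset.card R) ∨ per x y + R.count z ≤ Multiset.card R := by
  by_cases hz : z ∈ orb x y
  · left
    refine ⟨hz, ?_⟩
    have h1 : R.count z • orb x y ≤ R := by
      rw [Multiset.le_iff_count]
      intro w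
      rw [Multiset.count_nsmul]
      by_cases hw : w ∈ orb x y
      · rw [Multiset.count_eq_one_of_mem (orb_nodup x y) hw, mul_one]
        obtain ⟨i, rfl⟩ := mem_orb hz
        obtain ⟨j, rfl⟩ := mem_orb hw
        rw [count_pow h, count_pow h]
      · rw [Multiset.count_eq_zero_of_notMem hw, mul_zero]
        exact Nat.zero_le _
    have h2 := Multiset.card_le_card h1
    rw [Multiset.card_nsmul, card_orb, mul_comm] at h2
    exact h2
  · right
    have h1 : orb x y + Multiset.replicate (R.count z) z ≤ R := by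
      rw [Multiset.le_iff_count]
      intro w
      rw [Multiset.count_add, Multiset.count_replicate]
      by_cases hw : w ∈ orb x y
      · rw [Multiset.count_eq_one_of_mem (orb_nodup x y) hw]
        have hzw : z ≠ w := fun h => hz (h ▸ hw)
        rw [if_neg hzw]
        obtain ⟨j, rfl⟩ := mem_orb hw
        exact Multiset.one_le_count_iff_mem.2 (h.mem_pow hy j)
      · rw [Multiset.count_eq_zero_of_notMem hw, zero_add]
        split_ifs with hzw
        · rw [hzw]
        · exact Nat.zero_le _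
    have h2 := Multiset.card_le_card h1
    rw [Multiset.card_add, card_orb, Multiset.card_replicate] at h2
    exact h2

end ev

/-- The main count: an element of order `2 ^ b * t`, `t = p ^ a`, in `GL_n(2)`. -/
theorem pow_eq_one (hF : Fintype.card F = 2) {g : GL (Fin n) F} {b p a i c : ℕ} (hp : p.Prime)
    (hp2 : p ≠ 2) (ha : a ≠ 0) (hi : orderOf (2 : ZMod (p ^ a)) = i) (hi2 : 2 ≤ i)
    (hg : orderOf g = 2 ^ b * p ^ a) (h1 : n < i * (2 ^ c + 1)) (h2 : n ≤ i + 2 ^ c) : g ^ (p ^ a * 2 ^ c) = 1 := by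
  classical
  have : Fact (Nat.Prime 2) := ⟨Nat.prime_two⟩
  have hchar := charP_two hF
  set M : Matrix (Fin n) (Fin n) F := g.val with hM
  let E := AlgebraicClosure F
  have hcharE : CharP E 2 := charP_of_injective_algebraMap (algebraMap F E).injective 2
  have hu : IsUnit M := Units.isUnit g
  have hcl : Cl 2 (evs E M) := cl_of_unit hF hu
  have hcard : Multiset.card (evs E M) = n := by rw [card_evs, Fintype.card_fin]
  have hpow : ∀ k : ℕ, M ^ k = ((g ^ k : GL (Fin n) F) : Matrix (Fin n) (Fin n) F) := fun k => (Units.val_pow_eq_pow_val g k).symm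
  -- eigenvalues
  have hinj : ∀ (k : ℕ) (y : E), y ^ 2 ^ k = 1 → y = 1 := by
    intro k y hy
    have h3 : iterateFrobenius E 2 k y = iterateFrobenius E 2 k 1 := by
      rw [iterateFrobenius_def, hy, map_one]
    exact (iterateFrobenius E 2 k).injective h3
  have hev : ∀ y ∈ evs E M, y ^ p ^ a = 1 := by
    intro y hy
    apply hinj b
    have h3 : M ^ (p ^ a * 2 ^ b) = (1 : F) • (1 : Matrix (Fin n) (Fin n) F) := by
      rw [hpow, one_smul, mul_comm, ← hg, pow_orderOf_eq_one, Units.val_one]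
    have h4 := pow_of_mem_evs E h3 hy
    rw [map_one, pow_mul] at h4
    exact h4
  -- an eigenvalue of order `p ^ a`
  obtain ⟨y, hy, hy1⟩ : ∃ y ∈ evs E M, y ^ p ^ (a - 1) ≠ 1 := by
    by_contra hcon
    push Not at hcon
    have h3 := pow_eq_one_of_evs E 2 M (p ^ (a - 1)) n hcon (fun x => (Multiset.count_le_card x _).trans
      (by rw [hcard]; exact Nat.lt_two_pow_self.le))
    have h4 : g ^ (p ^ (a - 1) * 2 ^ n) = 1 := by
      apply Units.ext
      rw [← hpow, h3, Units.val_one]
    have h5 := orderOf_dvd_of_pow_eq_one h4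
    rw [hg] at h5
    have h6 : p ^ a ∣ p ^ (a - 1) * 2 ^ n := (Dvd.intro_left _ rfl).trans h5
    have h7 : Nat.Coprime (p ^ a) (2 ^ n) := Nat.Coprime.pow _ _ ((Nat.coprime_primes hp Nat.prime_two).2 hp2)
    have h8 := h7.dvd_of_dvd_mul_right h6
    have h9 := (Nat.pow_dvd_pow_iff_le_right hp.one_lt).1 h8
    omega
  have hyo : orderOf y = p ^ a := by
    have h3 : orderOf y ∣ p ^ a := orderOf_dvd_of_pow_eq_one (hev y hy)
    obtain ⟨j, hj, hj'⟩ := (Nat.dvd_prime_pow hp).1 h3
    rcases Nat.lt_or_ge j a with h4 | h4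
    · exfalso
      apply hy1
      rw [← orderOf_dvd_iff_pow_eq_one, hj']
      exact pow_dvd_pow p (by omega)
    · rw [hj', le_antisymm hj h4]
  -- the period
  have hper : per 2 y = i := by
    have h0 : y ≠ 0 := hcl.ne_zero hy
    have key : ∀ k : ℕ, y ^ (2 ^ k) = y ↔ i ∣ k := by
      intro k
      have h3 : y ^ (2 ^ k) = y ↔ y ^ (2 ^ k - 1) = 1 := by
        have h4 : y ^ (2 ^ k) = y ^ (2 ^ k - 1) * y := by
          rw [← pow_succ, Nat.sub_add_cancel Nat.one_le_two_pow]
        rw [h4]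
        constructor
        · intro h5
          exact mul_right_cancel₀ h0 (by rw [h5, one_mul])
        · intro h5
          rw [h5, one_mul]
      rw [h3, ← orderOf_dvd_iff_pow_eq_one, hyo, ← hi, orderOf_dvd_iff_pow_eq_one]
      rw [← (ZMod.natCast_eq_zero_iff (2 ^ k - 1) (p ^ a)), Nat.cast_sub Nat.one_le_two_pow, sub_eq_zero,
        Nat.cast_pow, Nat.cast_one, Nat.cast_ofNat]
    have hmin : ∀ k : ℕ, Function.IsPeriodicPt (fun y : E => y ^ (2 : ℤ)) k y ↔ i ∣ k := by
      intro k
      rw [← key k]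
      unfold Function.IsPeriodicPt Function.IsFixedPt
      rw [iterate_zpow]
      have : ((2 : ℤ) ^ k) = ((2 ^ k : ℕ) : ℤ) := by push_cast; rfl
      rw [this, zpow_natCast]
    apply Nat.dvd_antisymm
    · exact ((hmin i).2 dvd_rfl).minimalPeriod_dvd
    · exact (hmin _).1 (Function.isPeriodicPt_minimalPeriod _ _)
  -- the multiplicities
  have hcount : ∀ z, (evs E M).count z ≤ 2 ^ c := by
    intro z
    rcases count_le hcl hy z with ⟨-, h3⟩ | h3
    · rw [hper, hcard] at h3
      by_contra hcon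
      push Not at hcon
      have h4 : i * (2 ^ c + 1) ≤ i * (evs E M).count z := Nat.mul_le_mul_left i hcon
      omega
    · rw [hper, hcard] at h3
      omega
  have h3 := pow_eq_one_of_evs E 2 M (p ^ a) c hev hcount
  apply Units.ext
  rw [← hpow, h3, Units.val_one]

/-- no element of order `2 t` -/
theorem no_two (hF : Fintype.card F = 2) {p a i : ℕ} (hp : p.Prime) (hp2 : p ≠ 2) (ha : a ≠ 0)
    (hi : orderOf (2 : ZMod (p ^ a)) = i) (hi2 : 2 ≤ i) (hn : n ≤ i + 1) {g : GL (Fin n) F} :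
    orderOf g ≠ 2 * p ^ a := by
  intro hg
  have h1 := pow_eq_one hF (b := 1) (c := 0) hp hp2 ha hi hi2 (by rw [hg, pow_one]) (by rw [pow_zero]; omega)
    (by rw [pow_zero]; omega)
  have h2 := orderOf_dvd_of_pow_eq_one h1
  rw [hg, pow_zero, mul_one] at h2
  have h3 := Nat.le_of_dvd (pow_pos hp.pos a) h2
  have := pow_pos hp.pos a
  omega

/-- no element of order `4 t` -/
theorem no_four (hF : Fintype.card F = 2) {p a i : ℕ} (hp : p.Prime) (hp2 : p ≠ 2) (ha : a ≠ 0)
    (hi : orderOf (2 : ZMod (p ^ a)) = i) (hi2 : 2 ≤ i) (hn : n ≤ i + 2) {g : GL (Fin n) F} :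
    orderOf g ≠ 4 * p ^ a := by
  intro hg
  have h1 := pow_eq_one hF (b := 2) (c := 1) hp hp2 ha hi hi2 (by rw [hg]; norm_num) (by rw [pow_one]; omega)
    (by rw [pow_one]; omega)
  have h2 := orderOf_dvd_of_pow_eq_one h1
  rw [hg, pow_one] at h2
  have h3 := Nat.le_of_dvd (Nat.mul_pos (pow_pos hp.pos a) two_pos) h2
  have := pow_pos hp.pos a
  omega

/-- a prime power `t` dividing `2 ^ m + 1` such that `2` has order `2 m` modulo `t` -/
theorem exists_primePow {m : ℕ} (hm : 1 ≤ m) : ∃ p a : ℕ, p.Prime ∧ p ≠ 2 ∧ a ≠ 0 ∧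
    orderOf (2 : ZMod (p ^ a)) = 2 * m ∧ p ^ a ∣ 2 ^ m + 1 := by
  rcases eq_or_ne m 3 with rfl | h3
  · refine ⟨3, 2, Nat.prime_three, by norm_num, two_ne_zero, ?_, by norm_num⟩
    rw [orderOf_eq_iff (by norm_num)]
    constructor
    · decide
    · intro k hk hk0
      interval_cases k <;> decide
  · obtain ⟨p, hp, hpe⟩ := H373.C2.exists_prime (e := 2 * m) (by omega) (by omega)
    have hp2 := H373.C2.ne_two_of_order hpe (by omega)
    refine ⟨p, 1, hp, hp2, one_ne_zero, by rw [pow_one]; exact hpe, ?_⟩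
    rw [pow_one, H373.C2.dvd_add_iff hp hp2, hpe]
    refine ⟨dvd_rfl, fun h => ?_⟩
    have := Nat.le_of_dvd (by omega) h
    omega

theorem exists_pow_order {G : Type*} [Group G] [Finite G] {g : G} {N k : ℕ} (hg : orderOf g = N * k) : ∃ h : G, orderOf h = N := by
  have h0 : orderOf g ≠ 0 := (orderOf_pos g).ne'
  have hN : N * k ≠ 0 := hg ▸ h0
  refine ⟨g ^ k, ?_⟩
  rw [orderOf_pow_of_dvd (right_ne_zero_of_mul hN) (hg ▸ Dvd.intro_left N rfl), hg]
  exact Nat.mul_div_cancel _ (Nat.pos_of_ne_zero (right_ne_zero_of_mul hN))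

/-- **No element of order `2 (2 ^ m + 1)`, `n ≤ 2 m + 1`.** -/
theorem no_two_torus (hF : Fintype.card F = 2) {m : ℕ} (hm : 1 ≤ m) (hn : n ≤ 2 * m + 1) {g : GL (Fin n) F} :
    orderOf g ≠ 2 * (2 ^ m + 1) := by
  intro hg
  obtain ⟨p, a, hp, hp2, ha, hi, k, hk⟩ := exists_primePow hm
  obtain ⟨h, hh⟩ := exists_pow_order (g := g) (N := 2 * p ^ a) (k := k) (by rw [hg, hk]; ring)
  exact no_two hF hp hp2 ha hi (by omega) hn hh

/-- **No element of order `4 (2 ^ m + 1)`, `n ≤ 2 m + 2`.** -/
theorem no_four_torus (hF : Fintype.card F = 2) {m : ℕ} (hm : 1 ≤ m) (hn : n ≤ 2 * m + 2) {g : GL (Fin n) F} :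
    orderOf g ≠ 4 * (2 ^ m + 1) := by
  intro hg
  obtain ⟨p, a, hp, hp2, ha, hi, k, hk⟩ := exists_primePow hm
  obtain ⟨h, hh⟩ := exists_pow_order (g := g) (N := 4 * p ^ a) (k := k) (by rw [hg, hk]; ring)
  exact no_four hF hp hp2 ha hi (by omega) hn hh

/-! ### `PSL_n(2)` and `GL_n(2)` -/

/-- `GL_n(2) ≃ PSL_n(2)` -/
theorem exists_equiv (hF : Fintype.card F = 2) (n : ℕ) :
    Nonempty (Matrix.ProjectiveSpecialLinearGroup (Fin n) F ≃* GL (Fin n) F) := by
  classical
  have h1 : Function.Bijective (Matrix.SpecialLinearGroup.toGL : Matrix.SpecialLinearGroup (Fin n) F →* GL (Fin n) F) := by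
    constructor
    · intro a b hab
      apply Subtype.ext
      exact congrArg Units.val hab
    · intro g
      have hdet : (g : Matrix (Fin n) (Fin n) F).det = 1 := by
        apply eq_one_of_ne_zero hF
        exact ((Matrix.isUnit_iff_isUnit_det _).1 (Units.isUnit g)).ne_zero
      exact ⟨⟨g, hdet⟩, Units.ext rfl⟩
  have h2 : Function.Bijective (QuotientGroup.mk' (Subgroup.center (Matrix.SpecialLinearGroup (Fin n) F))) := by
    refine ⟨?_, QuotientGroup.mk'_surjective _⟩
    rw [injective_iff_map_eq_one]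
    intro a ha
    have h3 : a ∈ Subgroup.center (Matrix.SpecialLinearGroup (Fin n) F) := (QuotientGroup.eq_one_iff a).1 ha
    rw [Matrix.SpecialLinearGroup.mem_center_iff] at h3
    obtain ⟨r, hr, hr'⟩ := h3
    apply Subtype.ext
    rw [← hr']
    rcases Nat.eq_zero_or_pos n with hn | hn
    · subst hn
      exact Subsingleton.elim _ _
    · have hr0 : r ≠ 0 := by
        rintro rfl
        rw [Fintype.card_fin, zero_pow hn.ne'] at hr
        exact zero_ne_one hr
      rw [eq_one_of_ne_zero hF hr0]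
      exact map_one _
  exact ⟨(MulEquiv.ofBijective _ h2).symm.trans (MulEquiv.ofBijective _ h1)⟩

end Cfsg.Agent.H346.LNOrd
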