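import Cfsg.Agent.H373.C2
import Cfsg.Agent.H414.LieShape
import Cfsg.Agent.H405.Shape

/-!
# `L_n(2)`, `n ≥ 5`: characteristic 2 and sporadic composition factors (helper346, S3457)

`Num n c` : all primes `p ∣ c` satisfy `ord_p 2 ≤ n` and all primes `u` with `ord_u 2 ∈ {n - 1, n}` divide `c`.
* `two` : `S` of Lie type in characteristic 2 with `Num n |S|` is `L_n(2)`, or `L_6(2)` and `n = 5`, or `L_5(2)` and
  `n = 6`;
* `spor` : no order of a sporadic group or of the Tits group.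
-/

set_option autoImplicit false

namespace Cfsg.Agent.H346.LNEven

open Cfsg Cfsg.Agent.OrdDiv Cfsg.Agent.H373

/-- the numerical properties of the order of the composition factor -/
structure Num (n c : ℕ) : Prop where
  five : 5 ≤ n
  dvd : ∀ p : ℕ, p.Prime → p ≠ 2 → p ∣ c → orderOf (2 : ZMod p) ≤ n
  top : ∀ u : ℕ, u.Prime → orderOf (2 : ZMod u) = n ∨ orderOf (2 : ZMod u) = n - 1 → u ∣ c

variable {n c : ℕ}

theorem Num.odd (h : Num n c) : ∃ e u : ℕ, Odd e ∧ 5 ≤ e ∧ n ≤ e + 1 ∧ u.Prime ∧ orderOf (2 : ZMod u) = e ∧ u ∣ c := by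
  have h5 := h.five
  rcases Nat.even_or_odd n with he | ho
  · obtain ⟨k, hk⟩ := he
    obtain ⟨u, hu, hue⟩ := C2.exists_prime (e := n - 1) (by omega) (by omega)
    exact ⟨n - 1, u, ⟨k - 1, by omega⟩, by omega, by omega, hu, hue, h.top u hu (Or.inr hue)⟩
  · have h6 : n ≠ 6 := by
      rintro rfl
      exact absurd ho (by decide)
    obtain ⟨u, hu, hue⟩ := C2.exists_prime (e := n) (by omega) h6
    exact ⟨n, u, ho, h5, by omega, hu, hue, h.top u hu (Or.inl hue)⟩

theorem sub_iff {w a k : ℕ} : w ∣ (2 ^ a) ^ k - 1 ↔ orderOf (2 : ZMod w) ∣ a * k := by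
  rw [← pow_mul]
  exact C2.dvd_sub_iff

theorem sub_one_iff {w a : ℕ} : w ∣ 2 ^ a - 1 ↔ orderOf (2 : ZMod w) ∣ a := C2.dvd_sub_iff

theorem add_iff {w a k : ℕ} (hw : w.Prime) (hw2 : w ≠ 2) :
    w ∣ (2 ^ a) ^ k + 1 ↔ orderOf (2 : ZMod w) ∣ 2 * (a * k) ∧ ¬ orderOf (2 : ZMod w) ∣ a * k := by
  rw [← pow_mul]
  exact C2.dvd_add_iff hw hw2

theorem not_add {u a k : ℕ} (hu : u.Prime) (hodd : Odd (orderOf (2 : ZMod u))) : ¬ u ∣ (2 ^ a) ^ k + 1 := by
  intro h
  have hu2 : u ≠ 2 := C2.ne_two_of_order rfl hodd.pos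
  obtain ⟨h1, h2⟩ := (add_iff hu hu2).1 h
  exact h2 (Nat.Coprime.dvd_of_dvd_mul_left (Nat.coprime_two_right.2 hodd) h1)

/-- doubling in a factor `q ^ (2 j) - 1` -/
theorem dbl_sub {u w a k : ℕ} (hodd : Odd (orderOf (2 : ZMod u))) (hw : orderOf (2 : ZMod w) = 2 * orderOf (2 : ZMod u))
    (hk : Even k) (h : u ∣ (2 ^ a) ^ k - 1) : w ∣ (2 ^ a) ^ k - 1 := by
  rw [sub_iff] at h ⊢
  rw [hw]
  obtain ⟨j, rfl⟩ := hk
  have h1 : orderOf (2 : ZMod u) ∣ 2 * (a * j) := by
    have : a * (j + j) = 2 * (a * j) := by ring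
    rwa [this] at h
  have h2 := Nat.Coprime.dvd_of_dvd_mul_left (Nat.coprime_two_right.2 hodd) h1
  have : a * (j + j) = 2 * (a * j) := by ring
  rw [this]
  exact Nat.mul_dvd_mul_left 2 h2

theorem not_dvd_twelve {w : ℕ} (hw : w.Prime) (h : 3 ≤ orderOf (2 : ZMod w)) : ¬ w ∣ 12 := by
  intro h1
  have h2 : w ∣ 2 * 2 * 3 := h1
  have h3 : w = 2 ∨ w = 3 := by
    rcases hw.dvd_mul.1 h2 with h3 | h3
    · left
      rcases hw.dvd_mul.1 h3 with h4 | h4 <;> exact (Nat.prime_dvd_prime_iff_eq hw Nat.prime_two).1 h4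
    · exact Or.inr ((Nat.prime_dvd_prime_iff_eq hw Nat.prime_three).1 h3)
  rcases h3 with rfl | rfl
  · exact C2.ne_two_of_order rfl (by omega) rfl
  · have h5 : (2 : ZMod 3) ^ 2 = 1 := by decide
    have h6 := Nat.le_of_dvd two_pos (orderOf_dvd_of_pow_eq_one h5)
    omega

/-- `u ∣ c` gives `u ∣ f`. -/
theorem of_dvd {den a N f u : ℕ} (heq : den * c = (2 ^ a) ^ N * f) (hu : u.Prime) (hu2 : u ≠ 2) (h : u ∣ c) : u ∣ f := by
  have h1 : u ∣ (2 ^ a) ^ N * f := by rw [← heq]; exact h.mul_left _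
  rcases hu.dvd_mul.1 h1 with h2 | h2
  · exact absurd ((Nat.prime_dvd_prime_iff_eq hu Nat.prime_two).1 (hu.dvd_of_dvd_pow (hu.dvd_of_dvd_pow h2))) hu2
  · exact h2

theorem to_dvd {den a N f w : ℕ} (heq : den * c = (2 ^ a) ^ N * f) (hw : w.Prime) (hden : ¬ w ∣ den) (h : w ∣ f) : w ∣ c := by
  have h1 : w ∣ den * c := by rw [heq]; exact h.mul_left _
  exact (hw.dvd_mul.1 h1).resolve_left hden

/-- **Doubling.** -/
theorem Num.no_dbl (h : Num n c) {den a N f : ℕ} (heq : den * c = (2 ^ a) ^ N * f)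
    (hden : ∀ w : ℕ, w.Prime → 10 ≤ orderOf (2 : ZMod w) → n < orderOf (2 : ZMod w) → ¬ w ∣ den)
    (hdbl : ∀ u w : ℕ, u.Prime → w.Prime → Odd (orderOf (2 : ZMod u)) →
      orderOf (2 : ZMod w) = 2 * orderOf (2 : ZMod u) → u ∣ f → w ∣ f) : False := by
  obtain ⟨e, u, ho, he5, hne, hu, hue, huc⟩ := h.odd
  have h5 := h.five
  have hu2 : u ≠ 2 := C2.ne_two_of_order hue (by omega)
  obtain ⟨w, hw, hwe⟩ := C2.exists_prime (e := 2 * e) (by omega) (by omega)
  have hw2 : w ≠ 2 := C2.ne_two_of_order hwe (by omega)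
  have h1 := of_dvd heq hu hu2 huc
  have h2 := hdbl u w hu hw (by rw [hue]; exact ho) (by rw [hwe, hue]) h1
  have h3 := to_dvd heq hw (hden w hw (by omega) (by omega)) h2
  have h4 := h.dvd w hw hw2 h3
  omega

theorem Num.no_dbl' (h : Num n c) {den a N f : ℕ} (heq : den * c = (2 ^ a) ^ N * f) (hden : den ∣ 12)
    (hdbl : ∀ u w : ℕ, u.Prime → w.Prime → Odd (orderOf (2 : ZMod u)) →
      orderOf (2 : ZMod w) = 2 * orderOf (2 : ZMod u) → u ∣ f → w ∣ f) : False :=
  h.no_dbl heq (fun _ hw h10 _ hd => not_dvd_twelve hw (by omega) (hd.trans hden)) hdbl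

/-! ### the families -/

theorem dvd_prod {u m : ℕ} {φ : ℕ → ℕ} (hu : u.Prime) (h : u ∣ ∏ i ∈ Finset.range m, φ i) : ∃ i < m, u ∣ φ i := by
  obtain ⟨i, hi, h2⟩ := (hu.prime.dvd_finsetProd_iff _).1 h
  exact ⟨i, Finset.mem_range.1 hi, h2⟩

theorem prod_dvd {w m i : ℕ} {φ : ℕ → ℕ} (hi : i < m) (h : w ∣ φ i) : w ∣ ∏ i ∈ Finset.range m, φ i :=
  h.trans (Finset.dvd_prod_of_mem φ (Finset.mem_range.2 hi))

theorem num_psp (h : Num n c) {a m N : ℕ}
    (heq : Nat.gcd 2 (2 ^ a - 1) * c = (2 ^ a) ^ N * ∏ i ∈ Finset.range m, ((2 ^ a) ^ (2 * (i + 1)) - 1)) : False := by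
  refine h.no_dbl' heq ((Nat.gcd_dvd_left _ _).trans (by norm_num)) ?_
  intro u w hu hw ho hwe hd
  obtain ⟨i, hi, h2⟩ := dvd_prod hu hd
  exact prod_dvd hi (dbl_sub ho hwe (even_two_mul _) h2)

theorem num_ominus (h : Num n c) {a m N : ℕ}
    (heq : Nat.gcd 4 ((2 ^ a) ^ m + 1) * c = (2 ^ a) ^ N * (((2 ^ a) ^ m + 1) *
      ∏ i ∈ Finset.range (m - 1), ((2 ^ a) ^ (2 * (i + 1)) - 1))) : False := by
  refine h.no_dbl' heq ((Nat.gcd_dvd_left _ _).trans (by norm_num)) ?_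
  intro u w hu hw ho hwe hd
  rcases hu.dvd_mul.1 hd with h1 | h1
  · exact absurd h1 (not_add hu ho)
  · obtain ⟨i, hi, h2⟩ := dvd_prod hu h1
    exact (prod_dvd hi (dbl_sub ho hwe (even_two_mul _) h2)).mul_left _

theorem num_psu (h : Num n c) {a m N : ℕ} (ha : 1 ≤ a) (hm : 3 ≤ m)
    (heq : Nat.gcd m (2 ^ a + 1) * (2 ^ a + 1) * c = (2 ^ a) ^ N *
      ∏ i ∈ Finset.range m, (if Even i then (2 ^ a) ^ (i + 1) + 1 else (2 ^ a) ^ (i + 1) - 1)) : False := by
  -- primes not dividing `q + 1`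
  have hden : ∀ w : ℕ, w.Prime → w ≠ 2 → ¬ orderOf (2 : ZMod w) ∣ 2 * a → ¬ w ∣ Nat.gcd m (2 ^ a + 1) * (2 ^ a + 1) := by
    intro w hw hw2 hwa hd
    have h1 : w ∣ 2 ^ a + 1 := by
      rcases hw.dvd_mul.1 hd with h2 | h2
      · exact h2.trans (Nat.gcd_dvd_right _ _)
      · exact h2
    exact hwa ((C2.dvd_add_iff hw hw2).1 h1).1
  -- a prime of order `6 a`
  have h6a : 2 ≤ a → 6 * a ≤ n := by
    intro ha2
    obtain ⟨w, hw, hwe⟩ := C2.exists_prime (e := 6 * a) (by omega) (by omega)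
    have hw2 : w ≠ 2 := C2.ne_two_of_order hwe (by omega)
    rw [← hwe]
    apply h.dvd w hw hw2
    apply to_dvd heq hw (hden w hw hw2 ?_)
    · refine prod_dvd (i := 2) (by omega) ?_
      rw [if_pos (by decide), add_iff hw hw2, hwe]
      refine ⟨Dvd.intro 1 (by ring), fun hd => ?_⟩
      have := Nat.le_of_dvd (by omega) hd
      omega
    · rw [hwe]
      intro hd
      have := Nat.le_of_dvd (by omega) hd
      omega
  refine h.no_dbl heq ?_ ?_
  · intro w hw h10 hnw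
    have hw2 : w ≠ 2 := C2.ne_two_of_order rfl (by omega)
    apply hden w hw hw2
    intro hd
    have h1 := Nat.le_of_dvd (by omega) hd
    rcases Nat.lt_or_ge a 2 with h2 | h2
    · omega
    · have := h6a h2
      omega
  · intro u w hu hw ho hwe hd
    obtain ⟨i, hi, h2⟩ := dvd_prod hu hd
    by_cases hie : Even i
    · rw [if_pos hie] at h2
      exact absurd h2 (not_add hu ho)
    · rw [if_neg hie] at h2
      refine prod_dvd hi ?_
      rw [if_neg hie]
      exact dbl_sub ho hwe (Nat.even_add_one.2 hie) h2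

theorem num_oplus (h : Num n c) {a m N : ℕ} (ha : 1 ≤ a) (hm : 4 ≤ m)
    (heq : Nat.gcd 4 ((2 ^ a) ^ m - 1) * c = (2 ^ a) ^ N * (((2 ^ a) ^ m - 1) *
      ∏ i ∈ Finset.range (m - 1), ((2 ^ a) ^ (2 * (i + 1)) - 1))) : False := by
  obtain ⟨e, u, ho, he5, hne, hu, hue, huc⟩ := h.odd
  have hu2 : u ≠ 2 := C2.ne_two_of_order hue (by omega)
  have h1 := of_dvd heq hu hu2 huc
  -- `e ≤ a m`
  have hem : e ≤ a * m := by
    rcases hu.dvd_mul.1 h1 with h2 | h2
    · rw [sub_iff, hue] at h2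
      exact Nat.le_of_dvd (Nat.mul_pos (by omega) (by omega)) h2
    · obtain ⟨i, hi, h3⟩ := dvd_prod hu h2
      rw [sub_iff, hue] at h3
      have h4 : e ∣ 2 * (a * (i + 1)) := by
        have : a * (2 * (i + 1)) = 2 * (a * (i + 1)) := by ring
        rwa [this] at h3
      have h5 := Nat.Coprime.dvd_of_dvd_mul_left (Nat.coprime_two_right.2 ho) h4
      exact (Nat.le_of_dvd (Nat.mul_pos (by omega) (by omega)) h5).trans (Nat.mul_le_mul_left _ (by omega))
  rcases eq_or_ne (a * (m - 1)) 3 with h3 | h3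
  · have hm4 : m - 1 = 3 ∧ a = 1 := by
      have h4 : m - 1 ≤ 3 := by
        rw [← h3]
        exact Nat.le_mul_of_pos_left _ (by omega)
      have h5 : m - 1 = 3 := by omega
      rw [h5] at h3
      exact ⟨h5, by omega⟩
    obtain ⟨h4, rfl⟩ := hm4
    omega
  · have hpos : 3 ≤ a * (m - 1) := by
      calc 3 ≤ m - 1 := by omega
        _ ≤ a * (m - 1) := Nat.le_mul_of_pos_left _ (by omega)
    obtain ⟨w, hw, hwe⟩ := C2.exists_prime (e := 2 * (a * (m - 1))) (by omega) (by omega)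
    have hw2 : w ≠ 2 := C2.ne_two_of_order hwe (by omega)
    have hwc : w ∣ c := by
      apply to_dvd heq hw (fun hd => not_dvd_twelve hw (by omega) ((hd.trans (Nat.gcd_dvd_left _ _)).trans (by norm_num)))
      apply Dvd.dvd.mul_left
      refine prod_dvd (i := m - 2) (by omega) ?_
      rw [sub_iff, hwe]
      have : m - 2 + 1 = m - 1 := by omega
      rw [this]
      exact Dvd.intro 1 (by ring)
    have h4 := h.dvd w hw hw2 hwc
    rw [hwe] at h4
    have h5 : a * m = a * (m - 1) + a := by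
      have : m = m - 1 + 1 := by omega
      conv_lhs => rw [this]
      ring
    have h6 : a * (m - 1) ≤ a + 1 := by omega
    have h7 : a * 3 ≤ a * (m - 1) := Nat.mul_le_mul_left _ (by omega)
    omega

theorem num_sz (h : Num n c) {a : ℕ} (ha : 3 ≤ a)
    (heq : 1 * c = (2 ^ a) ^ 2 * ((2 ^ a - 1) * ((2 ^ a) ^ 2 + 1))) : False := by
  obtain ⟨e, u, ho, he5, hne, hu, hue, huc⟩ := h.odd
  have hu2 : u ≠ 2 := C2.ne_two_of_order hue (by omega)
  have h1 := of_dvd heq hu hu2 huc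
  have hea : e ≤ a := by
    rcases hu.dvd_mul.1 h1 with h2 | h2
    · rw [sub_one_iff, hue] at h2
      exact Nat.le_of_dvd (by omega) h2
    · exact absurd h2 (not_add hu (by rw [hue]; exact ho))
  obtain ⟨w, hw, hwe⟩ := C2.exists_prime (e := 4 * a) (by omega) (by omega)
  have hw2 : w ≠ 2 := C2.ne_two_of_order hwe (by omega)
  have hwc : w ∣ c := by
    apply to_dvd heq hw (fun hd => hw.one_lt.ne' (Nat.dvd_one.1 hd))
    apply Dvd.dvd.mul_left
    rw [add_iff hw hw2, hwe]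
    refine ⟨Dvd.intro 1 (by ring), fun hd => ?_⟩
    have := Nat.le_of_dvd (by omega) hd
    omega
  have h4 := h.dvd w hw hw2 hwc
  omega

theorem num_psl (h : Num n c) {a m N : ℕ} (ha : 1 ≤ a) (hm : 2 ≤ m)
    (heq : Nat.gcd m (2 ^ a - 1) * (2 ^ a - 1) * c = (2 ^ a) ^ N * ∏ i ∈ Finset.range m, ((2 ^ a) ^ (i + 1) - 1)) :
    a = 1 ∧ (m = n ∨ (n = 5 ∧ m = 6) ∨ (n = 6 ∧ m = 5)) := by
  have h5 := h.five
  have hden : ∀ w : ℕ, w.Prime → ¬ orderOf (2 : ZMod w) ∣ a → ¬ w ∣ Nat.gcd m (2 ^ a - 1) * (2 ^ a - 1) := by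
    intro w hw hwa hd
    have h1 : w ∣ 2 ^ a - 1 := by
      rcases hw.dvd_mul.1 hd with h2 | h2
      · exact h2.trans (Nat.gcd_dvd_right _ _)
      · exact h2
    exact hwa (sub_one_iff.1 h1)
  have hlt : a < a * m := by
    calc a < a * 2 := by omega
      _ ≤ a * m := Nat.mul_le_mul_left _ hm
  -- primes of order `a m`
  have ham : a * m ≠ 6 → a * m ≤ n := by
    intro h6
    obtain ⟨w, hw, hwe⟩ := C2.exists_prime (e := a * m) (by omega) h6
    have hw2 : w ≠ 2 := C2.ne_two_of_order hwe (by omega)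
    rw [← hwe]
    apply h.dvd w hw hw2
    apply to_dvd heq hw (hden w hw ?_)
    · refine prod_dvd (i := m - 1) (by omega) ?_
      rw [sub_iff, hwe, Nat.sub_add_cancel (by omega)]
    · rw [hwe]
      intro hd
      have := Nat.le_of_dvd (by omega) hd
      omega
  -- primes of order `e`
  have hup : ∀ e : ℕ, (e = n ∨ e = n - 1) → e ≠ 6 → ∃ j : ℕ, 1 ≤ j ∧ j ≤ m ∧ e ∣ a * j := by
    intro e he he6
    obtain ⟨u, hu, hue⟩ := C2.exists_prime (e := e) (by omega) he6
    have hu2 : u ≠ 2 := C2.ne_two_of_order hue (by omega)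
    have h1 := of_dvd heq hu hu2 (h.top u hu (by rw [hue]; exact he))
    obtain ⟨i, hi, h2⟩ := dvd_prod hu h1
    rw [sub_iff, hue] at h2
    exact ⟨i + 1, by omega, by omega, h2⟩
  have hle : ∀ j : ℕ, j ≤ m → a * j ≤ a * m := fun j hj => Nat.mul_le_mul_left _ hj
  have hpos : ∀ j : ℕ, 1 ≤ j → 0 < a * j := fun j hj => Nat.mul_pos (by omega) (by omega)
  rcases eq_or_ne n 6 with h6 | h6
  · -- `n = 6`
    subst h6
    obtain ⟨j, hj1, hjm, hj⟩ := hup 5 (Or.inr rfl) (by norm_num)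
    have h7 : a * m ≤ 6 := by
      by_contra hcon
      have := ham (by omega)
      omega
    have h8 := hle j hjm
    obtain ⟨k, hk⟩ := hj
    have h9 : k = 1 := by
      have := hpos j hj1
      have h10 : k ≠ 0 := by
        rintro rfl
        omega
      omega
    rw [h9, mul_one] at hk
    have ha5 : a = 1 ∨ a = 5 := by
      have : a ∣ 5 := Dvd.intro j hk
      exact (Nat.dvd_prime (by norm_num)).1 this
    rcases ha5 with rfl | rfl
    · exact ⟨rfl, by omega⟩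
    · omega
  · obtain ⟨j, hj1, hjm, hj⟩ := hup n (Or.inl rfl) h6
    have h7 := Nat.le_of_dvd (hpos j hj1) hj
    have h8 := hle j hjm
    rcases eq_or_ne (a * m) 6 with h9 | h9
    · -- `a m = 6`, `n = 5`
      have hn5 : n = 5 := by omega
      subst hn5
      obtain ⟨k, hk⟩ := hj
      have h10 : k = 1 := by
        have := hpos j hj1
        have h10 : k ≠ 0 := by
          rintro rfl
          omega
        omega
      rw [h10, mul_one] at hk
      have ha5 : a = 1 ∨ a = 5 := (Nat.dvd_prime (by norm_num)).1 (Dvd.intro j hk)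
      rcases ha5 with rfl | rfl
      · exact ⟨rfl, by omega⟩
      · omega
    · have h10 := ham h9
      have h11 : a * m = n := by omega
      have h12 : a * 1 ∣ n := by rw [mul_one]; exact Dvd.intro m h11
      rw [mul_one] at h12
      rcases eq_or_ne (n - 1) 6 with h13 | h13
      · have hn7 : n = 7 := by omega
        subst hn7
        have ha7 : a = 1 ∨ a = 7 := (Nat.dvd_prime (by norm_num)).1 h12
        rcases ha7 with rfl | rfl
        · exact ⟨rfl, by omega⟩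
        · omega
      · obtain ⟨j', hj1', hjm', hj'⟩ := hup (n - 1) (Or.inr rfl) h13
        have h14 := hle j' hjm'
        obtain ⟨k, hk⟩ := hj'
        have h15 : k = 1 := by
          have := hpos j' hj1'
          have h16 : k ≠ 0 := by
            rintro rfl
            omega
          by_contra h17
          have h18 : (n - 1) * 2 ≤ (n - 1) * k := Nat.mul_le_mul_left _ (by omega)
          omega
        rw [h15, mul_one] at hk
        have h16 : a ∣ n - 1 := Dvd.intro j' hk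
        have h17 : a ∣ 1 := by
          have := Nat.dvd_sub h12 h16
          have h18 : n - (n - 1) = 1 := by omega
          rwa [h18] at this
        have ha1 : a = 1 := Nat.dvd_one.1 h17
        subst ha1
        exact ⟨rfl, by omega⟩

theorem num_e6 (h : Num n c) {a : ℕ} (ha : 1 ≤ a)
    (heq : Nat.gcd 3 (2 ^ a - 1) * c = (2 ^ a) ^ 36 * (((2 ^ a) ^ 2 - 1) * ((2 ^ a) ^ 5 - 1) * ((2 ^ a) ^ 6 - 1) *
      ((2 ^ a) ^ 8 - 1) * ((2 ^ a) ^ 9 - 1) * ((2 ^ a) ^ 12 - 1))) : False := by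
  obtain ⟨e, u, ho, he5, hne, hu, hue, huc⟩ := h.odd
  have hu2 : u ≠ 2 := C2.ne_two_of_order hue (by omega)
  have h1 := of_dvd heq hu hu2 huc
  have hcop : Nat.Coprime e 4 := by
    have := Nat.coprime_two_right.2 ho
    exact this.pow_right 2
  have hea : e ≤ 9 * a := by
    have key : ∀ i : ℕ, 1 ≤ i → i ≤ 9 → u ∣ (2 ^ a) ^ i - 1 → e ≤ 9 * a := by
      intro i hi1 hi9 hd
      rw [sub_iff, hue] at hd
      have := Nat.le_of_dvd (Nat.mul_pos (by omega) (by omega)) hd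
      have h2 : a * i ≤ a * 9 := Nat.mul_le_mul_left _ hi9
      omega
    simp only [hu.dvd_mul] at h1
    rcases h1 with ((((h1 | h1) | h1) | h1) | h1) | h1
    · exact key 2 (by norm_num) (by norm_num) h1
    · exact key 5 (by norm_num) (by norm_num) h1
    · exact key 6 (by norm_num) (by norm_num) h1
    · exact key 8 (by norm_num) (by norm_num) h1
    · exact key 9 (by norm_num) (by norm_num) h1
    · rw [sub_iff, hue] at h1
      have h2 : e ∣ 4 * (a * 3) := by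
        have : a * 12 = 4 * (a * 3) := by ring
        rwa [this] at h1
      have h3 := Nat.le_of_dvd (by omega) (hcop.dvd_of_dvd_mul_left h2)
      omega
  obtain ⟨w, hw, hwe⟩ := C2.exists_prime (e := 12 * a) (by omega) (by omega)
  have hw2 : w ≠ 2 := C2.ne_two_of_order hwe (by omega)
  have hwc : w ∣ c := by
    apply to_dvd heq hw (fun hd => not_dvd_twelve hw (by omega) ((hd.trans (Nat.gcd_dvd_left _ _)).trans (by norm_num)))
    apply Dvd.dvd.mul_left
    rw [sub_iff, hwe]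
    exact Dvd.intro 1 (by ring)
  have h4 := h.dvd w hw hw2 hwc
  omega

/-- the families all of whose factors have even exponents (or are `q ^ i + 1`) -/
theorem num_g2 (h : Num n c) {a : ℕ} (heq : 1 * c = (2 ^ a) ^ 6 * (((2 ^ a) ^ 2 - 1) * ((2 ^ a) ^ 6 - 1))) : False := by
  refine h.no_dbl' heq (one_dvd _) ?_
  intro u w hu hw ho hwe hd
  have k := fun i (hi : Even i) (h : u ∣ (2 ^ a) ^ i - 1) => dbl_sub (w := w) ho hwe hi h
  simp only [hu.dvd_mul] at hd
  rcases hd with hd | hd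
  · exact (k 2 (by decide) hd).mul_right _
  · exact (k 6 (by decide) hd).mul_left _

theorem num_f4 (h : Num n c) {a : ℕ} (heq : 1 * c = (2 ^ a) ^ 24 * (((2 ^ a) ^ 2 - 1) * ((2 ^ a) ^ 6 - 1) *
    ((2 ^ a) ^ 8 - 1) * ((2 ^ a) ^ 12 - 1))) : False := by
  refine h.no_dbl' heq (one_dvd _) ?_
  intro u w hu hw ho hwe hd
  have k := fun i (hi : Even i) (h : u ∣ (2 ^ a) ^ i - 1) => dbl_sub (w := w) ho hwe hi h
  simp only [hu.dvd_mul] at hd
  rcases hd with ((hd | hd) | hd) | hd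
  · exact (((k 2 (by decide) hd).mul_right _).mul_right _).mul_right _
  · exact (((k 6 (by decide) hd).mul_left _).mul_right _).mul_right _
  · exact ((k 8 (by decide) hd).mul_left _).mul_right _
  · exact (k 12 (by decide) hd).mul_left _

theorem num_e7 (h : Num n c) {a : ℕ} (heq : Nat.gcd 2 (2 ^ a - 1) * c = (2 ^ a) ^ 63 * (((2 ^ a) ^ 2 - 1) *
    ((2 ^ a) ^ 6 - 1) * ((2 ^ a) ^ 8 - 1) * ((2 ^ a) ^ 10 - 1) * ((2 ^ a) ^ 12 - 1) * ((2 ^ a) ^ 14 - 1) *
      ((2 ^ a) ^ 18 - 1))) : False := by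
  refine h.no_dbl' heq ((Nat.gcd_dvd_left _ _).trans (by norm_num)) ?_
  intro u w hu hw ho hwe hd
  have k := fun i (hi : Even i) (h : u ∣ (2 ^ a) ^ i - 1) => dbl_sub (w := w) ho hwe hi h
  simp only [hu.dvd_mul] at hd
  rcases hd with (((((hd | hd) | hd) | hd) | hd) | hd) | hd
  · exact ((((((k 2 (by decide) hd).mul_right _).mul_right _).mul_right _).mul_right _).mul_right _).mul_right _
  · exact ((((((k 6 (by decide) hd).mul_left _).mul_right _).mul_right _).mul_right _).mul_right _).mul_right _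
  · exact (((((k 8 (by decide) hd).mul_left _).mul_right _).mul_right _).mul_right _).mul_right _
  · exact ((((k 10 (by decide) hd).mul_left _).mul_right _).mul_right _).mul_right _
  · exact (((k 12 (by decide) hd).mul_left _).mul_right _).mul_right _
  · exact ((k 14 (by decide) hd).mul_left _).mul_right _
  · exact (k 18 (by decide) hd).mul_left _

theorem num_e8 (h : Num n c) {a : ℕ} (heq : 1 * c = (2 ^ a) ^ 120 * (((2 ^ a) ^ 2 - 1) * ((2 ^ a) ^ 8 - 1) *
    ((2 ^ a) ^ 12 - 1) * ((2 ^ a) ^ 14 - 1) * ((2 ^ a) ^ 18 - 1) * ((2 ^ a) ^ 20 - 1) * ((2 ^ a) ^ 24 - 1) *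
      ((2 ^ a) ^ 30 - 1))) : False := by
  refine h.no_dbl' heq (one_dvd _) ?_
  intro u w hu hw ho hwe hd
  have k := fun i (hi : Even i) (h : u ∣ (2 ^ a) ^ i - 1) => dbl_sub (w := w) ho hwe hi h
  simp only [hu.dvd_mul] at hd
  rcases hd with ((((((hd | hd) | hd) | hd) | hd) | hd) | hd) | hd
  · exact (((((((k 2 (by decide) hd).mul_right _).mul_right _).mul_right _).mul_right _).mul_right _).mul_right
      _).mul_right _
  · exact (((((((k 8 (by decide) hd).mul_left _).mul_right _).mul_right _).mul_right _).mul_right _).mul_right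
      _).mul_right _
  · exact ((((((k 12 (by decide) hd).mul_left _).mul_right _).mul_right _).mul_right _).mul_right _).mul_right _
  · exact (((((k 14 (by decide) hd).mul_left _).mul_right _).mul_right _).mul_right _).mul_right _
  · exact ((((k 18 (by decide) hd).mul_left _).mul_right _).mul_right _).mul_right _
  · exact (((k 20 (by decide) hd).mul_left _).mul_right _).mul_right _
  · exact ((k 24 (by decide) hd).mul_left _).mul_right _
  · exact (k 30 (by decide) hd).mul_left _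

theorem num_te6 (h : Num n c) {a : ℕ} (heq : Nat.gcd 3 (2 ^ a + 1) * c = (2 ^ a) ^ 36 * (((2 ^ a) ^ 2 - 1) *
    ((2 ^ a) ^ 5 + 1) * ((2 ^ a) ^ 6 - 1) * ((2 ^ a) ^ 8 - 1) * ((2 ^ a) ^ 9 + 1) * ((2 ^ a) ^ 12 - 1))) : False := by
  refine h.no_dbl' heq ((Nat.gcd_dvd_left _ _).trans (by norm_num)) ?_
  intro u w hu hw ho hwe hd
  have k := fun i (hi : Even i) (h : u ∣ (2 ^ a) ^ i - 1) => dbl_sub (w := w) ho hwe hi h
  simp only [hu.dvd_mul] at hd
  rcases hd with ((((hd | hd) | hd) | hd) | hd) | hd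
  · exact (((((k 2 (by decide) hd).mul_right _).mul_right _).mul_right _).mul_right _).mul_right _
  · exact absurd hd (not_add hu ho)
  · exact ((((k 6 (by decide) hd).mul_left _).mul_right _).mul_right _).mul_right _
  · exact (((k 8 (by decide) hd).mul_left _).mul_right _).mul_right _
  · exact absurd hd (not_add hu ho)
  · exact (k 12 (by decide) hd).mul_left _

theorem num_td4 (h : Num n c) {a : ℕ} (heq : 1 * c = (2 ^ a) ^ 12 * (((2 ^ a) ^ 2 - 1) * ((2 ^ a) ^ 6 - 1) *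
    ((2 ^ a) ^ 8 + (2 ^ a) ^ 4 + 1))) : False := by
  refine h.no_dbl' heq (one_dvd _) ?_
  intro u w hu hw ho hwe hd
  have k := fun i (hi : Even i) (h : u ∣ (2 ^ a) ^ i - 1) => dbl_sub (w := w) ho hwe hi h
  simp only [hu.dvd_mul] at hd
  rcases hd with (hd | hd) | hd
  · exact ((k 2 (by decide) hd).mul_right _).mul_right _
  · exact ((k 6 (by decide) hd).mul_left _).mul_right _
  · have h1 : u ∣ (2 ^ a) ^ 12 - 1 := by
      have h2 : (2 ^ a) ^ 12 - 1 = ((2 ^ a) ^ 4 - 1) * ((2 ^ a) ^ 8 + (2 ^ a) ^ 4 + 1) := by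
        have h3 : 1 ≤ (2 ^ a) ^ 4 := Nat.one_le_pow _ _ (by positivity)
        obtain ⟨t, ht⟩ := Nat.exists_eq_add_of_le h3
        have e8 : (2 ^ a) ^ 8 = ((2 ^ a) ^ 4) ^ 2 := by rw [← pow_mul (2 ^ a) 4 2]
        have e12 : (2 ^ a) ^ 12 = ((2 ^ a) ^ 4) ^ 3 := by rw [← pow_mul (2 ^ a) 4 3]
        rw [e8, e12, ht, Nat.add_sub_cancel_left]
        have h4 : (1 + t) ^ 3 = t * ((1 + t) ^ 2 + (1 + t) + 1) + 1 := by ring
        omega
      rw [h2]
      exact hd.mul_left _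
    rw [sub_iff] at h1
    have h2 : orderOf (2 : ZMod u) ∣ 4 * (a * 3) := by
      have : a * 12 = 4 * (a * 3) := by ring
      rwa [this] at h1
    have hcop : Nat.Coprime (orderOf (2 : ZMod u)) 4 := (Nat.coprime_two_right.2 ho).pow_right 2
    have h3 := hcop.dvd_of_dvd_mul_left h2
    refine Dvd.dvd.mul_right (Dvd.dvd.mul_left ?_ _) _
    rw [sub_iff, hwe]
    have : a * 6 = 2 * (a * 3) := by ring
    rw [this]
    exact Nat.mul_dvd_mul_left 2 h3

theorem num_tf4 (h : Num n c) {a : ℕ} (heq : 1 * c = (2 ^ a) ^ 12 * ((2 ^ a - 1) * ((2 ^ a) ^ 3 + 1) *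
    ((2 ^ a) ^ 4 - 1) * ((2 ^ a) ^ 6 + 1))) : False := by
  refine h.no_dbl' heq (one_dvd _) ?_
  intro u w hu hw ho hwe hd
  have k := fun i (hi : Even i) (h : u ∣ (2 ^ a) ^ i - 1) => dbl_sub (w := w) ho hwe hi h
  simp only [hu.dvd_mul] at hd
  rcases hd with ((hd | hd) | hd) | hd
  · refine Dvd.dvd.mul_right (Dvd.dvd.mul_left ?_ _) _
    rw [sub_one_iff] at hd
    rw [sub_iff, hwe]
    have : a * 4 = 2 * (a * 2) := by ring
    rw [this]
    exact Nat.mul_dvd_mul_left 2 (hd.mul_right 2)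
  · exact absurd hd (not_add hu ho)
  · exact ((k 4 (by decide) hd).mul_left _).mul_right _
  · exact absurd hd (not_add hu ho)

end Cfsg.Agent.H346.LNEven
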