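import Mathlib

/-!
# Every endomorphism is self-adjoint for a nondegenerate symmetric form (Taussky and Zassenhaus) (helper346)
-/

set_option autoImplicit false

namespace Cfsg.Agent.H346.LNSelf

open Polynomial Module

universe u v

variable {F : Type u} [Field F]

theorem exists_local {p : F[X]} (e : ℕ) (hp : Irreducible p) :
    ∃ β : (F[X] ⧸ Submodule.span F[X] {p ^ e}) → (F[X] ⧸ Submodule.span F[X] {p ^ e}) → F,
      (∀ x y z, β (x + y) z = β x z + β y z) ∧ (∀ (c : F) x y, β (c • x) y = c * β x y) ∧ (∀ x y, β x y = β y x) ∧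
      (∀ (r : F[X]) x y, β (r • x) y = β x (r • y)) ∧ ∀ x, (∀ y, β x y = 0) → x = 0 := by
  classical
  rcases Nat.eq_zero_or_pos e with he | he
  · subst he
    refine ⟨fun _ _ => 0, fun _ _ _ => by simp, fun _ _ _ => by simp, fun _ _ => rfl, fun _ _ _ => rfl, fun x _ => ?_⟩
    obtain ⟨u, rfl⟩ := Submodule.mkQ_surjective _ x
    rw [Submodule.mkQ_apply, Submodule.Quotient.mk_eq_zero, Submodule.mem_span_singleton]
    exact ⟨u, by simp⟩
  set S : Submodule F[X] F[X] := Submodule.span F[X] {p ^ e} with hS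
  have hmem : ∀ u : F[X], u ∈ S ↔ p ^ e ∣ u := by
    intro u
    rw [hS, Submodule.mem_span_singleton]
    constructor
    · rintro ⟨a, rfl⟩
      exact ⟨a, by rw [smul_eq_mul, mul_comm]⟩
    · rintro ⟨a, rfl⟩
      exact ⟨a, by rw [smul_eq_mul, mul_comm]⟩
  have hsurj := S.mkQ_surjective
  have hkill : ∀ r ∈ S, ∀ x : F[X] ⧸ S, r • x = 0 := by
    intro r hr x
    obtain ⟨u, rfl⟩ := hsurj x
    rw [← map_smul, Submodule.mkQ_apply, Submodule.Quotient.mk_eq_zero, smul_eq_mul, hmem]
    exact ((hmem r).1 hr).mul_right u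
  have hrep : ∀ (a b : F[X]) (x : F[X] ⧸ S), S.mkQ a = S.mkQ b → a • x = b • x := by
    intro a b x hab
    have h1 : a - b ∈ S := by
      rw [Submodule.mkQ_apply, Submodule.mkQ_apply, Submodule.Quotient.eq] at hab
      exact hab
    have h2 := hkill _ h1 x
    rw [sub_smul, sub_eq_zero] at h2
    exact h2
  set v0 : F[X] ⧸ S := S.mkQ (p ^ (e - 1)) with hv0
  have hv0ne : v0 ≠ 0 := by
    rw [hv0, Submodule.mkQ_apply, Ne, Submodule.Quotient.mk_eq_zero, hmem]
    intro h
    have := (pow_dvd_pow_iff hp.ne_zero hp.not_isUnit).1 h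
    omega
  obtain ⟨l, hl⟩ : ∃ l : Module.Dual F (F[X] ⧸ S), l v0 ≠ 0 := by
    by_contra hcon
    push Not at hcon
    exact hv0ne ((Module.forall_dual_apply_eq_zero_iff F v0).1 hcon)
  let rep : (F[X] ⧸ S) → F[X] := Function.surjInv hsurj
  have hrep' : ∀ y, S.mkQ (rep y) = y := Function.surjInv_eq hsurj
  have hβ : ∀ (a : F[X]) (x : F[X] ⧸ S), l (rep (S.mkQ a) • x) = l (a • x) := by
    intro a x
    rw [hrep _ _ x (hrep' (S.mkQ a))]
  refine ⟨fun x y => l (rep y • x), ?_, ?_, ?_, ?_, ?_⟩
  · intro x y z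
    show l (rep z • (x + y)) = _
    rw [smul_add, map_add]
  · intro c x y
    show l (rep y • (c • x)) = c * l (rep y • x)
    rw [smul_comm, map_smul, smul_eq_mul]
  · intro x y
    obtain ⟨a, rfl⟩ := hsurj x
    obtain ⟨b, rfl⟩ := hsurj y
    show l (rep (S.mkQ b) • S.mkQ a) = l (rep (S.mkQ a) • S.mkQ b)
    rw [hβ, hβ, ← map_smul, ← map_smul, smul_eq_mul, smul_eq_mul, mul_comm]
  · intro r x y
    obtain ⟨b, rfl⟩ := hsurj y
    show l (rep (S.mkQ b) • (r • x)) = l (rep (r • S.mkQ b) • x)
    rw [← map_smul, hβ, hβ, smul_smul, smul_eq_mul, mul_comm]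
  · intro x hx
    obtain ⟨u, rfl⟩ := hsurj x
    by_contra hne
    have hu : ¬ p ^ e ∣ u := by
      intro h
      apply hne
      rw [Submodule.mkQ_apply, Submodule.Quotient.mk_eq_zero, hmem]
      exact h
    have hu0 : u ≠ 0 := by
      rintro rfl
      exact hu (dvd_zero _)
    have hfin : FiniteMultiplicity p u := FiniteMultiplicity.of_not_isUnit hp.not_isUnit hu0
    obtain ⟨c, hc, hpc⟩ := hfin.exists_eq_pow_mul_and_not_dvd
    set j := multiplicity p u with hj
    have hje : j < e := by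
      by_contra h
      push Not at h
      apply hu
      rw [hc]
      exact (pow_dvd_pow p h).mul_right c
    have hcop : IsCoprime c (p ^ e) := ((hp.coprime_iff_not_dvd.2 hpc).symm).pow_right
    obtain ⟨a, b, hab⟩ := hcop
    have h1 : S.mkQ (p ^ (e - 1 - j) * a * u) = v0 := by
      rw [hv0]
      have h2 : p ^ (e - 1 - j) * a * u - p ^ (e - 1) ∈ S := by
        rw [hmem]
        refine ⟨- (p ^ (e - 1) * b), ?_⟩
        have h3 : p ^ (e - 1) = p ^ (e - 1 - j) * p ^ j := by
          rw [← pow_add]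
          congr 1
          omega
        calc p ^ (e - 1 - j) * a * u - p ^ (e - 1) = p ^ (e - 1 - j) * p ^ j * (a * c) - p ^ (e - 1) := by
              rw [hc]; ring
          _ = p ^ (e - 1) * (a * c) - p ^ (e - 1) := by rw [← h3]
          _ = p ^ (e - 1) * (1 - b * p ^ e) - p ^ (e - 1) := by rw [← hab]; ring
          _ = p ^ e * -(p ^ (e - 1) * b) := by ring
      rw [Submodule.mkQ_apply, Submodule.mkQ_apply, Submodule.Quotient.eq]
      exact h2
    apply hl
    have h3 := hx (S.mkQ (p ^ (e - 1 - j) * a))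
    have h4 : l (rep (S.mkQ (p ^ (e - 1 - j) * a)) • S.mkQ u) = 0 := h3
    rw [hβ, ← map_smul, smul_eq_mul, h1] at h4
    exact h4

/-- **A symmetric form for which `s` is self-adjoint.** -/
theorem exists_form {V : Type v} [AddCommGroup V] [Module F V] [FiniteDimensional F V] (s : Module.End F V) :
    ∃ b : V → V → F, (∀ x y z, b (x + y) z = b x z + b y z) ∧ (∀ (c : F) x y, b (c • x) y = c * b x y) ∧
      (∀ x y, b x y = b y x) ∧ (∀ x y, b (s x) y = b x (s y)) ∧ ∀ x, (∀ y, b x y = 0) → x = 0 := by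
  classical
  have htors : Module.IsTorsion F[X] (AEval' s) := Module.AEval.isTorsion_of_finiteDimensional (K := F) (M := V) (a := s)
  obtain ⟨ι, _, p, hp, e, ⟨φ⟩⟩ := Module.equiv_directSum_of_isTorsion htors
  choose β h1 h2 h3 h4 h5 using fun i => exists_local (e i) (hp i)
  let ψ : AEval' s ≃ₗ[F[X]] ∀ i, F[X] ⧸ Submodule.span F[X] {p i ^ e i} :=
    φ.trans (DirectSum.linearEquivFunOnFintype F[X] ι _)
  let f : V → ∀ i, F[X] ⧸ Submodule.span F[X] {p i ^ e i} := fun v => ψ (AEval'.of s v)
  have hadd : ∀ v w, f (v + w) = f v + f w := by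
    intro v w
    show ψ (AEval'.of s (v + w)) = _
    rw [map_add, map_add]
  have hX : ∀ v, f (s v) = (X : F[X]) • f v := by
    intro v
    show ψ (AEval'.of s (s v)) = _
    rw [← AEval'.X_smul_of, map_smul]
  have hC : ∀ (c : F) v, f (c • v) = (C c : F[X]) • f v := by
    intro c v
    show ψ (AEval'.of s (c • v)) = _
    rw [map_smul (AEval'.of s), ← AEval.C_smul, map_smul]
  have hCs : ∀ (c : F) i (x : F[X] ⧸ Submodule.span F[X] {p i ^ e i}), (C c : F[X]) • x = c • x := by
    intro c i x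
    obtain ⟨u, rfl⟩ := Submodule.mkQ_surjective _ x
    rw [← map_smul, smul_eq_mul, ← smul_eq_C_mul]
    rfl
  refine ⟨fun x y => ∑ i, β i (f x i) (f y i), ?_, ?_, ?_, ?_, ?_⟩
  · intro x y z
    show ∑ i, β i (f (x + y) i) (f z i) = _
    rw [← Finset.sum_add_distrib, hadd]
    exact Finset.sum_congr rfl fun i _ => h1 i _ _ _
  · intro c x y
    show ∑ i, β i (f (c • x) i) (f y i) = c * ∑ i, β i (f x i) (f y i)
    rw [Finset.mul_sum, hC]
    refine Finset.sum_congr rfl fun i _ => ?_
    rw [Pi.smul_apply, hCs, h2]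
  · intro x y
    exact Finset.sum_congr rfl fun i _ => h3 i _ _
  · intro x y
    show ∑ i, β i (f (s x) i) (f y i) = ∑ i, β i (f x i) (f (s y) i)
    rw [hX, hX]
    refine Finset.sum_congr rfl fun i _ => ?_
    rw [Pi.smul_apply, Pi.smul_apply, h4]
  · intro x hx
    have hfx : f x = 0 := by
      funext i
      refine h5 i _ fun y => ?_
      obtain ⟨w, hw⟩ := ψ.surjective (Pi.single i y)
      obtain ⟨v, rfl⟩ := (AEval'.of s).surjective w
      have h6 : ∑ j, β j (f x j) (f v j) = 0 := hx v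
      have h7 : f v = Pi.single i y := hw
      rw [h7, Finset.sum_eq_single i] at h6
      · rwa [Pi.single_eq_same] at h6
      · intro j _ hj
        rw [Pi.single_eq_of_ne hj, h3]
        have := h2 j 0 0 (f x j)
        rwa [zero_smul, zero_mul] at this
      · intro h
        exact absurd (Finset.mem_univ i) h
    have h8 : ψ (AEval'.of s x) = 0 := hfx
    have h9 : AEval'.of s x = 0 := (LinearEquiv.map_eq_zero_iff ψ).1 h8
    exact (LinearEquiv.map_eq_zero_iff _).1 h9

open Matrix in
/-- **Matrix form.** -/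
theorem exists_symmetric {n : ℕ} (s : Matrix (Fin n) (Fin n) F) :
    ∃ B : Matrix (Fin n) (Fin n) F, IsUnit B ∧ Bᵀ = B ∧ sᵀ * B = B * s := by
  classical
  obtain ⟨b, hadd, hsmul, hsym, hself, hnd⟩ := exists_form (Matrix.toLin' s)
  have hsum : ∀ (c : Fin n → F) (y : Fin n → F), b c y = ∑ k, c k * b (Pi.single k 1) y := by
    intro c y
    let l : (Fin n → F) →ₗ[F] F := { toFun := fun x => b x y, map_add' := fun x z => hadd x z y,
                                     map_smul' := fun a x => hsmul a x y }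
    have h1 : l c = ∑ k, c k • l (Pi.single k 1) := by
      conv_lhs => rw [pi_eq_sum_univ' c]
      rw [map_sum]
      refine Finset.sum_congr rfl fun k _ => ?_
      rw [map_smul]
    exact h1
  have hs : ∀ i, Matrix.toLin' s (Pi.single i 1) = fun k => s k i := by
    intro i
    rw [Matrix.toLin'_apply, Matrix.mulVec_single_one]
    rfl
  refine ⟨Matrix.of fun i j => b (Pi.single i 1) (Pi.single j 1), ?_, ?_, ?_⟩
  · rw [← Matrix.mulVec_injective_iff_isUnit]
    intro x y hxy
    have h0 : ∀ x : Fin n → F, (Matrix.of fun i j => b (Pi.single i 1) (Pi.single j 1)) *ᵥ x = fun i => b x (Pi.single i 1) := by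
      intro x
      funext i
      rw [hsum x, Matrix.mulVec, dotProduct]
      refine Finset.sum_congr rfl fun k _ => ?_
      rw [Matrix.of_apply, mul_comm, hsym (Pi.single i 1)]
    have hxy' : (Matrix.of fun i j => b (Pi.single i 1) (Pi.single j 1)) *ᵥ x =
      (Matrix.of fun i j => b (Pi.single i 1) (Pi.single j 1)) *ᵥ y := hxy
    rw [h0, h0] at hxy'
    have h1 : x - y = 0 := by
      apply hnd
      intro z
      rw [hsym, hsum z]
      apply Finset.sum_eq_zero
      intro k _
      have h2 := congrFun hxy' k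
      have h3 : b (Pi.single k 1) (x - y) = 0 := by
        rw [hsym, sub_eq_add_neg, hadd]
        have h4 := hsmul (-1) y (Pi.single k 1)
        rw [neg_one_smul, neg_one_mul] at h4
        rw [h4]
        have h5 : b x (Pi.single k 1) = b y (Pi.single k 1) := h2
        rw [h5]
        ring
      rw [h3, mul_zero]
    exact sub_eq_zero.1 h1
  · ext i j
    rw [Matrix.transpose_apply, Matrix.of_apply, Matrix.of_apply, hsym]
  · ext i j
    rw [Matrix.mul_apply, Matrix.mul_apply]
    have h1 := hself (Pi.single i 1) (Pi.single j 1)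
    rw [hs, hs, hsum, hsym (Pi.single i 1), hsum] at h1
    calc ∑ k, sᵀ i k * (Matrix.of fun i j => b (Pi.single i 1) (Pi.single j 1)) k j
        = ∑ k, s k i * b (Pi.single k 1) (Pi.single j 1) := rfl
      _ = ∑ k, s k j * b (Pi.single k 1) (Pi.single i 1) := h1
      _ = _ := by
          refine Finset.sum_congr rfl fun k _ => ?_
          rw [Matrix.of_apply, mul_comm, hsym]

end Cfsg.Agent.H346.LNSelf
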